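import Cfsg.Agent.Lib.Classical.UFrameMax.FixEven

/-!
# The field with four elements
-/

set_option autoImplicit false
set_option linter.unusedSectionVars false

open Module

namespace CfsgLib.Classical.UFrameMax

variable {F : Type*} [Field F] [DecidableEq F] [Fintype F] {V : Type*} [AddCommGroup V] [Module F V]
  [FiniteDimensional F V] {σ : F →+* F} {B : V →ₛₗ[σ] V →ₗ[F] F} {n : ℕ} {e : Basis (Fin n) F V}
  {M : Subgroup (isomGroup B)}

namespace FSetting

variable (S : FSetting B e M) (hb : ¬ BigFixed σ)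
include S hb

theorem two_eq : (2 : F) = 0 := (small_facts S.conj hb).1

theorem term_one {x : V} {i : Fin n} (hi : i ∈ supp e x) : σ (e.repr x i) * e.repr x i = 1 := by
  rw [mul_comm]; exact (small_facts S.conj hb).2.1 _ (mem_supp.1 hi)

theorem self_card (x : V) : B x x = ((supp e x).card : F) := by
  rw [S.self_supp subset_rfl, Finset.sum_congr rfl fun i hi => S.term_one hb hi]
  simp

theorem even_cast {m : ℕ} (h : Even m) : (m : F) = 0 := by
  obtain ⟨k, rfl⟩ := h
  push_cast
  linear_combination (k : F) * S.two_eq hb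

theorem card_even {x : V} (hx : B x x = 0) : Even (supp e x).card := by
  by_contra h
  obtain ⟨k, hk⟩ := Nat.not_even_iff_odd.1 h
  rw [S.self_card hb, hk] at hx
  push_cast at hx
  exact one_ne_zero (by linear_combination hx - (k : F) * S.two_eq hb)

theorem card_odd {x : V} (hx : B x x = 1) : Odd (supp e x).card := by
  by_contra h
  rw [S.self_card hb, S.even_cast hb (Nat.not_odd_iff_even.1 h)] at hx
  exact zero_ne_one hx

theorem axis_of_ctr {p : V} (hp : Ctr M p) : IsTAxis M p := fun g c hg => by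
  by_cases hc : c = 0
  · rw [show g = 1 from Subtype.ext (LinearEquiv.ext fun x => by rw [hg.2.2, hc]; simp)]
    exact M.one_mem
  · exact hp.2 g ((small_facts S.conj hb).2.2.1 c hg.2.1 hc ▸ hg)

/-- The difference of an axis and a diagonal image. -/
theorem split_diag {p : V} (hpp : B p p = 0) (hp : IsTAxis M p) {g : isomGroup B} (hg : g ∈ M) {d : Fin n → F}
    (hgp : ∀ i, e.repr (g.1 p) i = d i * e.repr p i) (hd : ∑ i ∈ supp e p, σ (d i) = 1) :
    IsTAxis M (p - g.1 p) := by
  have h1 : B (g.1 p) p = 1 := by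
    rw [S.form_supp (T := supp e p) Finset.inter_subset_right, ← hd]
    refine Finset.sum_congr rfl fun i hi => ?_
    rw [hgp, map_mul, mul_assoc, S.term_one hb hi, mul_one]
  have hB : B (-g.1 p) (p - g.1 p) = -1 := by simp [h1, hpp]
  refine axis_split S.herm S.sep (a := -g.1 p) (by simp [hpp]) (isTAxis_neg S.herm (hp.map hg))
    (by rw [sub_neg_eq_add, sub_add_cancel]; exact hp) (by rw [hB]; simp) ?_
  rw [hB, map_neg, map_one]
  linear_combination -S.two_eq hb

theorem pair_axis {v : V} (hv : (supp e v).card = 2) : IsTAxis M v := by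
  obtain ⟨a, b, hab, hs⟩ := Finset.card_eq_two.1 hv
  have ha : e.repr v a ≠ 0 := mem_supp.1 (by simp [hs])
  have hb' : e.repr v b ≠ 0 := mem_supp.1 (by simp [hs])
  set ζ := e.repr v b / e.repr v a with hζd
  have hζ : ζ * σ ζ = 1 := (small_facts S.conj hb).2.1 _ (div_ne_zero hb' ha)
  have h := (S.axis_of_ctr hb (S.ctr_pair (S.two_eq hb) hab hζ)).smul S.conj.invol ha
  have hab' : e.repr v a * ζ = e.repr v b := by rw [hζd, mul_div_cancel₀ _ ha]
  have he : e.repr v a • (e a + ζ • e b) = v := e.repr.injective (Finsupp.ext fun k => by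
    rw [smul_add, smul_smul, hab', map_add, Finsupp.add_apply, repr_smul_basis, repr_smul_basis]
    by_cases hka : k = a
    · simp [hka, hab]
    by_cases hkb : k = b
    · simp [hkb, Ne.symm hab]
    rw [if_neg hka, if_neg hkb, notMem_supp.1 (show k ∉ supp e v by simp [hs, hka, hkb]), add_zero])
  exact he ▸ h

/-- All axes, from one of large support with a zero coordinate. -/
theorem sIsom_le_of_large {p : V} (hpp : B p p = 0) (hp : IsTAxis M p) (hs : 4 ≤ (supp e p).card) {j₀ : Fin n}
    (hj : e.repr p j₀ = 0) : sIsom B ≤ M := by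
  classical
  obtain ⟨h2, hnorm, -, ω, hω0, hω⟩ := small_facts S.conj hb
  have hω1 : ω ≠ 1 := fun h' => by
    rw [h', map_one, one_add_one_eq_two, h2] at hω
    exact zero_ne_one hω
  have hσω : σ ω * σ (σ ω) = 1 := S.norm_sigma (hnorm ω hω0)
  have hσω1 : σ ω ≠ 1 := fun h' => hω1 (by rw [← S.conj.invol ω, h', map_one])
  obtain ⟨U, hU, hU4⟩ := Finset.exists_subset_card_eq hs
  obtain ⟨u, hu⟩ := Finset.card_pos.1 (show 0 < U.card by omega)
  let d : Fin n → F := fun k => if k ∈ U then (if k = u then σ ω else ω) else 1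
  obtain ⟨g, hg, -, -, -, hgp'⟩ := S.exists_diag' d (fun k => by
    simp only [d]; split_ifs <;> first | exact hσω | exact hnorm _ hω0 | simp) j₀
  have hgp := hgp' p hj
  have hsum : ∑ i ∈ supp e p, σ (d i) = 1 := by
    have h1 : ∀ i, σ (d i) = (if i ∈ U then σ ω - 1 else 0) + (if i = u then ω - σ ω else 0) + 1 := fun i => by
      simp only [d]
      by_cases hi : i ∈ U
      · by_cases hiu : i = u
        · subst hiu; simp [hi, S.conj.invol]
        · simp [hi, hiu]
      · have hiu : i ≠ u := fun h' => hi (h' ▸ hu)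
        simp [hi, hiu]
    rw [Finset.sum_congr rfl fun i _ => h1 i, Finset.sum_add_distrib, Finset.sum_add_distrib, Finset.sum_ite_mem,
      Finset.inter_eq_right.2 hU, Finset.sum_ite_eq', if_pos (hU hu), Finset.sum_const, Finset.sum_const, hU4,
      nsmul_eq_mul, nsmul_eq_mul, mul_one, S.even_cast hb (S.card_even hb hpp)]
    push_cast
    linear_combination hω + (σ ω - 2) * h2
  have hz := S.split_diag hb hpp hp hg hgp hsum
  have hzs : supp e (p - g.1 p) = U := by
    ext k
    rw [mem_supp, map_sub, Finsupp.sub_apply, hgp]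
    by_cases hk : k ∈ U
    · simp only [hk, iff_true]
      rw [show e.repr p k - d k * e.repr p k = (1 - d k) * e.repr p k by ring]
      refine mul_ne_zero (sub_ne_zero.2 (Ne.symm ?_)) (mem_supp.1 (hU hk))
      simp only [d, if_pos hk]
      split_ifs <;> assumption
    · simp [d, hk]
  have hn : 5 ≤ n := by
    have h1 := Finset.card_lt_card (show supp e p ⊂ Finset.univ from
      (Finset.ssubset_iff_of_subset (Finset.subset_univ _)).2 ⟨j₀, Finset.mem_univ _, notMem_supp.2 hj⟩)
    rw [Finset.card_univ, Fintype.card_fin] at h1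
    omega
  have hfour : ∀ v, (supp e v).card = 4 → IsTAxis M v := fun v hv => by
    let ψ : {x // x ∈ U} ≃ {x // x ∈ supp e v} := Finset.equivOfCardEq (by rw [hU4, hv])
    obtain ⟨c, hc⟩ := S.exists_fresh U (by omega)
    refine S.axis_mono hz ψ.extendSubtype (fun k => ?_) (j₀ := c) (by rwa [← notMem_supp, hzs])
    by_cases hk : k ∈ U
    · have h1 : k ∈ supp e (p - g.1 p) := by rw [hzs]; exact hk
      rw [hnorm _ (mem_supp.1 (ψ.extendSubtype_mem k hk)), hnorm _ (mem_supp.1 h1)]
    · have h1 : k ∉ supp e (p - g.1 p) := by rw [hzs]; exact hk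
      rw [notMem_supp.1 (ψ.extendSubtype_not_mem k hk), notMem_supp.1 h1]
  refine S.herm.sIsom_le_of_axes S.sep ?_ fun v hv => S.axes_of_small (m := 4) (Or.inr rfl) (fun w hw hw4 => ?_) hv
  · rw [Module.finrank_eq_card_basis e, Fintype.card_fin]; omega
  · obtain ⟨r, hr⟩ := S.card_even hb hw
    rcases (show r = 0 ∨ r = 1 ∨ r = 2 by omega) with rfl | rfl | rfl
    · rw [eq_zero_iff_supp.1 (Finset.card_eq_zero.1 hr)]; exact S.herm.isTAxis_zero M
    · exact S.pair_axis hb hr
    · exact hfour w hr

/-- The supports of two columns. -/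
theorem column_types (hfull : ∀ v, B v v = 0 → IsTAxis M v → (supp e v).card ≤ 2 ∨ (supp e v).card = n)
    (hev : Even n) {g : isomGroup B} (hg : g ∈ M) {a b : Fin n} (hab : a ≠ b) :
    ((supp e (g.1 (e a))).card = 1 ∧ (supp e (g.1 (e b))).card = 1) ∨
      (supp e (g.1 (e a)) = supp e (g.1 (e b)) ∧ (supp e (g.1 (e a))).card = 3) ∨
      supp e (g.1 (e b)) = (supp e (g.1 (e a)))ᶜ ∨
      ∃ i j l, i ≠ j ∧ supp e (g.1 (e a)) = {j}ᶜ ∧ supp e (g.1 (e b)) = {i}ᶜ ∧
        ∀ k, k ≠ i → k ≠ j → e.repr (g.1 (e a)) k = l * e.repr (g.1 (e b)) k := by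
  classical
  obtain ⟨h2, hnorm, -, -⟩ := small_facts S.conj hb
  set u := g.1 (e a) with hu
  set v := g.1 (e b) with hv
  have huu : B u u = 1 := by rw [hu, isomGroup_apply, S.on, if_pos rfl]
  have hvv : B v v = 1 := by rw [hv, isomGroup_apply, S.on, if_pos rfl]
  have huv : B u v = 0 := by rw [hu, hv, isomGroup_apply, S.on, if_neg hab]
  have hall : ∀ l : F, l * σ l = 1 → (supp e (u + l • v)).card ≤ 2 ∨ (supp e (u + l • v)).card = n := fun l hl => by
    have h1 := S.ctr_pair h2 hab hl
    have h3 : u + l • v = g.1 (e a + l • e b) := by rw [map_add, map_smul]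
    rw [h3]
    exact hfull _ ((isomGroup_apply g _ _).trans h1.1) ((S.axis_of_ctr hb h1).map hg)
  have huo := S.card_odd hb huu
  have hvo := S.card_odd hb hvv
  have hW : ∀ l : F, supp e (u + l • v) ⊆ supp e u ∪ supp e v := fun l => by
    refine supp_subset_iff.2 fun k hk => ?_
    simp only [Finset.mem_union, not_or, notMem_supp] at hk
    simp [hk.1, hk.2]
  by_cases hfullW : supp e u ∪ supp e v = Finset.univ
  · by_cases hex : ∃ l : F, l * σ l = 1 ∧ (supp e (u + l • v)).card ≤ 2
    · obtain ⟨l, hl, hl2⟩ := hex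
      have hne : ∀ {w : V}, Odd (supp e w).card → ∃ k, k ∉ supp e w := fun {w} hw => by
        refine S.exists_fresh _ (lt_of_le_of_ne (by simpa using Finset.card_le_univ (supp e w)) fun h' => ?_)
        rw [h'] at hw
        exact Nat.not_even_iff_odd.2 hw hev
      obtain ⟨j, hj⟩ := hne huo
      obtain ⟨i, hi⟩ := hne hvo
      have hmemU : ∀ k, k ∈ supp e u ∨ k ∈ supp e v := fun k => Finset.mem_union.1 (hfullW ▸ Finset.mem_univ k)
      have hij : i ≠ j := fun h' => by
        rcases hmemU i with h1 | h1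
        · exact hj (h' ▸ h1)
        · exact hi h1
      have hsub : supp e (u + l • v) = {i, j} := by
        refine (Finset.eq_of_subset_of_card_le (fun k hk => ?_) (by rw [Finset.card_pair hij]; exact hl2)).symm
        simp only [Finset.mem_insert, Finset.mem_singleton] at hk
        rw [mem_supp, map_add, map_smul, Finsupp.add_apply, Finsupp.smul_apply, smul_eq_mul]
        rcases hk with rfl | rfl
        · rw [notMem_supp.1 hi, mul_zero, add_zero]
          exact mem_supp.1 ((hmemU k).resolve_right hi)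
        · rw [notMem_supp.1 hj, zero_add]
          exact mul_ne_zero (norm_ne_zero_of hl) (mem_supp.1 ((hmemU k).resolve_left hj))
      have hrel : ∀ k, k ≠ i → k ≠ j → e.repr u k = l * e.repr v k := fun k h1 h3 => by
        have h4 : k ∉ supp e (u + l • v) := by simp [hsub, h1, h3]
        rw [notMem_supp, map_add, map_smul, Finsupp.add_apply, Finsupp.smul_apply, smul_eq_mul] at h4
        linear_combination h4 - l * e.repr v k * h2
      refine Or.inr (Or.inr (Or.inr ⟨i, j, l, hij, ?_, ?_, hrel⟩))
      · ext k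
        simp only [Finset.mem_compl, Finset.mem_singleton]
        refine ⟨fun h1 h' => hj (h' ▸ h1), fun h1 => ?_⟩
        rcases eq_or_ne k i with rfl | hki
        · exact (hmemU k).resolve_right hi
        · rcases hmemU k with h3 | h3
          · exact h3
          · exact mem_supp.2 (by rw [hrel k hki h1]; exact mul_ne_zero (norm_ne_zero_of hl) (mem_supp.1 h3))
      · ext k
        simp only [Finset.mem_compl, Finset.mem_singleton]
        refine ⟨fun h1 h' => hi (h' ▸ h1), fun h1 => ?_⟩
        rcases eq_or_ne k j with rfl | hkj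
        · exact (hmemU k).resolve_left hj
        · rcases hmemU k with h3 | h3
          · refine mem_supp.2 fun h' => mem_supp.1 h3 ?_
            rw [hrel k h1 hkj, h', mul_zero]
          · exact h3
    · push Not at hex
      refine Or.inr (Or.inr (Or.inl ?_))
      ext k
      rw [Finset.mem_compl]
      refine ⟨fun h1 h3 => ?_, fun h1 => (Finset.mem_union.1 (hfullW ▸ Finset.mem_univ k)).resolve_left h1⟩
      set l := e.repr u k / e.repr v k with hld
      have hl := hnorm l (div_ne_zero (mem_supp.1 h3) (mem_supp.1 h1))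
      have h4 := hex l hl
      have h5 : (supp e (u + l • v)).card = n := (hall l hl).resolve_left (by omega)
      have h6 : k ∈ supp e (u + l • v) := by
        rw [Finset.eq_univ_of_card _ (h5.trans (Fintype.card_fin n).symm)]
        exact Finset.mem_univ k
      rw [mem_supp, map_add, map_smul, Finsupp.add_apply, Finsupp.smul_apply, smul_eq_mul, hld,
        div_mul_cancel₀ _ (mem_supp.1 h1)] at h6
      exact h6 (by linear_combination e.repr u k * h2)
  · have hlt : (supp e u ∪ supp e v).card < n := by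
      refine lt_of_le_of_ne (by simpa using Finset.card_le_univ (supp e u ∪ supp e v)) fun h' => hfullW ?_
      exact Finset.eq_univ_of_card _ (h'.trans (Fintype.card_fin n).symm)
    rcases S.pair_supp huv (Finset.card_pos.1 huo.pos) (Finset.card_pos.1 hvo.pos) (fun l hl =>
      (hall l hl).resolve_right fun h' => by
        have := Finset.card_le_card (hW l)
        omega) with h1 | ⟨h1, h3⟩
    · exact Or.inl h1
    · obtain ⟨r, hr⟩ := huo
      rcases (show (supp e u).card = 1 ∨ (supp e u).card = 3 by omega) with h4 | h4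
      · exact Or.inl ⟨h4, h1 ▸ h4⟩
      · exact Or.inr (Or.inl ⟨h1, h4⟩)

/-- A non-monomial element gives a large axis with a zero coordinate. -/
theorem exists_large (hn : 8 ≤ n) {g : isomGroup B} (hg : g ∈ M) (hgm : ¬ Mono e g) :
    ∃ p, B p p = 0 ∧ IsTAxis M p ∧ 4 ≤ (supp e p).card ∧ ∃ j, e.repr p j = 0 := by
  classical
  by_contra! hno
  obtain ⟨h2, hnorm, -, ω, hω0, hω⟩ := small_facts S.conj hb
  have hfull : ∀ v, B v v = 0 → IsTAxis M v → (supp e v).card ≤ 2 ∨ (supp e v).card = n := fun v hv hax => by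
    obtain ⟨r, hr⟩ := S.card_even hb hv
    refine or_iff_not_imp_left.2 fun h1 => ?_
    have h3 : supp e v = Finset.univ := Finset.eq_univ_of_forall fun k => mem_supp.2 (hno v hv hax (by omega) k)
    rw [h3, Finset.card_univ, Fintype.card_fin]
  obtain ⟨a₀, b₀, l₀, hab₀, hl₀, h3⟩ := S.exists_spread hgm
  have hev : Even n := by
    have h1 := S.ctr_pair h2 hab₀ hl₀
    have hiso := (isomGroup_apply g _ _).trans h1.1
    have h4 := (hfull _ hiso ((S.axis_of_ctr hb h1).map hg)).resolve_left (by omega)
    exact h4 ▸ S.card_even hb hiso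
  set T : Fin n → Finset (Fin n) := fun a => supp e (g.1 (e a)) with hT
  have htypes : ∀ {a b}, a ≠ b → _ := fun {a b} (hab : a ≠ b) => S.column_types hb hfull hev hg hab
  have hcompl : ∀ s : Finset (Fin n), sᶜ.card = n - s.card := fun s => by rw [Finset.card_compl, Fintype.card_fin]
  -- no column of support three
  have hno3 : ∀ a, (T a).card ≠ 3 := by
    intro a ha
    have hcases : ∀ b, T b = T a ∨ T b = (T a)ᶜ := fun b => by
      rcases eq_or_ne b a with rfl | hba
      · exact Or.inl rfl
      rcases htypes hba.symm with ⟨h1, -⟩ | ⟨h1, -⟩ | h1 | ⟨i, j, l, -, h1, -, -⟩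
      · simp only [hT] at ha; omega
      · exact Or.inl h1.symm
      · exact Or.inr h1
      · simp only [hT] at ha; rw [h1, hcompl, Finset.card_singleton] at ha; omega
    have hA : (Finset.univ.filter fun b => T b = T a).card ≤ 3 :=
      ha ▸ S.card_le_of_supp g fun b hb' => ((Finset.mem_filter.1 hb').2).le
    have hA' : (Finset.univ.filter fun b => T b = (T a)ᶜ).card ≤ 1 := Finset.card_le_one.2 fun b hb₁ c hc₁ => by
      by_contra hbc
      simp only [Finset.mem_filter, Finset.mem_univ, true_and, hT] at hb₁ hc₁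
      simp only [hT] at ha
      rcases htypes hbc with ⟨h1, -⟩ | ⟨-, h1⟩ | h1 | ⟨i, j, l, -, h1, -, -⟩
      · rw [hb₁, hcompl] at h1; omega
      · rw [hb₁, hcompl] at h1; omega
      · rw [hb₁, hc₁] at h1
        have := congrArg Finset.card h1
        rw [hcompl, hcompl, hcompl] at this; omega
      · rw [hb₁] at h1
        have := congrArg Finset.card h1
        rw [hcompl, hcompl, Finset.card_singleton] at this; omega
    have h4 := (Finset.card_le_card (s := Finset.univ) fun b _ =>
      Finset.mem_union.2 ((hcases b).imp (fun h' => Finset.mem_filter.2 ⟨Finset.mem_univ b, h'⟩)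
        fun h' => Finset.mem_filter.2 ⟨Finset.mem_univ b, h'⟩)).trans (Finset.card_union_le _ _)
    simp at h4
    omega
  -- no column of support one
  have hno1 : ∀ a, (T a).card ≠ 1 := by
    intro a ha
    have hcases : ∀ b, b ≠ a → (T b).card = 1 ∨ T b = (T a)ᶜ := fun b hba => by
      rcases htypes hba.symm with ⟨-, h1⟩ | ⟨-, h1⟩ | h1 | ⟨i, j, l, -, h1, -, -⟩
      · exact Or.inl h1
      · simp only [hT] at ha; omega
      · exact Or.inr h1
      · simp only [hT] at ha; rw [h1, hcompl, Finset.card_singleton] at ha; omega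
    refine hgm (Mono.of_card fun b => ?_)
    by_contra hb1
    have hba : b ≠ a := fun h' => hb1 (by rw [h']; exact ha.le)
    have hTb := (hcases b hba).resolve_left fun h' => hb1 h'.le
    have huniq : ∀ c, c ≠ a → c ≠ b → (T c).card = 1 := fun c hca hcb => (hcases c hca).resolve_right fun hTc => by
      simp only [hT] at hTb hTc ha
      rcases htypes hcb with ⟨h1, -⟩ | ⟨-, h1⟩ | h1 | ⟨i, j, l, hij, h1, h5, -⟩
      · rw [hTc, hcompl] at h1; omega
      · rw [hTc, hcompl] at h1; omega
      · rw [hTb, hTc] at h1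
        have := congrArg Finset.card h1
        rw [hcompl, hcompl, hcompl] at this; omega
      · rw [hTc] at h1; rw [hTb, h1] at h5
        exact hij (Finset.singleton_injective (compl_injective h5)).symm
    obtain ⟨c, hc⟩ := S.exists_fresh {a, b} (lt_of_le_of_lt Finset.card_le_two (by omega))
    simp only [Finset.mem_insert, Finset.mem_singleton, not_or] at hc
    have hTc := huniq c hc.1 hc.2
    have heq : T c = T a := by
      simp only [hT] at hTc hTb ha ⊢
      rcases htypes hc.2 with ⟨-, h1⟩ | ⟨-, h1⟩ | h1 | ⟨i, j, l, -, h1, -, -⟩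
      · rw [hTb, hcompl] at h1; omega
      · omega
      · rw [hTb] at h1; exact (compl_injective h1).symm
      · rw [h1, hcompl, Finset.card_singleton] at hTc; omega
    have := S.card_le_of_supp g (T := {a, c}) (U := T a) fun x hx => by
      simp only [Finset.mem_insert, Finset.mem_singleton] at hx
      rcases hx with rfl | rfl
      · exact le_rfl
      · exact heq.le
    rw [ha, Finset.card_pair (Ne.symm hc.1)] at this
    omega
  -- every pair of columns
  have hN : ∀ {a b}, a ≠ b → ∃ i j l, i ≠ j ∧ T a = {j}ᶜ ∧ T b = {i}ᶜ ∧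
      ∀ k, k ≠ i → k ≠ j → e.repr (g.1 (e a)) k = l * e.repr (g.1 (e b)) k := fun {a b} hab => by
    rcases htypes hab with ⟨h1, -⟩ | ⟨-, h1⟩ | h1 | h1
    · exact absurd h1 (hno1 a)
    · exact absurd h1 (hno3 a)
    · exfalso
      obtain ⟨c, hc⟩ := S.exists_fresh {a, b} (lt_of_le_of_lt Finset.card_le_two (by omega))
      simp only [Finset.mem_insert, Finset.mem_singleton, not_or] at hc
      rcases htypes (Ne.symm hc.1) with ⟨h4, -⟩ | ⟨-, h4⟩ | h4 | ⟨i, j, l, -, h4, -, -⟩
      · exact hno1 a h4
      · exact hno3 a h4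
      · rcases htypes (Ne.symm hc.2) with ⟨h5, -⟩ | ⟨-, h5⟩ | h5 | ⟨i, j, l, -, h5, -, -⟩
        · exact hno1 b h5
        · exact hno3 b h5
        · rw [h4, h1] at h5
          have h6 := compl_injective h5
          have := congrArg Finset.card h6
          rw [hcompl] at this
          obtain ⟨r, hr⟩ := hev
          obtain ⟨s, hs⟩ := S.card_odd hb (show B (g.1 (e a)) (g.1 (e a)) = 1 by
            rw [isomGroup_apply, S.on, if_pos rfl])
          obtain ⟨x, hx⟩ := Finset.card_pos.1 (show 0 < (supp e (g.1 (e a))).card by omega)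
          have hxc := hx
          rw [h6, Finset.mem_compl] at hxc
          exact hxc hx
        · rw [h1] at h5
          exact hno1 a (by simp only [hT]; rw [compl_injective h5]; exact Finset.card_singleton j)
      · refine hno1 b ?_
        simp only [hT]
        rw [h1, h4, compl_compl, Finset.card_singleton]
    · exact h1
  -- the common vector
  have hone : ∀ a, ∃ i, T a = {i}ᶜ := fun a => by
    obtain ⟨b, hb'⟩ := S.exists_fresh {a} (by simp; omega)
    obtain ⟨i, j, l, -, h1, -, -⟩ := hN (a := a) (b := b) (fun h' => hb' (by simp [h']))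
    exact ⟨j, h1⟩
  choose ξ hξ using hone
  have hN' : ∀ {a b}, a ≠ b → ξ a ≠ ξ b ∧ ∃ l, ∀ k, k ≠ ξ a → k ≠ ξ b →
      e.repr (g.1 (e a)) k = l * e.repr (g.1 (e b)) k := fun {a b} hab => by
    obtain ⟨i, j, l, hij, h1, h4, h5⟩ := hN hab
    rw [hξ] at h1 h4
    have hj : ξ a = j := Finset.singleton_injective (compl_injective h1)
    have hi : ξ b = i := Finset.singleton_injective (compl_injective h4)
    subst hi hj
    exact ⟨hij.symm, l, fun k hk hk' => h5 k hk' hk⟩
  have hinj : Function.Injective ξ := fun a b h' => by_contra fun hab => (hN' hab).1 h'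
  have hcoord : ∀ a k, (e.repr (g.1 (e a)) k ≠ 0 ↔ k ≠ ξ a) := fun a k => by
    rw [← mem_supp, show supp e (g.1 (e a)) = _ from hξ a]; simp
  obtain ⟨a1, ha1⟩ := S.exists_fresh {a₀} (by simp; omega)
  have ha01 : a₀ ≠ a1 := fun h' => ha1 (by simp [h'])
  obtain ⟨h01, ζ, hζ⟩ := hN' ha01
  set w := g.1 (e a₀) + (ζ * e.repr (g.1 (e a1)) (ξ a₀)) • e (ξ a₀) with hw
  have hwr : ∀ k, e.repr w k = if k = ξ a₀ then ζ * e.repr (g.1 (e a1)) (ξ a₀) else e.repr (g.1 (e a₀)) k := fun k => by
    rw [hw, map_add, Finsupp.add_apply, repr_smul_basis]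
    split_ifs with hk
    · rw [hk, not_not.1 (mt (hcoord a₀ (ξ a₀)).1 (fun h' => h' rfl)), zero_add]
    · rw [add_zero]
  have hζ0 : ζ ≠ 0 := fun h' => by
    obtain ⟨k, hk⟩ := S.exists_fresh {ξ a₀, ξ a1} (lt_of_le_of_lt Finset.card_le_two (by omega))
    simp only [Finset.mem_insert, Finset.mem_singleton, not_or] at hk
    have := hζ k hk.1 hk.2
    rw [h', zero_mul] at this
    exact (hcoord a₀ k).2 hk.1 this
  have hwfull : supp e w = Finset.univ := Finset.eq_univ_of_forall fun k => mem_supp.2 (by
    rw [hwr]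
    split_ifs with hk
    · exact mul_ne_zero hζ0 ((hcoord a1 _).2 h01)
    · exact (hcoord a₀ k).2 hk)
  have hprop : ∀ b, ∃ κ : F, ∀ k, k ≠ ξ b → e.repr (g.1 (e b)) k = κ * e.repr w k := by
    intro b
    rcases eq_or_ne b a₀ with rfl | hb0
    · exact ⟨1, fun k hk => by rw [hwr, if_neg hk, one_mul]⟩
    obtain ⟨-, η, hη⟩ := hN' hb0
    refine ⟨η, fun k hk => ?_⟩
    rw [hwr]
    split_ifs with hk0
    · subst hk0
      rcases eq_or_ne b a1 with rfl | hb1
      · obtain ⟨m, hm⟩ := S.exists_fresh {ξ a₀, ξ b} (lt_of_le_of_lt Finset.card_le_two (by omega))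
        simp only [Finset.mem_insert, Finset.mem_singleton, not_or] at hm
        have h5 := hζ m hm.1 hm.2
        have h6 := hη m hm.2 hm.1
        rw [h5, ← mul_assoc] at h6
        have h7 : η * ζ = 1 := mul_right_cancel₀ ((hcoord b m).2 hm.2) (by rw [one_mul]; exact h6.symm)
        rw [← mul_assoc, h7, one_mul]
      · obtain ⟨-, θ, hθ⟩ := hN' hb1
        obtain ⟨m, hm⟩ := S.exists_fresh {ξ a₀, ξ b, ξ a1} (lt_of_le_of_lt Finset.card_le_three (by omega))
        simp only [Finset.mem_insert, Finset.mem_singleton, not_or] at hm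
        have h6 := hη m hm.2.1 hm.1
        have h7 := hθ m hm.2.1 hm.2.2
        rw [hζ m hm.1 hm.2.2, h7, ← mul_assoc] at h6
        rw [hθ _ hk h01, ← mul_assoc, ← mul_right_cancel₀ ((hcoord a1 m).2 hm.2.2) h6]
    · exact hη k hk hk0
  have hww : B w w = 0 := by
    rw [S.self_card hb, hwfull, Finset.card_univ, Fintype.card_fin]; exact S.even_cast hb hev
  obtain ⟨t, ht⟩ := S.herm.exists_uTv S.sep hww (S.one_trace h2)
  have hte : ∀ k i, e.repr (t.1 (e k)) i = if i = k then 0 else σ (e.repr w k) * e.repr w i := fun k i => by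
    have hk : k ∈ supp e w := by rw [hwfull]; exact Finset.mem_univ k
    rw [ht.2.2, ← S.herm.symm (e k) w, S.coord, one_mul, map_add, map_smul, Finsupp.add_apply, Finsupp.smul_apply,
      ← one_smul F (e k), repr_smul_basis, smul_eq_mul]
    split_ifs with hik
    · rw [hik, S.term_one hb hk, one_add_one_eq_two, h2]
    · rw [zero_add]
  have htm : Mono e (t⁻¹ * g) := fun b => by
    obtain ⟨κ, hκ⟩ := hprop b
    refine ⟨ξ b, κ / σ (e.repr w (ξ b)), ?_⟩
    change t.1.symm (g.1 (e b)) = _
    rw [LinearEquiv.symm_apply_eq, map_smul]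
    refine e.repr.injective (Finsupp.ext fun k => ?_)
    rw [map_smul, Finsupp.smul_apply, hte, smul_eq_mul]
    split_ifs with hk
    · rw [mul_zero]
      exact not_not.1 (mt (hcoord b k).1 (fun h' => h' hk))
    · have hw0 : σ (e.repr w (ξ b)) ≠ 0 := fun h' => by
        have : ξ b ∈ supp e w := by rw [hwfull]; exact Finset.mem_univ _
        exact mem_supp.1 this (S.sigma_eq_zero h')
      rw [hκ k hk]; field_simp
  have hdet : idet B (t⁻¹ * g) = 1 := by
    rw [map_mul, map_inv, S.herm.idet_uTv ht, inv_one, one_mul]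
    exact MonoidHom.mem_ker.1 (S.le hg)
  have htM : t ∈ M := by
    have := M.mul_mem hg (M.inv_mem (S.mem _ hdet htm))
    simpa using this
  have hwax : IsTAxis M w := S.axis_of_ctr hb ⟨hww, fun g' hg' => by
    rwa [show g' = t from Subtype.ext (LinearEquiv.ext fun x => by rw [hg'.2.2, ht.2.2])]⟩
  -- six coordinates
  obtain ⟨U, -, hU⟩ := Finset.exists_subset_card_eq (s := (Finset.univ : Finset (Fin n))) (n := 6)
    (by simp; omega)
  obtain ⟨U₁, hU₁, hU₁c⟩ := Finset.exists_subset_card_eq (s := U) (n := 3) (by omega)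
  let d : Fin n → F := fun k => if k ∈ U then (if k ∈ U₁ then ω else σ ω) else 1
  have hωn := hnorm ω hω0
  have hU₂ : (U \ U₁).card = 3 := by rw [Finset.card_sdiff_of_subset hU₁]; omega
  obtain ⟨f, hf, hfd⟩ := S.exists_diag d fun k => by
    simp only [d]; split_ifs <;> first | exact hωn | exact S.norm_sigma hωn | simp
  have hfdet : idet B f = 1 := by
    rw [hfd]
    simp only [d]
    rw [Finset.prod_ite_mem, Finset.univ_inter, ← Finset.prod_sdiff hU₁,
      Finset.prod_congr rfl fun k hk => if_neg (Finset.mem_sdiff.1 hk).2,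
      Finset.prod_congr (s₁ := U₁) rfl fun k hk => if_pos hk, Finset.prod_const, Finset.prod_const, hU₂, hU₁c,
      ← mul_pow, mul_comm (σ ω), hωn, one_pow]
  have hfM : f ∈ M := S.mem f hfdet fun k => ⟨k, d k, hf k⟩
  have hfw : ∀ k, e.repr (f.1 w) k = d k * e.repr w k := fun k => repr_mono 1 d hf w k
  have hωz := S.split_diag hb hww hwax hfM hfw (by
    rw [hwfull]
    have h1 : ∀ i, σ (d i) = (if i ∈ U₁ then σ ω - 1 else 0) + (if i ∈ U \ U₁ then ω - 1 else 0) + 1 := fun i => by
      simp only [d]
      by_cases hi : i ∈ U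
      · by_cases hi1 : i ∈ U₁
        · simp [hi, hi1]
        · simp [hi, hi1, S.conj.invol]
      · have hi1 : i ∉ U₁ := fun h' => hi (hU₁ h')
        simp [hi, hi1]
    rw [Finset.sum_congr rfl fun i _ => h1 i, Finset.sum_add_distrib, Finset.sum_add_distrib, Finset.sum_ite_mem,
      Finset.sum_ite_mem, Finset.univ_inter, Finset.univ_inter, Finset.sum_const, Finset.sum_const,
      Finset.sum_const, hU₁c, hU₂, Finset.card_univ, Fintype.card_fin, nsmul_eq_mul, nsmul_eq_mul, nsmul_eq_mul,
      mul_one, S.even_cast hb hev]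
    push_cast
    linear_combination (3 : F) * hω - 2 * h2)
  have hω1 : ω ≠ 1 := fun h' => by
    rw [h', map_one, one_add_one_eq_two, h2] at hω
    exact zero_ne_one hω
  have hzsupp : supp e (w - f.1 w) = U := by
    ext k
    rw [mem_supp, map_sub, Finsupp.sub_apply, hfw]
    by_cases hk : k ∈ U
    · simp only [hk, iff_true]
      rw [show e.repr w k - d k * e.repr w k = (1 - d k) * e.repr w k by ring]
      refine mul_ne_zero (sub_ne_zero.2 (Ne.symm ?_)) (mem_supp.1 (by rw [hwfull]; exact Finset.mem_univ k))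
      simp only [d, if_pos hk]
      split_ifs
      · exact hω1
      · exact fun h' => hω1 (by rw [← S.conj.invol ω, h', map_one])
    · simp [d, hk]
  rcases hfull _ (by rw [S.self_card hb, hzsupp, hU]; exact S.even_cast hb ⟨3, rfl⟩) hωz with h7 | h7
  · rw [hzsupp] at h7; omega
  · rw [hzsupp] at h7; omega

theorem sIsom_le_two (hn : 8 ≤ n) {g : isomGroup B} (hg : g ∈ M) (hgm : ¬ Mono e g) : sIsom B ≤ M := by
  obtain ⟨p, hpp, hp, hs, j, hj⟩ := S.exists_large hb hn hg hgm
  exact S.sIsom_le_of_large hb hpp hp hs hj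

end FSetting

end CfsgLib.Classical.UFrameMax
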