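import Cfsg.Agent.Lib.Classical.UFrameMax.OddCoord

/-!
# Odd characteristic: monomial elements moving a column to an orthogonal one

Under the hypothesis that elements fixing a frame line are monomial, no entry of a non-monomial element vanishes,
while for every vector without zero coordinates some monomial element maps it to an orthogonal vector.
-/

set_option autoImplicit false
set_option linter.unusedSectionVars false

open Module

namespace CfsgLib.Classical.UFrameMax

section Field

variable {F : Type*} [Field F] [DecidableEq F] [Fintype F] {σ : F →+* F}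

/-- Fixed elements are squares in the whole field. -/
theorem fixed_isSquare (hc : IsConjugation σ) (h2 : (2 : F) ≠ 0) {a : F} (ha : σ a = a) : ∃ s, s * s = a := by
  by_cases h0 : a = 0
  · exact ⟨0, by rw [h0, mul_zero]⟩
  have hF : ringChar F ≠ 2 := fun h => h2 (by simpa using (ringChar.spec F 2).2 (h ▸ dvd_rfl))
  obtain ⟨y, hy⟩ := hc.exists_norm_eq ha
  have hy0 : y ≠ 0 := fun h => h0 (by rw [← hy, h, zero_mul])
  obtain ⟨s, hs⟩ := (FiniteField.isSquare_iff hF h0).2 (by
    rw [← hy, mul_pow, ← map_pow]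
    rcases FiniteField.pow_dichotomy hF hy0 with h | h <;> rw [h] <;> simp)
  exact ⟨s, hs.symm⟩

/-- Among three fixed elements two have a product with a fixed square root. -/
theorem exists_sqrt_pair (hc : IsConjugation σ) (h2 : (2 : F) ≠ 0) {x y z : F} (hx : σ x = x) (hy : σ y = y)
    (hz : σ z = z) :
    (∃ r, σ r = r ∧ r * r = x * y) ∨ (∃ r, σ r = r ∧ r * r = x * z) ∨ ∃ r, σ r = r ∧ r * r = y * z := by
  obtain ⟨s, hs⟩ := fixed_isSquare hc h2 hx
  obtain ⟨t, ht⟩ := fixed_isSquare hc h2 hy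
  obtain ⟨u, hu⟩ := fixed_isSquare hc h2 hz
  have sign : ∀ {b a : F}, σ a = a → b * b = a → σ b = b ∨ σ b = -b := fun {b a} ha hb =>
    mul_self_eq_mul_self_iff.1 (by rw [← map_mul, hb, ha])
  have mk : ∀ {b b' a a' : F}, b * b = a → b' * b' = a' → σ b * σ b' = b * b' →
      ∃ r, σ r = r ∧ r * r = a * a' := fun {b b' a a'} hb hb' h =>
    ⟨b * b', by rw [map_mul, h], by rw [mul_mul_mul_comm, hb, hb']⟩
  rcases sign hx hs with h1 | h1 <;> rcases sign hy ht with h3 | h3 <;> rcases sign hz hu with h4 | h4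
  exacts [
    Or.inl (mk hs ht (by simp [h1, h3])),
    Or.inl (mk hs ht (by simp [h1, h3])),
    Or.inr (Or.inl (mk hs hu (by simp [h1, h4]))),
    Or.inr (Or.inr (mk ht hu (by simp [h3, h4]))),
    Or.inr (Or.inr (mk ht hu (by simp [h3, h4]))),
    Or.inr (Or.inl (mk hs hu (by simp [h1, h4]))),
    Or.inl (mk hs ht (by simp [h1, h3])),
    Or.inl (mk hs ht (by simp [h1, h3]))]

/-- Two affine images of the traces of norm-one elements have a common non-zero value. -/
theorem exists_meet (hc : IsConjugation σ) {a b a' b' : F} (ha : σ a = a) (hb : σ b = b) (ha' : σ a' = a')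
    (hb' : σ b' = b') (hb0 : b ≠ 0) (hb0' : b' ≠ 0) :
    ∃ w w' : F, w * σ w = 1 ∧ w' * σ w' = 1 ∧ a + b * (w + σ w) = a' + b' * (w' + σ w') ∧
      a + b * (w + σ w) ≠ 0 := by
  have hsub : ∀ {a b : F}, σ a = a → σ b = b → ((trS σ).image fun τ => a + b * τ) ⊆ fixS σ :=
    fun {a b} ha hb x hx => by
      obtain ⟨τ, hτ, rfl⟩ := Finset.mem_image.1 hx
      simp [ha, hb, mem_fixS.1 (trS_subset hc hτ)]
  obtain ⟨x, hx, hx', hx0⟩ := two_common (hsub ha hb) (hsub ha' hb') (by
    rw [card_aff hc hb0, card_aff hc hb0']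
    have := card_trS hc; omega) 0
  obtain ⟨_, hwT, rfl⟩ := Finset.mem_image.1 hx
  obtain ⟨_, hwT', e'⟩ := Finset.mem_image.1 hx'
  obtain ⟨w, hw, rfl⟩ := mem_trS.1 hwT
  obtain ⟨w', hw', rfl⟩ := mem_trS.1 hwT'
  exact ⟨w, w', hw, hw', e'.symm, hx0⟩

end Field

variable {F : Type*} [Field F] [DecidableEq F] [Fintype F] {V : Type*} [AddCommGroup V] [Module F V]
  [FiniteDimensional F V] {σ : F →+* F} {B : V →ₛₗ[σ] V →ₗ[F] F} {n : ℕ} {e : Basis (Fin n) F V}
  {M : Subgroup (isomGroup B)}

/-- The involution with minus space spanned by two orthogonal unit vectors. -/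
def IsT (g : isomGroup B) (u v : V) : Prop :=
  ∀ x, g.1 x = x + ((-2 : F) * B u x) • u + ((-2 : F) * B v x) • v

theorem IsT.conj {g : isomGroup B} {u v : V} (hg : IsT g u v) (k : isomGroup B) :
    IsT (k * g * k⁻¹) (k.1 u) (k.1 v) := fun x => by
  obtain ⟨y, rfl⟩ := k.1.surjective x
  change k.1 (g.1 (k.1.symm (k.1 y))) = _
  rw [LinearEquiv.symm_apply_apply, hg, map_add, map_add, map_smul, map_smul, isomGroup_apply, isomGroup_apply]

namespace FSetting

variable (S : FSetting B e M)
include S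

theorem exists_T {a b : Fin n} (hab : a ≠ b) : ∃ t ∈ M, IsT t (e a) (e b) := by
  classical
  let d : Fin n → F := fun k => if k = a ∨ k = b then -1 else 1
  obtain ⟨g, hg, hgd⟩ := S.exists_diag d fun k => by simp only [d]; split_ifs <;> simp
  refine ⟨g, S.mem g ?_ fun k => ⟨k, d k, hg k⟩, fun x => e.repr.injective (Finsupp.ext fun k => ?_)⟩
  · rw [hgd, ← Finset.prod_subset (Finset.subset_univ {a, b}) fun k _ hk => by
      simp only [Finset.mem_insert, Finset.mem_singleton, not_or] at hk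
      simp [d, hk.1, hk.2], Finset.prod_pair hab]
    simp [d]
  · rw [show e.repr (g.1 x) k = d k * e.repr x k from repr_mono 1 d hg x k, S.coord, S.coord, map_add, map_add,
      Finsupp.add_apply, Finsupp.add_apply, repr_smul_basis, repr_smul_basis]
    rcases eq_or_ne k a with rfl | hka
    · simp [d, hab]; ring
    rcases eq_or_ne k b with rfl | hkb
    · simp [d, hka]; ring
    simp [d, hka, hkb]

/-- An involution with a minus space containing a long unit vector is not monomial. -/
theorem not_mono_isT (h2 : (2 : F) ≠ 0) {s : isomGroup B} {u v : V} (hs : IsT s u v) (huu : B u u = 1)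
    (hvv : B v v = 1) (huv : B u v = 0) (hu : 5 ≤ (supp e u).card) : ¬ Mono e s := fun hmono => by
  classical
  have hsmall : ∀ m, (supp e (s.1 (e m) - e m)).card ≤ 2 := fun m => by
    obtain ⟨m', c, hc⟩ := hmono m
    refine le_trans (Finset.card_le_card (t := {m', m}) (supp_subset_iff.2 fun a ha => ?_)) Finset.card_le_two
    simp only [Finset.mem_insert, Finset.mem_singleton, not_or] at ha
    rw [hc, map_sub, Finsupp.sub_apply, ← one_smul F (e m), repr_smul_basis, repr_smul_basis, if_neg ha.1,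
      if_neg ha.2, sub_zero]
  obtain ⟨a, ha⟩ : ∃ a, e.repr u a ≠ 0 := by
    by_contra! h'
    rw [S.form] at huu
    simp [h'] at huu
  obtain ⟨b, hb⟩ : ∃ b, e.repr v b * e.repr u a ≠ e.repr v a * e.repr u b := by
    by_contra! h'
    have hv' : e.repr u a • v = e.repr v a • u := e.repr.injective (Finsupp.ext fun b => by
      rw [map_smul, map_smul, Finsupp.smul_apply, Finsupp.smul_apply, smul_eq_mul, smul_eq_mul, mul_comm, h' b])
    have h1 := congrArg (B u) hv'
    rw [map_smul, map_smul, huv, huu, smul_eq_mul, smul_eq_mul, mul_zero, mul_one] at h1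
    rw [← h1, zero_smul] at hv'
    rw [(smul_eq_zero.1 hv').resolve_left ha] at hvv
    simp at hvv
  set x := σ (e.repr v b) • (s.1 (e a) - e a) - σ (e.repr v a) • (s.1 (e b) - e b) with hx
  have hxu : x = (-2 * σ (e.repr v b * e.repr u a - e.repr v a * e.repr u b)) • u := by
    rw [hx, hs, hs, ← S.herm.symm (e a) u, ← S.herm.symm (e a) v, ← S.herm.symm (e b) u, ← S.herm.symm (e b) v,
      S.coord, S.coord, S.coord, S.coord, map_sub, map_mul, map_mul]
    module
  have hne : -2 * σ (e.repr v b * e.repr u a - e.repr v a * e.repr u b) ≠ 0 :=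
    mul_ne_zero (neg_ne_zero.2 h2) fun h' => sub_ne_zero.2 hb (S.sigma_eq_zero h')
  have h4 : (supp e x).card ≤ 4 := by
    have hsub : supp e x ⊆ supp e (s.1 (e a) - e a) ∪ supp e (s.1 (e b) - e b) := supp_subset_iff.2 fun m hm => by
      simp only [Finset.mem_union, not_or, notMem_supp] at hm
      rw [hx, map_sub, Finsupp.sub_apply, map_smul, map_smul, Finsupp.smul_apply, Finsupp.smul_apply, hm.1, hm.2,
        smul_zero, smul_zero, sub_zero]
    have := (Finset.card_le_card hsub).trans (Finset.card_union_le _ _)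
    have := hsmall a
    have := hsmall b
    omega
  rw [hxu, supp_smul hne] at h4
  omega

/-- Some phase is not an `n`-th root of one, or the field is small. -/
theorem phase_or_small : (∃ ω : F, ω * σ ω = 1 ∧ ω ^ n ≠ 1) ∨ (fixS σ).card + 1 ≤ n := by
  obtain ⟨g, hg⟩ := IsCyclic.exists_generator (α := (normHom σ).ker)
  have hord : orderOf g = (fixS σ).card + 1 := by
    rw [orderOf_eq_card_of_forall_mem_zpowers hg, ← card_circ_ker, card_circ S.conj]
  by_cases hgn : g ^ n = 1
  · exact Or.inr (hord ▸ orderOf_le_of_pow_eq_one (by have := S.big; omega) hgn)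
  · refine Or.inl ⟨((g : Fˣ) : F), ?_, fun h' => hgn (Subtype.ext (Units.ext (by simpa using h')))⟩
    rw [← normHom_apply, MonoidHom.mem_ker.1 g.2, Units.val_one]

/-- A monomial transposition with phases. -/
theorem exists_swap (h2 : (2 : F) ≠ 0) {a b : Fin n} (hab : a ≠ b) {δ δ' : F} (hδ : δ * σ δ = 1)
    (hδ' : δ' * σ δ' = 1) :
    ∃ m : isomGroup B, Mono e m ∧ (∀ j, j ∉ ({a, b} : Finset (Fin n)) → m.1 (e j) = e j) ∧
      m.1 (e a) = δ • e b ∧ m.1 (e b) = δ' • e a ∧ idet B m = -(δ * δ') := by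
  classical
  set z := e a + (-δ) • e b with hz
  have hBz : ∀ x, B z x = e.repr x a - σ δ * e.repr x b := fun x => by
    rw [hz, map_add, LinearMap.add_apply, map_smulₛₗ, LinearMap.smul_apply, map_neg, S.coord, S.coord, smul_eq_mul]
    ring
  have hra : ∀ i j, e.repr (e i) j = if j = i then 1 else 0 := fun i j => by
    conv_lhs => rw [← one_smul F (e i)]
    rw [repr_smul_basis]
  have hzz : B z z = 2 := by
    rw [hBz, hz, map_add, Finsupp.add_apply, Finsupp.add_apply, repr_smul_basis, repr_smul_basis, hra, hra,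
      if_pos rfl, if_pos rfl, if_neg hab, if_neg (Ne.symm hab)]
    linear_combination hδ
  obtain ⟨r, hr, hrd⟩ := S.herm.exists_qr S.sep (z := z) (by rw [hzz]; exact h2) (l := -1) (by simp)
  have hrx : ∀ x, r.1 x = x - B z x • z := fun x => by
    rw [hr, hzz, show ((-1 : F) - 1) / 2 = -1 by field_simp; ring]
    module
  obtain ⟨D, hD, hDd⟩ := S.exists_diag (fun k => if k = b then δ' * δ else 1) fun k => by
    split_ifs
    · rw [map_mul]; linear_combination (δ * σ δ) * hδ' + hδ
    · simp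
  have hma : (r * D).1 (e a) = δ • e b := by
    change r.1 (D.1 (e a)) = _
    rw [hD, if_neg hab, one_smul, hrx, hBz, hra, hra, if_pos rfl, if_neg (Ne.symm hab), hz]
    module
  have hmb : (r * D).1 (e b) = δ' • e a := by
    change r.1 (D.1 (e b)) = _
    rw [hD, if_pos rfl, map_smul, hrx, hBz, hra, hra, if_neg hab, if_pos rfl, hz]
    match_scalars <;> first | ring1 | linear_combination (δ' : F) * hδ | linear_combination (-δ' : F) * hδ |
      linear_combination (δ' * δ) * hδ | linear_combination (-(δ' * δ)) * hδ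
  have hmo : ∀ j, j ∉ ({a, b} : Finset (Fin n)) → (r * D).1 (e j) = e j := fun j hj => by
    simp only [Finset.mem_insert, Finset.mem_singleton, not_or] at hj
    change r.1 (D.1 (e j)) = _
    rw [hD, if_neg hj.2, one_smul, hrx, hBz, hra, hra, if_neg (Ne.symm hj.1), if_neg (Ne.symm hj.2)]
    module
  refine ⟨r * D, fun j => ?_, hmo, hma, hmb, ?_⟩
  · rcases eq_or_ne j a with rfl | hja
    · exact ⟨b, δ, hma⟩
    rcases eq_or_ne j b with rfl | hjb
    · exact ⟨a, δ', hmb⟩
    exact ⟨j, 1, by rw [hmo j (by simp [hja, hjb]), one_smul]⟩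
  · rw [map_mul, hrd, hDd, Finset.prod_ite_eq', if_pos (Finset.mem_univ b)]
    ring

theorem block_map {T : Finset (Fin n)} {m : isomGroup B} (hm : ∀ j, j ∉ T → m.1 (e j) = e j) {y : V}
    (hy : supp e y ⊆ T) : supp e (m.1 y) ⊆ T :=
  supp_subset_iff.2 fun j hj => by
    rw [← S.coord, ← hm j hj, isomGroup_apply, S.coord]
    exact supp_subset_iff.1 hy j hj

omit S in
theorem block_fix {T : Finset (Fin n)} {m : isomGroup B} (hm : ∀ j, j ∉ T → m.1 (e j) = e j) {y : V}
    (hy : Disjoint (supp e y) T) : m.1 y = y := by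
  conv_lhs => rw [← e.sum_repr y]
  conv_rhs => rw [← e.sum_repr y]
  rw [map_sum]
  refine Finset.sum_congr rfl fun j _ => ?_
  rw [map_smul]
  by_cases hj : j ∈ T
  · rw [notMem_supp.1 (Finset.disjoint_right.1 hy hj), zero_smul, zero_smul]
  · rw [hm j hj]

/-- Two blocks. -/
theorem block_mul {T T' : Finset (Fin n)} (hd : Disjoint T T') {m m' : isomGroup B}
    (hm : ∀ j, j ∉ T → m.1 (e j) = e j) (hm' : ∀ j, j ∉ T' → m'.1 (e j) = e j) (x : V) :
    (∀ j, j ∉ T ∪ T' → (m * m').1 (e j) = e j) ∧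
      B (part e (T ∪ T') x) ((m * m').1 (part e (T ∪ T') x)) =
        B (part e T x) (m.1 (part e T x)) + B (part e T' x) (m'.1 (part e T' x)) := by
  refine ⟨fun j hj => ?_, ?_⟩
  · rw [Finset.mem_union, not_or] at hj
    change m.1 (m'.1 (e j)) = _
    rw [hm' j hj.2, hm j hj.1]
  have h1 : part e (T ∪ T') x = part e T x + part e T' x := Finset.sum_union hd
  have hP := supp_part_subset (e := e) T x
  have hP' := supp_part_subset (e := e) T' x
  have hQ' := S.block_map hm' hP'
  have h3 : (m * m').1 (part e T x + part e T' x) = m.1 (part e T x) + m'.1 (part e T' x) := by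
    change m.1 (m'.1 _) = _
    rw [map_add, map_add, block_fix hm' (hd.mono_left hP), block_fix hm (hd.symm.mono_left hQ')]
  have horth : ∀ {u w : V}, supp e u ⊆ T → supp e w ⊆ T' → B u w = 0 := fun {u w} hu hw => by
    rw [S.form_supp (T := ∅) (fun j hj => absurd (hw (Finset.mem_inter.1 hj).2)
      (Finset.disjoint_left.1 hd (hu (Finset.mem_inter.1 hj).1))), Finset.sum_empty]
  rw [h1, h3, map_add, map_add, LinearMap.add_apply, LinearMap.add_apply, horth hP hQ',
    S.herm.isRefl _ _ (horth (S.block_map hm hP) hP')]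
  ring

/-- The value of a transposition on its block. -/
theorem swap_value {a b : Fin n} (hab : a ≠ b) {δ δ' : F} {m : isomGroup B} (ha : m.1 (e a) = δ • e b)
    (hb : m.1 (e b) = δ' • e a) (x : V) :
    B (part e {a, b} x) (m.1 (part e {a, b} x)) =
      δ * (σ (e.repr x b) * e.repr x a) + δ' * (σ (e.repr x a) * e.repr x b) := by
  rw [part, Finset.sum_pair hab]
  simp only [map_add, map_smul, ha, hb, LinearMap.add_apply, map_smulₛₗ, LinearMap.smul_apply, smul_eq_mul, S.on, hab,
    Ne.symm hab, if_true, if_false, RingHom.id_apply]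
  ring

/-- A block on which some monomial element of square determinant gives an orthogonal image. -/
def Neutral (_ : FSetting B e M) (x : V) (T : Finset (Fin n)) : Prop :=
  ∃ m : isomGroup B, Mono e m ∧ (∀ j, j ∉ T → m.1 (e j) = e j) ∧
    B (part e T x) (m.1 (part e T x)) = 0 ∧ ∃ r : F, r * σ r = 1 ∧ idet B m = r * r

theorem neutral_union {x : V} {T T' : Finset (Fin n)} (hd : Disjoint T T') (h : S.Neutral x T)
    (h' : S.Neutral x T') : S.Neutral x (T ∪ T') := by
  obtain ⟨m, hm, hmT, hm0, r, hr, hrd⟩ := h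
  obtain ⟨m', hm', hmT', hm0', r', hr', hrd'⟩ := h'
  obtain ⟨h1, h3⟩ := S.block_mul hd hmT hmT' x
  refine ⟨m * m', mono_mul hm hm', h1, by rw [h3, hm0, hm0', add_zero], r * r', ?_, ?_⟩
  · rw [map_mul]; linear_combination (r' * σ r') * hr + hr'
  · rw [map_mul, hrd, hrd']; ring

variable (h2 : (2 : F) ≠ 0) {x : V} (hx : ∀ k, e.repr x k ≠ 0)
include h2 hx

/-- A pair with square product: one free phase. -/
theorem zero_pair {a b : Fin n} (hab : a ≠ b) {ρ : F} (hρ : σ ρ = ρ)
    (hρ2 : ρ * ρ = (e.repr x a * σ (e.repr x a)) * (e.repr x b * σ (e.repr x b))) {θ : F} (hθ : θ * σ θ = 1) :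
    ∃ m : isomGroup B, Mono e m ∧ (∀ j, j ∉ ({a, b} : Finset (Fin n)) → m.1 (e j) = e j) ∧
      B (part e {a, b} x) (m.1 (part e {a, b} x)) = 0 ∧ idet B m = θ * θ := by
  have hσ : ∀ k, σ (e.repr x k) ≠ 0 := fun k h' => hx k (S.sigma_eq_zero h')
  obtain ⟨m, hm, hmo, hma, hmb, hmd⟩ := S.exists_swap h2 hab (δ := θ * ρ / (σ (e.repr x b) * e.repr x a))
    (δ' := -(θ * ρ) / (σ (e.repr x a) * e.repr x b))
    (by
      simp only [map_div₀, map_mul, hρ, S.conj.invol]
      field_simp [hx a, hx b, hσ a, hσ b]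
      linear_combination (ρ * ρ) * hθ + hρ2)
    (by
      simp only [map_div₀, map_mul, map_neg, hρ, S.conj.invol]
      field_simp [hx a, hx b, hσ a, hσ b]
      linear_combination (ρ * ρ) * hθ + hρ2)
  refine ⟨m, hm, hmo, ?_, ?_⟩
  · rw [S.swap_value hab hma hmb]
    field_simp [hx a, hx b, hσ a, hσ b]
    ring
  · rw [hmd]
    field_simp [hx a, hx b, hσ a, hσ b]
    linear_combination (θ * θ) * hρ2

/-- Two transpositions cancelling each other. -/
theorem neutral_four {a b c f : Fin n} (hab : a ≠ b) (hcf : c ≠ f)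
    (hd : Disjoint ({a, b} : Finset (Fin n)) {c, f}) : S.Neutral x ({a, b} ∪ {c, f}) := by
  have hσ : ∀ k, σ (e.repr x k) ≠ 0 := fun k h' => hx k (S.sigma_eq_zero h')
  set P₁ := (e.repr x a * σ (e.repr x a)) * (e.repr x b * σ (e.repr x b)) with hP₁
  set P₂ := (e.repr x c * σ (e.repr x c)) * (e.repr x f * σ (e.repr x f)) with hP₂
  have hfix₁ : σ P₁ = P₁ := by rw [hP₁]; simp only [map_mul, S.conj.invol]; ring
  have hfix₂ : σ P₂ = P₂ := by rw [hP₂]; simp only [map_mul, S.conj.invol]; ring
  have hP₁0 : P₁ ≠ 0 := mul_ne_zero (mul_ne_zero (hx a) (hσ a)) (mul_ne_zero (hx b) (hσ b))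
  have hP₂0 : P₂ ≠ 0 := mul_ne_zero (mul_ne_zero (hx c) (hσ c)) (mul_ne_zero (hx f) (hσ f))
  obtain ⟨w, w', hw, hw', heq, hne⟩ := exists_meet S.conj (a := 2 * P₁) (b := P₁) (a' := 2 * P₂) (b' := P₂)
    (by rw [map_mul, map_ofNat, hfix₁]) hfix₁ (by rw [map_mul, map_ofNat, hfix₂]) hfix₂ hP₁0 hP₂0
  obtain ⟨A, hA⟩ := S.conj.exists_norm_eq hfix₁
  obtain ⟨C₀, hC₀⟩ := S.conj.exists_norm_eq hfix₂
  have hz : (A * (1 + w)) * σ (A * (1 + w)) = 2 * P₁ + P₁ * (w + σ w) := by
    rw [map_mul, map_add, map_one]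
    linear_combination ((1 + w) * (1 + σ w)) * hA + P₁ * hw
  have hz' : (C₀ * (1 + w')) * σ (C₀ * (1 + w')) = 2 * P₂ + P₂ * (w' + σ w') := by
    rw [map_mul, map_add, map_one]
    linear_combination ((1 + w') * (1 + σ w')) * hC₀ + P₂ * hw'
  have hz0 : A * (1 + w) ≠ 0 := fun h' => hne (by rw [← hz, h', zero_mul])
  have hz0' : C₀ * (1 + w') ≠ 0 := fun h' => hne (by rw [heq, ← hz', h', zero_mul])
  set u := -(A * (1 + w)) / (C₀ * (1 + w')) with hu
  have hun : u * σ u = 1 := by
    rw [hu, map_div₀, map_neg, div_mul_div_comm, neg_mul_neg, hz, hz', heq, div_self (heq ▸ hne)]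
  set C := u * C₀ with hC
  have hCn : C * σ C = P₂ := by rw [hC, map_mul]; linear_combination (C₀ * σ C₀) * hun + hC₀
  have hCz : C * (1 + w') = -(A * (1 + w)) := by
    rw [hC, mul_assoc, hu, div_mul_cancel₀ _ hz0']
  obtain ⟨m, hm, hmo, hma, hmb, hmd⟩ := S.exists_swap h2 hab (δ := A / (σ (e.repr x b) * e.repr x a))
    (δ' := A * w / (σ (e.repr x a) * e.repr x b))
    (by
      simp only [map_div₀, map_mul, S.conj.invol]
      field_simp [hx a, hx b, hσ a, hσ b]
      linear_combination hA + hP₁)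
    (by
      simp only [map_div₀, map_mul, S.conj.invol]
      field_simp [hx a, hx b, hσ a, hσ b]
      linear_combination (A * σ A) * hw + hA + hP₁)
  obtain ⟨m', hm', hmo', hmc, hmf, hmd'⟩ := S.exists_swap h2 hcf (δ := C / (σ (e.repr x f) * e.repr x c))
    (δ' := C * w' / (σ (e.repr x c) * e.repr x f))
    (by
      simp only [map_div₀, map_mul, S.conj.invol]
      field_simp [hx c, hx f, hσ c, hσ f]
      linear_combination hCn + hP₂)
    (by
      simp only [map_div₀, map_mul, S.conj.invol]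
      field_simp [hx c, hx f, hσ c, hσ f]
      linear_combination (C * σ C) * hw' + hCn + hP₂)
  obtain ⟨h1, h3⟩ := S.block_mul hd hmo hmo' x
  refine ⟨m * m', mono_mul hm hm', h1, ?_, A * A * w / P₁, ?_, ?_⟩
  · rw [h3, S.swap_value hab hma hmb, S.swap_value hcf hmc hmf]
    field_simp [hx a, hx b, hσ a, hσ b, hx c, hx f, hσ c, hσ f]
    linear_combination hCz
  · rw [map_div₀, map_mul, map_mul, hfix₁, div_mul_div_comm, div_eq_one_iff_eq (mul_ne_zero hP₁0 hP₁0)]
    linear_combination (A * σ A * (A * σ A)) * hw + (A * σ A + P₁) * hA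
  · have hw1 : 1 + w ≠ 0 := (mul_ne_zero_iff.1 hz0).2
    have hw1' : 1 + w' ≠ 0 := (mul_ne_zero_iff.1 hz0').2
    have hσeq : σ C * (1 + σ w') = -(σ A * (1 + σ w)) := by simpa using congrArg σ hCz
    have hcross : C * w' * σ A = A * σ C * w := by
      refine mul_right_cancel₀ (mul_ne_zero hw1 hw1') ?_
      linear_combination (σ A * w' * (1 + w)) * hCz + (-(A * w' * w * (1 + w))) * hσeq +
        (A * σ C * (1 + w)) * (w * hw') + (A * σ A * (1 + w)) * (w' * hw)
    have hkey : C * C * w' * P₁ = A * A * w * P₂ := by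
      linear_combination (C * A) * hcross + (C * C * w') * (-hA) + (A * A * w) * hCn
    rw [map_mul, hmd, hmd']
    field_simp [hx a, hx b, hσ a, hσ b, hx c, hx f, hσ c, hσ f, hP₁0]
    rw [hP₁, hP₂] at hkey
    linear_combination (A * A * w * (e.repr x a * σ (e.repr x a)) * (e.repr x b * σ (e.repr x b))) * hkey

/-- Some pair in a set of three coordinates has a square product. -/
theorem exists_pair {T : Finset (Fin n)} (hT : 3 ≤ T.card) : ∃ a ∈ T, ∃ b ∈ T, a ≠ b ∧ ∃ ρ : F, σ ρ = ρ ∧
    ρ * ρ = (e.repr x a * σ (e.repr x a)) * (e.repr x b * σ (e.repr x b)) := by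
  obtain ⟨U, hU, hU3⟩ := Finset.exists_subset_card_eq hT
  obtain ⟨a, b, c, hab, hac, hbc, rfl⟩ := Finset.card_eq_three.1 hU3
  have hf : ∀ k, σ (e.repr x k * σ (e.repr x k)) = e.repr x k * σ (e.repr x k) := fun k => S.conj.norm_fixed _
  rcases exists_sqrt_pair S.conj h2 (hf a) (hf b) (hf c) with h | h | h
  · exact ⟨a, hU (by simp), b, hU (by simp), hab, h⟩
  · exact ⟨a, hU (by simp), c, hU (by simp), hac, h⟩
  · exact ⟨b, hU (by simp), c, hU (by simp), hbc, h⟩

theorem neutral_even : ∀ (k : ℕ) (T : Finset (Fin n)), T.card = 2 * k + 4 → S.Neutral x T := by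
  classical
  intro k
  induction k with
  | zero =>
    intro T hT
    obtain ⟨U, hU, hU2⟩ := Finset.exists_subset_card_eq (s := T) (n := 2) (by omega)
    obtain ⟨a, b, hab, rfl⟩ := Finset.card_eq_two.1 hU2
    obtain ⟨c, f, hcf, hcd⟩ := Finset.card_eq_two.1 (show (T \ {a, b}).card = 2 by
      rw [Finset.card_sdiff_of_subset hU]; omega)
    rw [← Finset.union_sdiff_of_subset hU, hcd]
    exact S.neutral_four h2 hx hab hcf (hcd ▸ Finset.disjoint_sdiff)
  | succ k ih =>
    intro T hT
    obtain ⟨a, ha, b, hb, hab, ρ, hρ, hρ2⟩ := S.exists_pair h2 hx (T := T) (by omega)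
    have hsub : ({a, b} : Finset (Fin n)) ⊆ T := by simp [Finset.insert_subset_iff, ha, hb]
    obtain ⟨m, hm, hmo, hm0, hmd⟩ := S.zero_pair h2 hx hab hρ hρ2 (θ := 1) (by simp)
    rw [← Finset.union_sdiff_of_subset hsub]
    exact S.neutral_union Finset.disjoint_sdiff ⟨m, hm, hmo, hm0, 1, by simp, hmd⟩
      (ih _ (by rw [Finset.card_sdiff_of_subset hsub, Finset.card_pair hab]; omega))

theorem neutral_odd {T : Finset (Fin n)} (hT : 5 ≤ T.card) (hodd : Odd T.card) : S.Neutral x T := by
  classical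
  obtain ⟨U, hU, hU3⟩ := Finset.exists_subset_card_eq (s := T) (n := 3) (by omega)
  obtain ⟨a, b, c, hab, hac, hbc, rfl⟩ := Finset.card_eq_three.1 hU3
  set R := T \ {a, b, c} with hR
  obtain ⟨g, hg⟩ := Finset.card_pos.1 (show 0 < R.card by rw [hR, Finset.card_sdiff_of_subset hU]; omega)
  set ν : Fin n → F := fun k => σ (e.repr x k) * e.repr x k with hν
  have hνf : ∀ k, σ (ν k) = ν k := fun k => by simp only [hν, map_mul, S.conj.invol, mul_comm]
  have hν0 : ∀ k, ν k ≠ 0 := fun k => mul_ne_zero (fun h' => hx k (S.sigma_eq_zero h')) (hx k)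
  obtain ⟨ε, hε, hεR⟩ : ∃ ε : F, (ε = 1 ∨ ε = -1) ∧ ε * ν g + ∑ k ∈ R.erase g, ν k ≠ 0 := by
    by_cases h0 : ν g + ∑ k ∈ R.erase g, ν k = 0
    · exact ⟨-1, Or.inr rfl, fun h' => mul_ne_zero h2 (hν0 g) (by linear_combination h0 - h')⟩
    · exact ⟨1, Or.inl rfl, by rwa [one_mul]⟩
  have hεf : σ ε = ε := by rcases hε with rfl | rfl <;> simp
  set R₀ := ε * ν g + ∑ k ∈ R.erase g, ν k with hR₀
  have hR₀f : σ R₀ = R₀ := by simp only [hR₀, map_add, map_mul, map_sum, hνf, hεf]
  obtain ⟨w, w', hw, hw', heq, hne⟩ := exists_meet S.conj (a := ν a * ν a + ν b * ν b) (b := ν a * ν b)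
    (a' := R₀ * R₀ + ν c * ν c) (b' := R₀ * ν c) (by simp [hνf]) (by simp [hνf]) (by simp [hνf, hR₀f])
    (by simp [hνf, hR₀f]) (mul_ne_zero (hν0 a) (hν0 b)) (mul_ne_zero hεR (hν0 c))
  have hz : (ν a + ν b * w) * σ (ν a + ν b * w) = ν a * ν a + ν b * ν b + ν a * ν b * (w + σ w) := by
    rw [map_add, hνf, map_mul, hνf]
    linear_combination (ν b * ν b) * hw
  have hz' : (R₀ + ν c * w') * σ (R₀ + ν c * w') = R₀ * R₀ + ν c * ν c + R₀ * ν c * (w' + σ w') := by
    rw [map_add, hR₀f, map_mul, hνf]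
    linear_combination (ν c * ν c) * hw'
  have hz0' : R₀ + ν c * w' ≠ 0 := fun h' => hne (by rw [heq, ← hz', h', zero_mul])
  set u := -(ν a + ν b * w) / (R₀ + ν c * w') with hu
  have hun : u * σ u = 1 := by
    rw [hu, map_div₀, map_neg, div_mul_div_comm, neg_mul_neg, hz, hz', heq, div_self (heq ▸ hne)]
  let d₀ : Fin n → F := fun k =>
    if k ∈ T then (if k = a then 1 else if k = b then w else if k = c then u * w' else if k = g then u * ε else u)
    else 1
  have hd₀ : ∀ k, d₀ k * σ (d₀ k) = 1 := fun k => by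
    simp only [d₀]
    split_ifs
    · simp
    · exact hw
    · rw [map_mul]; linear_combination (w' * σ w') * hun + hw'
    · rw [map_mul, hεf]; rcases hε with rfl | rfl <;> linear_combination hun
    · exact hun
    · simp
  have hP : (∏ k ∈ T, d₀ k) * σ (∏ k ∈ T, d₀ k) = 1 := by
    rw [map_prod, ← Finset.prod_mul_distrib]
    exact Finset.prod_eq_one fun k _ => hd₀ k
  set P := ∏ k ∈ T, d₀ k with hPdef
  obtain ⟨m, hm, hmd⟩ := S.exists_diag (fun k => if k ∈ T then P * d₀ k else 1) fun k => by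
    split_ifs
    · rw [map_mul]; linear_combination (d₀ k * σ (d₀ k)) * hP + hd₀ k
    · simp
  obtain ⟨l, hl⟩ := hodd
  refine ⟨m, fun k => ⟨k, _, hm k⟩, fun k hk => by rw [hm, if_neg hk, one_smul], ?_, P ^ (l + 1), ?_, ?_⟩
  · rw [S.form_supp (T := T) (Finset.inter_subset_left.trans (supp_part_subset T x)),
      Finset.sum_congr rfl fun k hk => show σ (e.repr (part e T x) k) * e.repr (m.1 (part e T x)) k =
        P * (ν k * d₀ k) by
          rw [show e.repr (m.1 (part e T x)) k = (if k ∈ T then P * d₀ k else 1) * e.repr (part e T x) k from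
            repr_mono 1 _ hm _ k, repr_part, if_pos hk, if_pos hk, hν]
          ring, ← Finset.mul_sum]
    refine mul_eq_zero_of_right _ ?_
    have hsum : ∑ k ∈ T, ν k * d₀ k = ν a + ν b * w + u * (R₀ + ν c * w') := by
      rw [← Finset.sum_sdiff hU, Finset.sum_insert (by simp [hab, hac]), Finset.sum_pair hbc, ← hR,
        ← Finset.add_sum_erase _ _ hg]
      have hgT := Finset.mem_sdiff.1 (show g ∈ T \ {a, b, c} by rw [← hR]; exact hg)
      simp only [Finset.mem_insert, Finset.mem_singleton, not_or] at hgT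
      have hrest : ∑ k ∈ R.erase g, ν k * d₀ k = u * ∑ k ∈ R.erase g, ν k := by
        rw [Finset.mul_sum]
        refine Finset.sum_congr rfl fun k hk => ?_
        obtain ⟨hkg, hk⟩ := Finset.mem_erase.1 hk
        rw [hR, Finset.mem_sdiff] at hk
        simp only [Finset.mem_insert, Finset.mem_singleton, not_or] at hk
        simp only [d₀, if_pos hk.1, if_neg hk.2.1, if_neg hk.2.2.1, if_neg hk.2.2.2, if_neg hkg]
        ring
      rw [hrest, hR₀]
      simp only [d₀, hgT.1, hgT.2.1, hgT.2.2.1, hgT.2.2.2, hU (show a ∈ ({a, b, c} : Finset (Fin n)) by simp),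
        hU (show b ∈ ({a, b, c} : Finset (Fin n)) by simp), hU (show c ∈ ({a, b, c} : Finset (Fin n)) by simp),
        Ne.symm hab, Ne.symm hac, Ne.symm hbc, if_true, if_false]
      ring
    rw [hsum, hu, div_mul_cancel₀ _ hz0', add_neg_cancel]
  · rw [map_pow, ← mul_pow, hP, one_pow]
  · rw [hmd, Finset.prod_ite_mem, Finset.univ_inter, Finset.prod_mul_distrib, Finset.prod_const, ← hPdef, hl]
    ring

omit hx
variable (hL : ∀ h ∈ M, ∀ i, ∀ l : F, h.1 (e i) = l • e i → Mono e h) (hn : 6 ≤ n)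
include hL hn

/-- No entry of a non-monomial element vanishes. -/
theorem no_zero_entry {g : isomGroup B} (hg : g ∈ M) (hgm : ¬ Mono e g) (i k : Fin n) :
    e.repr (g.1 (e i)) k ≠ 0 := by
  classical
  intro h0
  set x := g.1 (e i) with hxdef
  have hxs : 5 ≤ (supp e x).card := by have := S.supp_ge h2 hL (by omega) hg hgm i; rw [← hxdef] at this; omega
  set w := (g⁻¹ : isomGroup B).1 (e k) with hwdef
  have hgw : g.1 w = e k := g.1.apply_symm_apply _
  have hxk : B x (e k) = 0 := by rw [← S.herm.symm (e k) x, S.coord, h0, map_zero]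
  have hwi : e.repr w i = 0 := by rw [← S.coord, ← isomGroup_apply g, hgw, ← hxdef, hxk]
  rcases S.phase_or_small with ⟨ω, hω, hωn⟩ | hsm
  · have hω0 := norm_ne_zero_of hω
    set μ := (ω ^ (n - 1))⁻¹ with hμ
    have hμω : μ ≠ ω := fun h' => hωn (by
      rw [show n = n - 1 + 1 by omega, pow_succ]
      nth_rewrite 2 [← h']
      rw [hμ, mul_inv_cancel₀ (pow_ne_zero _ hω0)])
    obtain ⟨t, ht, htd⟩ := S.exists_diag (fun j => if j = i then μ else ω) fun j => by
      split_ifs
      · rw [hμ, map_inv₀, ← mul_inv, map_pow, ← mul_pow, hω, one_pow, inv_one]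
      · exact hω
    have htM : t ∈ M := S.mem t (by
      rw [htd, Finset.prod_ite, Finset.filter_eq', if_pos (Finset.mem_univ i), Finset.prod_singleton,
        Finset.filter_ne', Finset.prod_const, Finset.card_erase_of_mem (Finset.mem_univ i), Finset.card_univ,
        Fintype.card_fin, hμ, inv_mul_cancel₀ (pow_ne_zero _ hω0)]) fun j => ⟨j, _, ht j⟩
    have htx : ∀ y, t.1 y = ω • y + ((μ - ω) * B (e i) y) • e i := fun y => e.repr.injective (Finsupp.ext fun j => by
      rw [show e.repr (t.1 y) j = (if j = i then μ else ω) * e.repr y j from repr_mono 1 _ ht y j, map_add,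
        map_smul, Finsupp.add_apply, Finsupp.smul_apply, repr_smul_basis, S.coord, smul_eq_mul]
      split_ifs with hj
      · subst hj; ring
      · ring)
    set s := g * t * g⁻¹ with hs
    have hsx : ∀ y, s.1 y = ω • y + ((μ - ω) * B x y) • x := fun y => by
      obtain ⟨y, rfl⟩ := g.1.surjective y
      change g.1 (t.1 (g.1.symm (g.1 y))) = _
      rw [LinearEquiv.symm_apply_apply, htx, map_add, map_smul, map_smul, ← hxdef, hxdef, isomGroup_apply]
    have hsm : Mono e s := hL s (M.mul_mem (M.mul_mem hg htM) (M.inv_mem hg)) k ω (by rw [hsx, hxk]; simp)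
    obtain ⟨b, hb⟩ := Finset.card_pos.1 (show 0 < (supp e x).card by omega)
    have h1 := hsm.card_le b
    have hsub : (supp e x).erase b ⊆ supp e (s.1 (e b)) := fun j hj => by
      obtain ⟨hjb, hj⟩ := Finset.mem_erase.1 hj
      rw [mem_supp, hsx, map_add, Finsupp.add_apply, repr_smul_basis, if_neg hjb, map_smul, Finsupp.smul_apply,
        zero_add, ← S.herm.symm (e b) x, S.coord, smul_eq_mul]
      exact mul_ne_zero (mul_ne_zero (sub_ne_zero.2 hμω) fun h' => mem_supp.1 hb (S.sigma_eq_zero h'))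
        (mem_supp.1 hj)
    have h3 := (Finset.card_le_card hsub).trans h1
    rw [Finset.card_erase_of_mem hb] at h3
    omega
  · -- two coordinates of `w` with one norm
    have hgi : ¬ Mono e g⁻¹ := fun h' => hgm (by simpa using S.mono_inv h')
    have hws := S.supp_ge h2 hL (by omega) (M.inv_mem hg) hgi k
    rw [← hwdef] at hws
    have h0f : (0 : F) ∈ fixS σ := by simp
    obtain ⟨c, hc, d, hd, hcd, hnorm⟩ := Finset.exists_ne_map_eq_of_card_lt_of_maps_to (s := supp e w)
      (t := (fixS σ).erase 0) (f := fun j => e.repr w j * σ (e.repr w j))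
      (by rw [Finset.card_erase_of_mem h0f]; omega)
      (fun j hj => Finset.mem_erase.2 ⟨mul_ne_zero (mem_supp.1 hj) fun h' => mem_supp.1 hj (S.sigma_eq_zero h'),
        mem_fixS.2 (S.conj.norm_fixed _)⟩)
    have hwc := mem_supp.1 hc
    have hwd := mem_supp.1 hd
    have hσd : σ (e.repr w d) ≠ 0 := fun h' => hwd (S.sigma_eq_zero h')
    have hci : c ≠ i := fun h' => hwc (h' ▸ hwi)
    have hdi : d ≠ i := fun h' => hwd (h' ▸ hwi)
    set β := -(σ (e.repr w c) / σ (e.repr w d)) with hβ
    have hβn : β * σ β = 1 := by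
      rw [hβ, map_neg, map_div₀, S.conj.invol, S.conj.invol, neg_mul_neg, div_mul_div_comm,
        div_eq_one_iff_eq (mul_ne_zero hσd hwd)]
      linear_combination hnorm
    obtain ⟨γ, hγ⟩ := S.conj.exists_norm_eq (a := 1 / 2) (by rw [map_div₀, map_one, map_ofNat])
    obtain ⟨v, hv⟩ : ∃ v : V, v = γ • (e c + β • e d) := ⟨_, rfl⟩
    have hBv : ∀ y, B v y = σ γ * (e.repr y c + σ β * e.repr y d) := fun y => by
      rw [hv, map_smulₛₗ, LinearMap.smul_apply, map_add, LinearMap.add_apply, map_smulₛₗ, LinearMap.smul_apply,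
        S.coord, S.coord, smul_eq_mul, smul_eq_mul]
    have hra : ∀ a j, e.repr (e a) j = if j = a then 1 else 0 := fun a j => by
      conv_lhs => rw [← one_smul F (e a)]
      rw [repr_smul_basis]
    have hvr : ∀ j, e.repr v j = γ * ((if j = c then 1 else 0) + if j = d then β else 0) := fun j => by
      rw [hv, map_smul, map_add, Finsupp.smul_apply, Finsupp.add_apply, hra, repr_smul_basis, smul_eq_mul]
    have hvv : B v v = 1 := by
      rw [hBv, hvr, hvr, if_pos rfl, if_pos rfl, if_neg hcd, if_neg (Ne.symm hcd)]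
      linear_combination (γ * σ γ) * hβn + 2 * hγ + mul_one_div_cancel h2
    have hiv : B (e i) v = 0 := by rw [S.coord, hvr, if_neg (Ne.symm hci), if_neg (Ne.symm hdi), add_zero, mul_zero]
    obtain ⟨r, hr, hrd⟩ := S.herm.exists_qr S.sep (z := e i) (by simp [S.on]) (l := -1) (by simp)
    obtain ⟨r', hr', hrd'⟩ := S.herm.exists_qr S.sep (z := v) (by simp [hvv]) (l := -1) (by simp)
    have hT : IsT (r * r') (e i) v := fun y => by
      change r.1 (r'.1 y) = _
      rw [hr, hr', map_add, map_smul, hvv, hiv, S.on, if_pos rfl]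
      module
    have hmM : r * r' ∈ M := S.mem _ (by rw [map_mul, hrd, hrd']; ring) fun j => by
      rcases eq_or_ne j i with rfl | hji
      · refine ⟨j, -1, ?_⟩
        rw [hT, S.on, if_pos rfl, hBv, hra, hra, if_neg hci, if_neg hdi]
        module
      rcases eq_or_ne j c with rfl | hjc
      · refine ⟨d, -β, ?_⟩
        rw [hT, S.on, if_neg (Ne.symm hji), hBv, hra, hra, if_pos rfl, if_neg (Ne.symm hcd), hv]
        match_scalars
        all_goals (try simp only [mul_zero, add_zero, mul_one])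
        all_goals clear_value β
        all_goals first
          | linear_combination (-2 : F) * hγ - mul_one_div_cancel h2
          | linear_combination (-2 * β) * hγ - β * mul_one_div_cancel h2
          | linear_combination (2 * β) * hγ + β * mul_one_div_cancel h2
      rcases eq_or_ne j d with rfl | hjd
      · refine ⟨c, -σ β, ?_⟩
        rw [hT, S.on, if_neg (Ne.symm hji), hBv, hra, hra, if_neg hcd, if_pos rfl, hv]
        match_scalars
        all_goals (try simp only [mul_zero, add_zero, zero_add, mul_one])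
        all_goals clear_value β
        all_goals first
          | linear_combination (-2 * (β * σ β)) * hγ - (β * σ β) * mul_one_div_cancel h2 - hβn
          | linear_combination (-2 * σ β) * hγ - σ β * mul_one_div_cancel h2
          | linear_combination (2 * σ β) * hγ + σ β * mul_one_div_cancel h2
      refine ⟨j, 1, ?_⟩
      rw [hT, S.on, if_neg (Ne.symm hji), hBv, hra, hra, if_neg (Ne.symm hjc), if_neg (Ne.symm hjd)]
      module
    have hmw : (r * r').1 w = w := by
      rw [hT, S.coord, hwi, hBv, show e.repr w c + σ β * e.repr w d = 0 by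
        rw [hβ, map_neg, map_div₀, S.conj.invol, S.conj.invol]; field_simp; ring]
      simp
    set m := r * r'
    have hfix : (g * m * g⁻¹).1 (e k) = (1 : F) • e k := by
      change g.1 (m.1 w) = _
      rw [hmw, hgw, one_smul]
    exact S.not_mono_isT h2 (hT.conj g) (by rw [isomGroup_apply, S.on, if_pos rfl]) (by rw [isomGroup_apply, hvv])
      (by rw [isomGroup_apply, hiv]) hxs (hL _ (M.mul_mem (M.mul_mem hg hmM) (M.inv_mem hg)) k 1 hfix)

/-- In odd characteristic some element fixes a frame line without being monomial. -/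
theorem false_of_odd {g : isomGroup B} (hg : g ∈ M) (hgm : ¬ Mono e g) : False := by
  classical
  obtain ⟨i₀, -⟩ := S.exists_fresh ∅ (by simp; omega)
  set x := g.1 (e i₀) with hxdef
  have hx : ∀ k, e.repr x k ≠ 0 := fun k => S.no_zero_entry h2 hL hn hg hgm i₀ k
  obtain ⟨a, -, b, -, hab, ρ, hρ, hρ2⟩ := S.exists_pair h2 hx (T := Finset.univ) (by simp; omega)
  set R := Finset.univ \ ({a, b} : Finset (Fin n)) with hR
  have hRc : R.card = n - 2 := by rw [hR, Finset.card_univ_sdiff, Fintype.card_fin, Finset.card_pair hab]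
  have hNR : S.Neutral x R := by
    rcases Nat.even_or_odd R.card with ⟨k, hk⟩ | hodd
    · exact S.neutral_even h2 hx (k - 2) R (by omega)
    · exact S.neutral_odd h2 hx (by obtain ⟨l, hl⟩ := hodd; omega) hodd
  obtain ⟨m₂, hm₂, hmo₂, hm₂0, r, hr, hrd⟩ := hNR
  obtain ⟨m₁, hm₁, hmo₁, hm₁0, hmd₁⟩ := S.zero_pair h2 hx hab hρ hρ2 (S.norm_sigma hr)
  obtain ⟨-, hval⟩ := S.block_mul (Finset.disjoint_sdiff (s := {a, b})) hmo₁ hmo₂ x
  rw [← hR, hm₁0, hm₂0, add_zero, Finset.union_sdiff_of_subset (Finset.subset_univ _)] at hval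
  rw [show part e Finset.univ x = x from e.sum_repr x] at hval
  set m := m₁ * m₂ with hm
  have hmM : m ∈ M := S.mem m (by
    rw [hm, map_mul, hmd₁, hrd]; linear_combination (r * σ r + 1) * hr) (mono_mul hm₁ hm₂)
  obtain ⟨t, htM, ht⟩ := S.exists_T hab
  have hstep : ∀ m ∈ M, B x (m.1 x) = 0 → Mono e (g⁻¹ * m * g) := fun m hmM h0 => by
    by_contra hne
    refine S.no_zero_entry h2 hL hn (M.mul_mem (M.mul_mem (M.inv_mem hg) hmM) hg) hne i₀ i₀ ?_
    rw [← S.coord]
    change B (e i₀) (g.1.symm (m.1 x)) = 0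
    rw [← isomGroup_apply g, LinearEquiv.apply_symm_apply, ← hxdef]
    exact h0
  have hmt : B x ((m * t).1 x) = 0 := by
    have htx : t.1 x = x + (-2 : F) • part e {a, b} x := by
      rw [ht, part, Finset.sum_pair hab, S.coord, S.coord]
      module
    have hPs := supp_part_subset (e := e) {a, b} x
    have hd : Disjoint ({a, b} : Finset (Fin n)) R := Finset.disjoint_sdiff
    have hm₂P : m₂.1 (part e {a, b} x) = part e {a, b} x := block_fix hmo₂ (hd.mono_left hPs)
    have hxP : B x (m.1 (part e {a, b} x)) = 0 := by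
      rw [show m.1 (part e {a, b} x) = m₁.1 (m₂.1 (part e {a, b} x)) from rfl, hm₂P]
      have hin := S.block_map hmo₁ hPs
      rw [S.form_supp (T := {a, b}) (Finset.inter_subset_right.trans hin), ← hm₁0,
        S.form_supp (T := {a, b}) (Finset.inter_subset_right.trans hin)]
      exact Finset.sum_congr rfl fun j hj => by rw [repr_part, if_pos hj]
    change B x (m.1 (t.1 x)) = 0
    rw [htx, map_add, map_smul, map_add, map_smul, hval, hxP]
    simp
  have h1 := hstep m hmM hval
  have h3 := hstep _ (M.mul_mem hmM htM) hmt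
  have h4 := mono_mul (S.mono_inv h1) h3
  rw [show (g⁻¹ * m * g)⁻¹ * (g⁻¹ * (m * t) * g) = g⁻¹ * t * g⁻¹⁻¹ by group] at h4
  refine S.not_mono_isT h2 (ht.conj g⁻¹) ?_ ?_ ?_ ?_ h4
  · rw [isomGroup_apply, S.on, if_pos rfl]
  · rw [isomGroup_apply, S.on, if_pos rfl]
  · rw [isomGroup_apply, S.on, if_neg hab]
  · have := S.supp_ge h2 hL (by omega) (M.inv_mem hg) (fun h' => hgm (by simpa using S.mono_inv h')) a
    omega

end FSetting

end CfsgLib.Classical.UFrameMax
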