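import Cfsg.Agent.Lib.Classical.UFrameMax.Blocks
import Cfsg.Agent.Lib.Classical.UFrameMax.FixTwo
import Cfsg.Agent.Lib.Classical.UFrameMax.OddFrame

/-!
# Stabilisers of non-degenerate decompositions are maximal in special unitary groups
-/

set_option autoImplicit false
set_option linter.unusedSectionVars false

open Module

namespace CfsgLib.Classical.UFrameMax

variable {F : Type*} [Field F] [Fintype F] {V : Type*} [AddCommGroup V] [Module F V] [FiniteDimensional F V]
  {σ : F →+* F} {B : V →ₛₗ[σ] V →ₗ[F] F}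

theorem sIsom_le_frame [DecidableEq F] {n : ℕ} {e : Basis (Fin n) F V} {M : Subgroup (isomGroup B)}
    (S : FSetting B e M) (h6 : 6 ≤ n) (h8 : ¬ BigFixed σ → 8 ≤ n) {g : isomGroup B} (hg : g ∈ M) (hgm : ¬ Mono e g) : sIsom B ≤ M := by
  by_cases hbig : BigFixed σ
  · by_cases hL : ∀ h ∈ M, ∀ i, ∀ l : F, h.1 (e i) = l • e i → Mono e h
    · by_cases h2 : (2 : F) = 0
      · exact (S.false_of_even hbig h2 hL h6 hg hgm).elim
      · exact (S.false_of_odd h2 hL h6 hg hgm).elim
    · push Not at hL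
      obtain ⟨h, hM, i, l, hi, hh⟩ := hL
      obtain ⟨p, hpp, hp, hp0, j, hj⟩ := S.axis_of_fix hbig hM hi hh
      exact S.sIsom_le_of_axis hbig hpp hp hp0 hj
  · exact S.sIsom_le_two hbig (h8 hbig) hg hgm

section Decomp

variable {t k : ℕ} {D : Fin t → Submodule F V} (hd : UDecomp B D k)
include hd

theorem finrank_le_mul : finrank F V ≤ t * k := by
  classical
  have h1 : ∀ s : Finset (Fin t), finrank F ↥(s.sup D) ≤ s.card * k := by
    intro s
    induction s using Finset.induction_on with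
    | empty => simp
    | @insert i s hi ih =>
      rw [Finset.sup_insert, Finset.card_insert_of_notMem hi]
      have := Submodule.finrank_add_le_finrank_add_finrank (D i) (s.sup D)
      rw [hd.dim] at this
      rw [Nat.succ_mul]
      omega
  have h2 := h1 Finset.univ
  rw [Finset.sup_univ_eq_iSup, hd.top, finrank_top, Finset.card_univ, Fintype.card_fin] at h2
  exact h2

/-- An orthonormal basis adapted to a decomposition into lines. -/
theorem exists_line_basis (h : IsHermitian B) (hk : k = 1) :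
    ∃ e : Basis (Fin t) F V, (∀ i j, B (e i) (e j) = if i = j then 1 else 0) ∧
      ∀ i, D i = Submodule.span F {e i} := by
  subst hk
  choose f hf hff using fun i => h.exists_unit_in (hd.nd i) (by rw [hd.dim]; omega) (a := 1) (map_one σ)
  have hon : ∀ i j, B (f i) (f j) = if i = j then 1 else 0 := fun i j => by
    rcases eq_or_ne i j with rfl | hij
    · rw [if_pos rfl]; exact hff i
    · rw [if_neg hij]; exact hd.orth i j hij _ (hf i) _ (hf j)
  have hspan : ∀ i, D i = Submodule.span F {f i} := fun i => by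
    refine (Submodule.eq_of_le_of_finrank_eq ((Submodule.span_singleton_le_iff_mem _ _).2 (hf i)) ?_).symm
    rw [hd.dim, finrank_span_singleton fun h0 => by simpa [h0] using hff i]
  have hli : LinearIndependent F f := Fintype.linearIndependent_iff.2 fun c hc i => by
    have := congrArg (B (f i)) hc
    simpa [hon] using this
  have hsp : ⊤ ≤ Submodule.span F (Set.range f) := by
    rw [← hd.top]
    refine iSup_le fun i => ?_
    rw [hspan]
    exact Submodule.span_mono (by simp)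
  exact ⟨Basis.mk hli hsp, fun i j => by simp [hon], fun i => by simp [hspan]⟩

theorem mono_iff {e : Basis (Fin t) F V} (hk : k = 1) (he : ∀ i, D i = Submodule.span F {e i}) (g : isomGroup B) :
    Mono e g ↔ Perms D g := by
  refine ⟨fun hg => hd.perms_of_le (by omega) fun i => ?_, fun ⟨π, hπ⟩ i => ?_⟩
  · obtain ⟨j, l, hl⟩ := hg i
    refine ⟨j, ?_⟩
    rw [he, he, Submodule.map_span, Submodule.span_le]
    rintro _ ⟨x, hx, rfl⟩
    rw [Set.mem_singleton_iff.1 hx, SetLike.mem_coe, LinearEquiv.coe_coe, hl]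
    exact Submodule.smul_mem _ _ (Submodule.mem_span_singleton_self _)
  · have h1 : g.1 (e i) ∈ D (π i) := hπ i ▸ ⟨e i, by rw [he]; exact Submodule.mem_span_singleton_self _, rfl⟩
    rw [he] at h1
    obtain ⟨l, hl⟩ := Submodule.mem_span_singleton.1 h1
    exact ⟨π i, l, hl.symm⟩

variable (h : IsHermitian B) (hN : B.SeparatingRight)
include h hN

theorem exists_not_perms (hn : 4 ≤ finrank F V) (hk : 0 < k) (ht : 2 ≤ t) : ∃ g : isomGroup B, idet B g = 1 ∧ ¬ Perms D g := by
  classical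
  obtain ⟨c, hc0, hc⟩ := h.conj.exists_trace_zero
  rcases Nat.lt_or_ge k 2 with hk1 | hk2
  · have hk' : k = 1 := by omega
    obtain ⟨e, he, heD⟩ := exists_line_basis hd h hk'
    have hbig : 4 ≤ t := by rwa [Module.finrank_eq_card_basis e, Fintype.card_fin] at hn
    obtain ⟨ζ, hζ⟩ := h.conj.exists_norm_eq (a := -1) (by rw [map_neg, map_one])
    have hζ0 : ζ ≠ 0 := fun h0 => by simp [h0] at hζ
    let a : Fin t := ⟨0, by omega⟩
    let b : Fin t := ⟨1, by omega⟩
    let b' : Fin t := ⟨2, by omega⟩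
    let a' : Fin t := ⟨3, by omega⟩
    set v := e a + ζ • e b + e b' + ζ • e a' with hv
    have hζ' : σ ζ * ζ = -1 := by rw [mul_comm]; exact hζ
    have hvv : B v v = 0 := by
      simp [hv, map_smulₛₗ, he, a, b, b', a', Fin.ext_iff, hζ']
    have hva : B v (e a) = 1 := by simp [hv, map_smulₛₗ, he, a, b, b', a', Fin.ext_iff]
    obtain ⟨g, hg⟩ := h.exists_uTv hN hvv hc
    refine ⟨g, h.idet_uTv hg, fun hp => ?_⟩
    have hcard := ((mono_iff hd hk' heD g).2 hp).card_le a
    have hsub : ({b, b'} : Finset (Fin t)) ⊆ supp e (g.1 (e a)) := fun k hk => by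
      simp only [Finset.mem_insert, Finset.mem_singleton] at hk
      rw [mem_supp, hg.2.2, hva, mul_one]
      rcases hk with rfl | rfl
      · simp [hv, a, b, b', a', Fin.ext_iff, Finsupp.single_apply, hc0, hζ0]
      · simp [hv, a, b, b', a', Fin.ext_iff, Finsupp.single_apply, hc0]
    have := (Finset.card_le_card hsub).trans hcard
    rw [Finset.card_pair (by simp [b, b', Fin.ext_iff])] at this
    omega
  · let i : Fin t := ⟨0, by omega⟩
    let j : Fin t := ⟨1, by omega⟩
    have hij : i ≠ j := by simp [i, j, Fin.ext_iff]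
    obtain ⟨a, ha, ha0, haa⟩ := h.exists_isotropic (hd.nd i) (by rw [hd.dim]; exact hk2)
    obtain ⟨b, hb, hb0, hbb⟩ := h.exists_isotropic (hd.nd j) (by rw [hd.dim]; exact hk2)
    obtain ⟨a', ha', -, haa'⟩ := h.exists_partner (hd.nd i) ha ha0 haa
    have hab : B a b = 0 := hd.orth i j hij a ha b hb
    obtain ⟨g, hg⟩ := h.exists_uTv hN (v := a + b) (by rw [h.add_self, haa, hbb, hab]; simp) hc
    refine ⟨g, h.idet_uTv hg, fun ⟨π, hπ⟩ => ?_⟩
    have h1 : g.1 a' ∈ D (π i) := hπ i ▸ ⟨a', ha', rfl⟩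
    have hga : g.1 a' = (a' + c • a) + c • b := by
      rw [hg.2.2, map_add, LinearMap.add_apply, haa', hd.orth j i hij.symm b hb a' ha', add_zero, mul_one]
      module
    have hi : hd.comp i (g.1 a') ≠ 0 := fun h0 => by
      rw [hga, map_add, hd.comp_other hij ((D j).smul_mem c hb), add_zero,
        hd.comp_self ((D i).add_mem ha' ((D i).smul_mem c ha))] at h0
      have := congrArg (B a) h0
      simp [haa, haa'] at this
    have hj : hd.comp j (g.1 a') ≠ 0 := fun h0 => by
      rw [hga, map_add, hd.comp_other hij.symm ((D i).add_mem ha' ((D i).smul_mem c ha)), zero_add,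
        hd.comp_self ((D j).smul_mem c hb)] at h0
      exact smul_ne_zero hc0 hb0 h0
    by_cases hπi : π i = i
    · exact hj (hd.comp_other (fun h' => hij ((h'.trans hπi).symm)) h1)
    · exact hi (hd.comp_other (Ne.symm hπi) h1)

theorem sIsom_le_of_overgroup (hn : 5 ≤ finrank F V) (hk : 0 < k) (ht : 2 ≤ t) (hex : ¬ (k = 2 ∧ ¬ BigFixed σ))
    (h1 : k = 1 → 6 ≤ finrank F V ∧ (¬ BigFixed σ → 8 ≤ finrank F V))
    {M : Subgroup (isomGroup B)} (hle : M ≤ sIsom B) (hM : ∀ g, idet B g = 1 → Perms D g → g ∈ M)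
    {g : isomGroup B} (hg : g ∈ M) (hgP : ¬ Perms D g) : sIsom B ≤ M := by
  classical
  rcases Nat.lt_or_ge k 2 with hk1 | hk2
  · have hk' : k = 1 := by omega
    obtain ⟨e, he, heD⟩ := exists_line_basis hd h hk'
    have hft : finrank F V = t := by rw [Module.finrank_eq_card_basis e, Fintype.card_fin]
    rw [hft] at h1 hn
    obtain ⟨h6, h8⟩ := h1 hk'
    exact sIsom_le_frame (e := e) ⟨h, hN, he, le_trans (by norm_num) hn, hle,
      fun g hgd hgm => hM g hgd ((mono_iff hd hk' heD g).1 hgm)⟩ h6 h8 hg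
      fun hgm => hgP ((mono_iff hd hk' heD g).1 hgm)
  · refine (BSetting.sIsom_le (D := D) (k := k) ⟨h, hN, hd, hk2, ?_, ht, hM⟩ ?_ hg hgP (by omega))
    · by_cases hk3 : k = 2
      · exact Or.inr (by_contra fun hb => hex ⟨hk3, hb⟩)
      · exact Or.inl (by omega)
    · by_contra! hlt
      have := finrank_le_mul hd
      nlinarith

end Decomp

section Matrix

open Matrix

variable {n q : ℕ}

/-- Transfer of maximality, for overgroups inside the special group. -/
theorem gu_isMaximalIn_special (hσ : ∀ x, σ x = x ^ q) (H : Subgroup (GL (Fin n) F))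
    (P : isomGroup (stdHerm σ n) → Prop) (hP : ∀ g, linToGL g.1 ∈ H ↔ P g)
    (hex : ∃ g : isomGroup (stdHerm σ n), idet (stdHerm σ n) g = 1 ∧ ¬ P g)
    (hmax : ∀ M : Subgroup (isomGroup (stdHerm σ n)), M ≤ sIsom (stdHerm σ n) →
      (∀ g, idet (stdHerm σ n) g = 1 → P g → g ∈ M) →
      ∀ g ∈ M, ¬ P g → sIsom (stdHerm σ n) ≤ M) :
    Cfsg.Geo.IsMaximalIn (Cfsg.GU n F q ⊓ Cfsg.Geo.specialLinear (Fin n) F)
      (H ⊓ (Cfsg.GU n F q ⊓ Cfsg.Geo.specialLinear (Fin n) F)) := by
  set K := Cfsg.GU n F q ⊓ Cfsg.Geo.specialLinear (Fin n) F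
  let ψ : isomGroup (stdHerm σ n) →* GL (Fin n) F :=
    (linToGL (ι := Fin n) (F := F)).comp (isomGroup (stdHerm σ n)).subtype
  have hdet : ∀ g, (ψ g : Matrix (Fin n) (Fin n) F).det = idet (stdHerm σ n) g := fun g => by
    obtain ⟨x, rfl⟩ := (guEquiv hσ).surjective g
    rw [idet_guEquiv]
    exact congrArg Matrix.det (LinearMap.toMatrix'_toLin' _)
  have hK : ∀ g, idet (stdHerm σ n) g = 1 → ψ g ∈ K := fun g hg => by
    refine Subgroup.mem_inf.2 ⟨((guEquiv hσ).symm g).2, ?_⟩
    rw [mem_specialLinear_iff, hdet, hg]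
  have hsurj : ∀ t ∈ K, ∃ g, ψ g = t ∧ idet (stdHerm σ n) g = 1 := fun t ht => by
    obtain ⟨h1, h2⟩ := Subgroup.mem_inf.1 ht
    refine ⟨guEquiv hσ ⟨t, h1⟩, congrArg Subtype.val ((guEquiv hσ).symm_apply_apply ⟨t, h1⟩), ?_⟩
    rw [idet_guEquiv]
    exact mem_specialLinear_iff.1 h2
  refine ⟨lt_of_le_not_ge inf_le_right fun hle => ?_, fun M hM hMK => ?_⟩
  · obtain ⟨g, hg, hgP⟩ := hex
    exact hgP ((hP g).1 (hle (hK g hg)).1)
  · by_cases hMH : M ≤ H
    · exact Or.inl (le_antisymm (le_inf hMH hMK) hM)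
    obtain ⟨t, ht, htH⟩ := SetLike.not_le_iff_exists.1 hMH
    obtain ⟨g, rfl, hgd⟩ := hsurj t (hMK ht)
    have htop := hmax (M.comap ψ ⊓ sIsom (stdHerm σ n)) inf_le_right
      (fun s hs hPs => Subgroup.mem_inf.2 ⟨hM (Subgroup.mem_inf.2 ⟨(hP s).2 hPs, hK s hs⟩), MonoidHom.mem_ker.2 hs⟩)
      g (Subgroup.mem_inf.2 ⟨ht, MonoidHom.mem_ker.2 hgd⟩) fun h => htH ((hP g).2 h)
    refine Or.inr (le_antisymm hMK fun s hs => ?_)
    obtain ⟨g', rfl, hg'⟩ := hsurj s hs
    exact (Subgroup.mem_inf.1 (htop (MonoidHom.mem_ker.2 hg'))).1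

theorem mem_stab_iff_perms {t : ℕ} (D : Fin t → Submodule F (Fin n → F)) (g : isomGroup (stdHerm σ n)) :
    linToGL g.1 ∈ Cfsg.Geo.decompositionStabilizer D ↔ Perms D g := by
  have e : Matrix.toLin' (linToGL g.1 : Matrix (Fin n) (Fin n) F) = (g.1 : (Fin n → F) →ₗ[F] (Fin n → F)) :=
    LinearMap.ext fun x => by rw [Matrix.toLin'_apply]; exact linToGL_mulVec g.1 x
  change (∃ π : Equiv.Perm (Fin t), ∀ i,
    (D i).map (Matrix.toLin' (linToGL g.1 : Matrix (Fin n) (Fin n) F)) = D (π i)) ↔ _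
  rw [e]
  exact Iff.rfl

theorem bigFixed_of_ne (hF : Fintype.card F = q ^ 2) (hc : IsConjugation σ) (hq : q ≠ 2) : BigFixed σ := by
  classical
  by_contra hb
  have hsub : fixS σ ⊆ {0, 1} := fun x hx => by
    rcases eq_or_ne x 0 with rfl | h0
    · simp
    · simp [fixed_eq_one hb (mem_fixS.1 hx) h0]
  have h1 := (Finset.card_le_card hsub).trans Finset.card_le_two
  have h2 := two_le_fix hc
  have h3 : q = (fixS σ).card := Nat.pow_left_injective two_ne_zero (hF.symm.trans (card_fix_sq hc))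
  exact hq (by omega)

theorem udecomp_of (hσ : ∀ x, σ x = x ^ q) (hc : IsConjugation σ) {t k : ℕ} {D : Fin t → Submodule F (Fin n → F)}
    (hD : Cfsg.Geo.IsNondegenerateMDecomposition (Cfsg.hermForm n F q) k D) : UDecomp (stdHerm σ n) D k := by
  have h := stdHerm_isHermitian hc n
  refine ⟨fun i => ?_, fun i j hij u hu v hv => ?_, hD.decomp.iSup_eq_top, hD.decomp.finrank_eq⟩
  · rw [nondegOn_iff]
    intro x hx hx'
    by_contra hne
    obtain ⟨y, hy, hyx⟩ := (hD.nondegenerate i x hx hne).1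
    exact hyx (by rw [hermForm_eq_stdHerm hσ]; exact h.isRefl _ _ (hx' y hy))
  · rw [← hermForm_eq_stdHerm hσ]
    exact hD.orthogonal j i hij.symm v hv u hu

/-- Stabilisers of orthogonal decompositions are maximal in `SU n q`: members of dimension at least two from
`n = 5` on, frames from `n = 6` on, and from `n = 8` on for `q = 2`. -/
theorem decomposition_stabilizer_isMaximalIn (hF : Fintype.card F = q ^ 2) {t k : ℕ}
    {D : Fin t → Submodule F (Fin n → F)}
    (hD : Cfsg.Geo.IsNondegenerateMDecomposition (Cfsg.hermForm n F q) k D) (hn : 5 ≤ n)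
    (hex : ¬ (k = 2 ∧ q = 2))
    (h1 : k = 1 → 6 ≤ n ∧ (q = 2 → 8 ≤ n)) :
    Cfsg.Geo.IsMaximalIn (Cfsg.GU n F q ⊓ Cfsg.Geo.specialLinear (Fin n) F)
      (Cfsg.Geo.decompositionStabilizer D ⊓ (Cfsg.GU n F q ⊓ Cfsg.Geo.specialLinear (Fin n) F)) := by
  classical
  obtain ⟨σ, hσ, hc⟩ := exists_frob hF
  have h := stdHerm_isHermitian hc n
  have hN := stdHerm_sepRight (σ := σ) n
  have hfr : finrank F (Fin n → F) = n := Module.finrank_fin_fun F
  have hn' : 5 ≤ finrank F (Fin n → F) := by rw [hfr]; exact hn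
  have hd := udecomp_of hσ hc hD
  refine gu_isMaximalIn_special hσ _ (Perms D) (mem_stab_iff_perms D)
    (exists_not_perms hd h hN (by omega) hD.decomp.pos hD.decomp.two_le)
    fun M hle hM g hg hgP => sIsom_le_of_overgroup hd h hN hn' hD.decomp.pos hD.decomp.two_le
      (fun ⟨hk, hb⟩ => hb (bigFixed_of_ne hF hc fun hq => hex ⟨hk, hq⟩)) (fun hk => ?_) hle hM hg hgP
  rw [hfr]
  exact ⟨(h1 hk).1, fun hb => (h1 hk).2 (by_contra fun hq => hb (bigFixed_of_ne hF hc hq))⟩

end Matrix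

end CfsgLib.Classical.UFrameMax
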