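import Cfsg.Agent.Lib.Classical.HermGen

/-!
# Elements of norm one and their traces
-/

set_option autoImplicit false
set_option linter.unusedSectionVars false

namespace CfsgLib.Classical.UFrameMax

variable {F : Type*} [Field F] [Fintype F] [DecidableEq F]

/-- The fixed field as a finset. -/
def fixS (σ : F →+* F) : Finset F := Finset.univ.filter fun x => σ x = x

/-- The elements of norm one. -/
def circ (σ : F →+* F) : Finset F := Finset.univ.filter fun x => x * σ x = 1

/-- The traces of the elements of norm one. -/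
def trS (σ : F →+* F) : Finset F := (circ σ).image fun x => x + σ x

variable {σ : F →+* F}

@[simp] theorem mem_fixS {x : F} : x ∈ fixS σ ↔ σ x = x := by simp [fixS]

@[simp] theorem mem_circ {x : F} : x ∈ circ σ ↔ x * σ x = 1 := by simp [circ]

theorem mem_trS {x : F} : x ∈ trS σ ↔ ∃ l : F, l * σ l = 1 ∧ l + σ l = x := by simp [trS]

theorem norm_ne_zero_of {x : F} (hx : x * σ x = 1) : x ≠ 0 := fun e => by simp [e] at hx

theorem card_fix_units : (fixS σ).card = Nat.card (fixedUnits σ) + 1 := by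
  classical
  have h0 : (0 : F) ∈ fixS σ := by simp
  rw [← Finset.card_erase_add_one h0, add_left_inj, ← Nat.card_eq_finsetCard]
  exact Nat.card_congr
    { toFun := fun x => ⟨Units.mk0 x.1 (Finset.mem_erase.1 x.2).1, by
        rw [mem_fixedUnits]; simpa using (Finset.mem_erase.1 x.2).2⟩
      invFun := fun u => ⟨(u.1 : F), Finset.mem_erase.2 ⟨Units.ne_zero _, mem_fixS.2 u.2⟩⟩
      left_inv := fun x => rfl
      right_inv := fun u => Subtype.ext (Units.ext rfl) }

theorem card_circ_ker : (circ σ).card = Nat.card (normHom σ).ker := by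
  classical
  rw [← Nat.card_eq_finsetCard]
  exact Nat.card_congr
    { toFun := fun x => ⟨Units.mk0 x.1 (norm_ne_zero_of (mem_circ.1 x.2)), MonoidHom.mem_ker.2
        (Units.ext (by rw [normHom_apply]; exact mem_circ.1 x.2))⟩
      invFun := fun u => ⟨(u.1 : F), mem_circ.2 (congrArg Units.val (MonoidHom.mem_ker.1 u.2))⟩
      left_inv := fun x => rfl
      right_inv := fun u => Subtype.ext (Units.ext rfl) }

variable (hc : IsConjugation σ)
include hc

theorem card_fix_sq : Fintype.card F = (fixS σ).card ^ 2 := by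
  obtain ⟨θ, hθ⟩ := hc.exists_not_fixed
  have hθ' : θ - σ θ ≠ 0 := sub_ne_zero.2 (Ne.symm hθ)
  let f : {x // x ∈ fixS σ} × {x // x ∈ fixS σ} → F := fun p => p.1.1 + p.2.1 * θ
  have hf : Function.Bijective f := by
    constructor
    · rintro ⟨⟨a, ha⟩, ⟨b, hb⟩⟩ ⟨⟨a', ha'⟩, ⟨b', hb'⟩⟩ e
      simp only [f] at e
      rw [mem_fixS] at ha hb ha' hb'
      have e' := congrArg σ e
      rw [map_add, map_add, map_mul, map_mul, ha, hb, ha', hb'] at e'
      have : (b - b') * (θ - σ θ) = 0 := by linear_combination e - e'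
      obtain rfl := sub_eq_zero.1 ((mul_eq_zero.1 this).resolve_right hθ')
      obtain rfl := add_right_cancel e
      rfl
    · intro x
      set b := (x - σ x) / (θ - σ θ) with hb
      have hbf : σ b = b := by
        rw [hb, map_div₀, map_sub, map_sub, hc.invol, hc.invol, ← neg_sub x, ← neg_sub θ, neg_div_neg_eq]
      have hb' : b * (θ - σ θ) = x - σ x := div_mul_cancel₀ _ hθ'
      refine ⟨(⟨x - b * θ, mem_fixS.2 ?_⟩, ⟨b, mem_fixS.2 hbf⟩), by simp [f]⟩
      rw [map_sub, map_mul, hbf]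
      linear_combination hb'
  rw [← Fintype.card_of_bijective hf, Fintype.card_prod, Fintype.card_coe, pow_two]

theorem two_le_fix : 2 ≤ (fixS σ).card := by
  rw [← Finset.card_pair (zero_ne_one (α := F))]
  exact Finset.card_le_card (by simp [Finset.insert_subset_iff])

theorem card_circ : (circ σ).card = (fixS σ).card + 1 := by
  have h1 := hc.card_norm_ker_mul
  rw [← card_circ_ker, Nat.card_units, Nat.card_eq_fintype_card (α := F), card_fix_sq hc] at h1
  have hq := two_le_fix hc
  have h2 : Nat.card (fixedUnits σ) = (fixS σ).card - 1 := by rw [card_fix_units]; omega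
  rw [h2, show (fixS σ).card ^ 2 - 1 = ((fixS σ).card + 1) * ((fixS σ).card - 1) by
    simpa using Nat.sq_sub_sq (fixS σ).card 1] at h1
  exact Nat.eq_of_mul_eq_mul_right (by omega) h1

theorem three_le_circ : 3 ≤ (circ σ).card := by rw [card_circ hc]; have := two_le_fix hc; omega

theorem exists_circ_ne (a b : F) : ∃ l : F, l * σ l = 1 ∧ l ≠ a ∧ l ≠ b := by
  obtain ⟨l, hl, hl'⟩ := Finset.exists_mem_notMem_of_card_lt_card (s := ({a, b} : Finset F)) (t := circ σ)
    (lt_of_le_of_lt Finset.card_le_two (three_le_circ hc))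
  simp only [Finset.mem_insert, Finset.mem_singleton, not_or] at hl'
  exact ⟨l, mem_circ.1 hl, hl'⟩

theorem exists_circ_not_fix : ∃ l : F, l * σ l = 1 ∧ σ l ≠ l := by
  obtain ⟨l, hl, h1, h2⟩ := exists_circ_ne hc 1 (-1)
  refine ⟨l, hl, fun e => ?_⟩
  rw [e] at hl
  rcases mul_self_eq_one_iff.1 hl with h3 | h3
  · exact h1 h3
  · exact h2 h3

theorem trS_subset : trS σ ⊆ fixS σ := fun x hx => by
  obtain ⟨l, -, rfl⟩ := mem_trS.1 hx
  rw [mem_fixS, map_add, hc.invol, add_comm]

theorem card_trS : (fixS σ).card + 2 ≤ 2 * (trS σ).card := by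
  have h1 : ((circ σ).erase 1).card ≤ 2 * ((trS σ).erase 2).card := by
    refine Finset.card_le_mul_card_image_of_maps_to (f := fun x : F => x + σ x) (fun x hx => ?_) _ (fun τ _ => ?_)
    · obtain ⟨hx1, hx⟩ := Finset.mem_erase.1 hx
      refine Finset.mem_erase.2 ⟨fun e => hx1 ?_, mem_trS.2 ⟨x, mem_circ.1 hx, rfl⟩⟩
      have h2 : (x - 1) * (x - 1) = 0 := by linear_combination x * e - mem_circ.1 hx
      exact sub_eq_zero.1 (mul_self_eq_zero.1 h2)
    · by_cases hne : ({x ∈ (circ σ).erase 1 | x + σ x = τ}).Nonempty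
      · obtain ⟨y, hy⟩ := hne
        refine le_trans (Finset.card_le_card (t := {y, σ y}) fun x hx => ?_) Finset.card_le_two
        simp only [Finset.mem_filter, Finset.mem_erase, mem_circ] at hx hy
        have h3 : (x - y) * (x - σ y) = 0 := by linear_combination x * (hx.2.trans hy.2.symm) - hx.1.2 + hy.1.2
        simp only [Finset.mem_insert, Finset.mem_singleton]
        exact (mul_eq_zero.1 h3).imp sub_eq_zero.1 sub_eq_zero.1
      · rw [Finset.not_nonempty_iff_eq_empty.1 hne]; simp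
  have h1' : (1 : F) ∈ circ σ := by simp
  have h2' : (2 : F) ∈ trS σ := mem_trS.2 ⟨1, by simp, by rw [map_one, one_add_one_eq_two]⟩
  rw [← Finset.card_erase_add_one h2']
  rw [Finset.card_erase_of_mem h1', card_circ hc] at h1
  omega

omit hc in
/-- Two subsets of the fixed field that are more than half of it. -/
theorem two_common {A A' : Finset F} (hA : A ⊆ fixS σ) (hA' : A' ⊆ fixS σ)
    (h : (fixS σ).card + 2 ≤ A.card + A'.card) (x₀ : F) : ∃ x ∈ A, x ∈ A' ∧ x ≠ x₀ := by
  have h1 := Finset.card_union_add_card_inter A A'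
  have h2 := Finset.card_le_card (Finset.union_subset hA hA')
  obtain ⟨x, hx, hx'⟩ := Finset.exists_mem_notMem_of_card_lt_card (s := ({x₀} : Finset F)) (t := A ∩ A')
    (by rw [Finset.card_singleton]; omega)
  exact ⟨x, (Finset.mem_inter.1 hx).1, (Finset.mem_inter.1 hx).2, fun e => hx' (by simp [e])⟩

omit hc in
theorem one_common {A A' : Finset F} (hA : A ⊆ (fixS σ).erase 0) (hA' : A' ⊆ (fixS σ).erase 0)
    (h : (fixS σ).card ≤ A.card + A'.card) : ∃ x ∈ A, x ∈ A' := by
  have h1 := Finset.card_union_add_card_inter A A'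
  have h2 := Finset.card_le_card (Finset.union_subset hA hA')
  rw [Finset.card_erase_of_mem (by simp : (0 : F) ∈ fixS σ)] at h2
  have : 0 < (fixS σ).card := Finset.card_pos.2 ⟨0, by simp⟩
  obtain ⟨x, hx⟩ := Finset.card_pos.1 (show 0 < (A ∩ A').card by omega)
  exact ⟨x, (Finset.mem_inter.1 hx).1, (Finset.mem_inter.1 hx).2⟩

/-- Scalar multiples of a shifted trace set. -/
theorem card_aff {a b : F} (hb : b ≠ 0) : ((trS σ).image fun τ => a + b * τ).card = (trS σ).card :=
  Finset.card_image_of_injective _ fun x y e => mul_left_cancel₀ hb (add_left_cancel e)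

/-- The criterion. -/
theorem exists_phases {c₁ c₂ R : F} (h1 : σ c₁ = c₁) (h2 : σ c₂ = c₂) (hc1 : c₁ ≠ 0) (hc2 : c₂ ≠ 0)
    (hR : R ≠ 0) (hsum : c₁ + c₂ + R = 1) :
    ∃ l m z : F, l * σ l = 1 ∧ m * σ m = 1 ∧ z * σ z = 1 ∧ c₁ * l + c₂ * m + R = z ∧ ¬ (l = 1 ∧ m = 1) := by
  have hRf : σ R = R := by
    rw [show R = 1 - c₁ - c₂ by linear_combination hsum, map_sub, map_sub, map_one, h1, h2]
  set A := (trS σ).image fun τ => (1 + R * R) + (-R) * τ with hA
  set A' := (trS σ).image fun τ => (c₁ * c₁ + c₂ * c₂) + c₁ * c₂ * τ with hA'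
  have hsub : A ⊆ fixS σ := fun x hx => by
    obtain ⟨τ, hτ, rfl⟩ := Finset.mem_image.1 hx
    simp [hRf, mem_fixS.1 (trS_subset hc hτ)]
  have hsub' : A' ⊆ fixS σ := fun x hx => by
    obtain ⟨τ, hτ, rfl⟩ := Finset.mem_image.1 hx
    simp [h1, h2, mem_fixS.1 (trS_subset hc hτ)]
  obtain ⟨x, hx, hx', hx0⟩ := two_common hsub hsub' (by
    rw [card_aff hc (neg_ne_zero.2 hR), card_aff hc (mul_ne_zero hc1 hc2)]
    have := card_trS hc; omega) ((c₁ + c₂) * (c₁ + c₂))
  obtain ⟨_, hzT, hzx⟩ := Finset.mem_image.1 hx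
  obtain ⟨_, hνT, hνx⟩ := Finset.mem_image.1 hx'
  obtain ⟨z, hz, rfl⟩ := mem_trS.1 hzT
  obtain ⟨ν, hν, rfl⟩ := mem_trS.1 hνT
  have e1 : (z - R) * σ (z - R) = x := by
    rw [map_sub, hRf]; linear_combination hz + hzx
  have e2 : (c₁ * ν + c₂) * σ (c₁ * ν + c₂) = x := by
    rw [map_add, map_mul, h1, h2]; linear_combination (c₁ * c₁) * hν + hνx
  have hzero : ∀ {u : F}, u * σ u = 0 → u = 0 := fun {u} hu => by
    rcases mul_eq_zero.1 hu with h0 | h0
    · exact h0
    · rw [← hc.invol u, h0, map_zero]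
  obtain ⟨m, hm, hmeq⟩ : ∃ m : F, m * σ m = 1 ∧ m * (c₁ * ν + c₂) = z - R := by
    by_cases hx00 : x = 0
    · exact ⟨1, by simp, by rw [hzero (e1.trans hx00), hzero (e2.trans hx00)]; simp⟩
    · have hne : c₁ * ν + c₂ ≠ 0 := fun e => hx00 (by rw [← e2, e, zero_mul])
      refine ⟨(z - R) / (c₁ * ν + c₂), ?_, div_mul_cancel₀ _ hne⟩
      rw [map_div₀, div_mul_div_comm, e1, e2, div_self hx00]
  refine ⟨m * ν, m, z, ?_, hm, hz, by linear_combination hmeq, ?_⟩
  · rw [map_mul]; linear_combination (ν * σ ν) * hm + hν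
  · rintro ⟨hl, rfl⟩
    rw [one_mul] at hl
    subst hl
    apply hx0
    rw [← e2, mul_one, map_add, h1, h2]

omit hc in
theorem two_sub_fix {x : F} (hx : σ x = x) : σ (2 - x) = 2 - x := by rw [map_sub, map_ofNat, hx]

/-- Shifted trace sets without zero. -/
theorem card_shift {a b : F} (hb : b ≠ 0) :
    (fixS σ).card ≤ 2 * (((trS σ).image fun τ => a + b * τ).erase 0).card := by
  have := card_trS hc
  have h1 := Finset.pred_card_le_card_erase (s := (trS σ).image fun τ => a + b * τ) (a := 0)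
  rw [card_aff hc hb] at h1
  omega

/-- Two phases balancing two lengths. -/
theorem exists_two_phases {na nb : F} (ha : σ na = na) (hb : σ nb = nb) (ha0 : na ≠ 0) (hb0 : nb ≠ 0) :
    ∃ la lb : F, la * σ la = 1 ∧ lb * σ lb = 1 ∧ la ≠ 1 ∧ lb ≠ 1 ∧
      (2 - (la + σ la)) * na + (2 - (lb + σ lb)) * nb = 0 ∧ (σ la - 1) * na + (σ lb - 1) * nb ≠ 0 := by
  set A := (((trS σ).image fun τ => 2 * na + (-na) * τ).erase 0) with hA
  set A' := (((trS σ).image fun τ => -(2 * nb) + nb * τ).erase 0) with hA'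
  obtain ⟨x, hx, hx'⟩ := one_common (σ := σ) (A := A) (A' := A') (fun x hx => by
      obtain ⟨h0, hx⟩ := Finset.mem_erase.1 hx
      obtain ⟨τ, hτ, rfl⟩ := Finset.mem_image.1 hx
      exact Finset.mem_erase.2 ⟨h0, mem_fixS.2 (by simp [ha, mem_fixS.1 (trS_subset hc hτ), map_ofNat])⟩)
    (fun x hx => by
      obtain ⟨h0, hx⟩ := Finset.mem_erase.1 hx
      obtain ⟨τ, hτ, rfl⟩ := Finset.mem_image.1 hx
      exact Finset.mem_erase.2 ⟨h0, mem_fixS.2 (by simp [hb, mem_fixS.1 (trS_subset hc hτ), map_ofNat])⟩)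
    (by
      have h1 := card_shift hc (a := 2 * na) (neg_ne_zero.2 ha0)
      have h2 := card_shift hc (a := -(2 * nb)) hb0
      rw [← hA] at h1
      rw [← hA'] at h2
      omega)
  obtain ⟨hx0, hx⟩ := Finset.mem_erase.1 hx
  obtain ⟨-, hx'⟩ := Finset.mem_erase.1 hx'
  obtain ⟨_, hlaT, ea⟩ := Finset.mem_image.1 hx
  obtain ⟨_, hlbT, eb⟩ := Finset.mem_image.1 hx'
  obtain ⟨la, hla, rfl⟩ := mem_trS.1 hlaT
  obtain ⟨lb, hlb, rfl⟩ := mem_trS.1 hlbT
  have hla1 : la ≠ 1 := fun e => hx0 (by rw [← ea, e, map_one]; ring)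
  have hlb1 : lb ≠ 1 := fun e => hx0 (by rw [← eb, e, map_one]; ring)
  have hbal : (2 - (la + σ la)) * na + (2 - (lb + σ lb)) * nb = 0 := by linear_combination ea - eb
  have hlb' : σ lb * σ (σ lb) = 1 := by rw [hc.invol, mul_comm]; exact hlb
  have hlb1' : σ lb ≠ 1 := fun e => hlb1 (by rw [← hc.invol lb, e, map_one])
  have hla' : σ la * σ (σ la) = 1 := by rw [hc.invol, mul_comm]; exact hla
  have hla1' : σ la ≠ 1 := fun e => hla1 (by rw [← hc.invol la, e, map_one])
  by_cases h0 : (σ la - 1) * na + (σ lb - 1) * nb = 0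
  · by_cases hbf : σ lb = lb
    · by_cases haf : σ la = la
      · -- both are `-1`: the lengths are opposite
        have hneg : ∀ {l : F}, l * σ l = 1 → σ l = l → l ≠ 1 → l = -1 := fun {l} h1 h2 h3 => by
          rw [h2] at h1
          exact (mul_self_eq_one_iff.1 h1).resolve_left h3
        have ha' := hneg hla haf hla1
        have hb' := hneg hlb hbf hlb1
        have h2 : (2 : F) ≠ 0 := fun e => hla1 (by linear_combination ha' + (-1 : F) * e)
        have hs : na + nb = 0 := by
          rw [ha', hb', map_neg, map_one] at h0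
          exact (mul_eq_zero.1 (show (-2) * (na + nb) = 0 by linear_combination h0)).resolve_left (neg_ne_zero.2 h2)
        obtain ⟨l, hl, hlf⟩ := exists_circ_not_fix hc
        have hl1 : l ≠ 1 := fun e => hlf (by simp [e])
        refine ⟨l, σ l, hl, by rw [hc.invol, mul_comm]; exact hl, hl1, fun e => hl1 ?_, ?_, fun e => hlf ?_⟩
        · rw [← hc.invol l, e, map_one]
        · rw [hc.invol]; linear_combination (2 - (l + σ l)) * hs
        · rw [hc.invol] at e
          have : (σ l - l) * na = 0 := by linear_combination e - (l - 1) * hs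
          exact sub_eq_zero.1 ((mul_eq_zero.1 this).resolve_right ha0)
      · refine ⟨σ la, lb, hla', hlb, hla1', hlb1, by rw [hc.invol]; linear_combination hbal, fun e => haf ?_⟩
        rw [hc.invol] at e
        have : (σ la - la) * na = 0 := by linear_combination h0 - e
        exact sub_eq_zero.1 ((mul_eq_zero.1 this).resolve_right ha0)
    · refine ⟨la, σ lb, hla, hlb', hla1, hlb1', by rw [hc.invol]; linear_combination hbal, fun e => hbf ?_⟩
      rw [hc.invol] at e
      have : (σ lb - lb) * nb = 0 := by linear_combination h0 - e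
      exact sub_eq_zero.1 ((mul_eq_zero.1 this).resolve_right hb0)
  · exact ⟨la, lb, hla, hlb, hla1, hlb1, hbal, h0⟩

/-- An additive set stable under the elements of norm one is everything. -/
theorem closure_circ_eq_top {S : AddSubgroup F} (hS : ∀ l m : F, l * σ l = 1 → m * σ m = 1 → l - m ∈ S) :
    S = ⊤ := by
  set D : Set F := {x | ∃ l m : F, l * σ l = 1 ∧ m * σ m = 1 ∧ x = l - m}
  set A := AddSubgroup.closure D
  have hAS : A ≤ S := (AddSubgroup.closure_le _).2 (by rintro _ ⟨l, m, hl, hm, rfl⟩; exact hS l m hl hm)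
  let R : Subring F :=
    { carrier := {r | ∀ x ∈ A, r * x ∈ A}
      mul_mem' := fun {a b} ha hb x hx => by rw [mul_assoc]; exact ha _ (hb x hx)
      one_mem' := fun x hx => by rw [one_mul]; exact hx
      add_mem' := fun {a b} ha hb x hx => by rw [add_mul]; exact A.add_mem (ha x hx) (hb x hx)
      zero_mem' := fun x _ => by rw [zero_mul]; exact A.zero_mem
      neg_mem' := fun {a} ha x hx => by rw [neg_mul]; exact A.neg_mem (ha x hx) }
  have hcirc : ∀ l : F, l * σ l = 1 → l ∈ R := fun l hl x hx => by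
    refine AddSubgroup.closure_induction (p := fun x _ => l * x ∈ A) ?_ (by rw [mul_zero]; exact A.zero_mem)
      ?_ ?_ hx
    · rintro _ ⟨a, b, ha, hb, rfl⟩
      refine AddSubgroup.subset_closure ⟨l * a, l * b, ?_, ?_, by ring⟩
      · rw [map_mul]; linear_combination (a * σ a) * hl + ha
      · rw [map_mul]; linear_combination (b * σ b) * hl + hb
    · intro a b _ _ ha hb; rw [mul_add]; exact A.add_mem ha hb
    · intro a _ ha; rw [mul_neg]; exact A.neg_mem ha
  let K : AddSubgroup F :=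
    { carrier := {x | σ x = x}
      add_mem' := fun {a b} (ha : σ a = a) (hb : σ b = b) => by
        change σ (a + b) = a + b
        rw [map_add, ha, hb]
      zero_mem' := map_zero σ
      neg_mem' := fun {a} (ha : σ a = a) => by
        change σ (-a) = -a
        rw [map_neg, ha] }
  have hKR : K ≤ R.toAddSubgroup := by
    have hTL : ∀ x ∈ trS σ, x ∈ (K ⊓ R.toAddSubgroup : AddSubgroup F) := fun x hx => by
      obtain ⟨l, hl, rfl⟩ := mem_trS.1 hx
      exact AddSubgroup.mem_inf.2 ⟨mem_fixS.1 (trS_subset hc hx),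
        R.add_mem (hcirc l hl) (hcirc (σ l) (by rw [hc.invol, mul_comm]; exact hl))⟩
    have h1 : (trS σ).card ≤ Nat.card (K ⊓ R.toAddSubgroup : AddSubgroup F) := by
      rw [← Nat.card_eq_finsetCard]
      exact Nat.card_le_card_of_injective (fun x => ⟨x.1, hTL x.1 x.2⟩) fun x y e =>
        Subtype.ext (congrArg (fun z : (K ⊓ R.toAddSubgroup : AddSubgroup F) => (z : F)) e)
    have hK : Nat.card K = (fixS σ).card := by
      rw [← Nat.card_eq_finsetCard]
      exact Nat.card_congr (Equiv.subtypeEquivRight fun x => mem_fixS.symm)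
    obtain ⟨d, hd⟩ := AddSubgroup.card_dvd_of_le (inf_le_left : (K ⊓ R.toAddSubgroup : AddSubgroup F) ≤ K)
    rw [hK] at hd
    have h3 := card_trS hc
    have hd1 : d = 1 := by
      rcases Nat.lt_or_ge d 2 with h4 | h4
      · rcases d with _ | d
        · rw [mul_zero] at hd; have := two_le_fix hc; omega
        · omega
      · exfalso
        have : Nat.card (K ⊓ R.toAddSubgroup : AddSubgroup F) * 2 ≤ Nat.card (K ⊓ R.toAddSubgroup : AddSubgroup F) * d := Nat.mul_le_mul_left _ h4
        omega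
    rw [hd1, mul_one] at hd
    exact (AddSubgroup.eq_of_le_of_card_ge (inf_le_left : (K ⊓ R.toAddSubgroup : AddSubgroup F) ≤ K) (by rw [hK, hd])).ge.trans inf_le_right
  obtain ⟨θ, hθ, hθf⟩ := exists_circ_not_fix hc
  have hθ' : θ - σ θ ≠ 0 := sub_ne_zero.2 (Ne.symm hθf)
  have hR : ∀ x : F, x ∈ R := fun x => by
    set b := (x - σ x) / (θ - σ θ) with hb
    have hbf : σ b = b := by
      rw [hb, map_div₀, map_sub, map_sub, hc.invol, hc.invol, ← neg_sub x, ← neg_sub θ, neg_div_neg_eq]
    have hb' : b * (θ - σ θ) = x - σ x := div_mul_cancel₀ _ hθ'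
    have ha : σ (x - b * θ) = x - b * θ := by rw [map_sub, map_mul, hbf]; linear_combination hb'
    have := R.add_mem (hKR ha) (R.mul_mem (hKR hbf) (hcirc θ hθ))
    simpa using this
  have hd0 : θ - 1 ∈ A := AddSubgroup.subset_closure ⟨θ, 1, hθ, by simp, rfl⟩
  have hd1 : θ - 1 ≠ 0 := sub_ne_zero.2 fun e => hθf (by simp [e])
  refine eq_top_iff.2 fun x _ => hAS ?_
  have := hR (x / (θ - 1)) _ hd0
  rwa [div_mul_cancel₀ _ hd1] at this

end CfsgLib.Classical.UFrameMax
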