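import Cfsg.Agent.Lib.Classical.UFrameMax.Reduce

/-!
# Two involutions, and some consequences of frames
-/

set_option autoImplicit false
set_option linter.unusedSectionVars false

open Module

namespace CfsgLib.Classical.UFrameMax

/-- Two involutions are conjugate in, or commute with an involution of, any finite subgroup containing them. -/
theorem two_involutions {G : Type*} [Group G] [Finite G] {K : Subgroup G} {t t' : G} (ht : t * t = 1)
    (ht' : t' * t' = 1) (hK : t ∈ K) (hK' : t' ∈ K) :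
    (∃ u ∈ K, u * t' * u⁻¹ = t) ∨ ∃ z ∈ K, z ≠ 1 ∧ z * z = 1 ∧ z * t = t * z ∧ z * t' = t' * z := by
  set r := t * t' with hr
  have hti : t⁻¹ = t := inv_eq_of_mul_eq_one_left ht
  have hti' : t'⁻¹ = t' := inv_eq_of_mul_eq_one_left ht'
  have hrK : r ∈ K := K.mul_mem hK hK'
  have hpow : ∀ (s : G), s * r * s⁻¹ = r⁻¹ → ∀ k : ℕ, s * r ^ k * s⁻¹ = (r ^ k)⁻¹ := fun s hs k => by
    rw [← inv_pow, ← hs, conj_pow]
  have h1 : t * r * t⁻¹ = r⁻¹ := by
    rw [hr, mul_inv_rev, hti, hti', ← mul_assoc t t, ht, one_mul]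
  have h2 : t' * r * t'⁻¹ = r⁻¹ := by
    rw [hr, mul_inv_rev, hti, hti', mul_assoc, mul_assoc t, ht', mul_one]
  rcases Nat.even_or_odd (orderOf r) with ⟨k, hk⟩ | ⟨k, hk⟩
  · have hpos := orderOf_pos r
    have hz2 : r ^ k * r ^ k = 1 := by rw [← pow_add, ← hk, pow_orderOf_eq_one]
    have hzi : (r ^ k)⁻¹ = r ^ k := inv_eq_of_mul_eq_one_left hz2
    refine Or.inr ⟨r ^ k, K.pow_mem hrK k, pow_ne_one_of_lt_orderOf (by omega) (by omega), hz2, ?_, ?_⟩
    · have := hpow t h1 k
      rw [hzi, mul_inv_eq_iff_eq_mul] at this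
      exact this.symm
    · have := hpow t' h2 k
      rw [hzi, mul_inv_eq_iff_eq_mul] at this
      exact this.symm
  · refine Or.inl ⟨t' * r ^ k, K.mul_mem hK' (K.pow_mem hrK k), ?_⟩
    have h3 : t' * (r ^ k)⁻¹ * t'⁻¹ = r ^ k := by rw [← hpow t' h2 k]; simp only [← mul_assoc]; simp [hti', ht', mul_assoc]
    have h4 : r ^ k * r ^ k = r⁻¹ := by
      rw [← pow_add, eq_inv_iff_mul_eq_one, ← pow_succ, show k + k + 1 = orderOf r by omega, pow_orderOf_eq_one]
    calc t' * r ^ k * t' * (t' * r ^ k)⁻¹ = t' * r ^ k * (t' * (r ^ k)⁻¹ * t'⁻¹) := by group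
      _ = t' * (r ^ k * r ^ k) := by rw [h3]; group
      _ = t := by rw [h4, hr, mul_inv_rev, hti', hti, ← mul_assoc, ht', one_mul]

variable {F : Type*} [Field F] [DecidableEq F] [Fintype F] {V : Type*} [AddCommGroup V] [Module F V]
  [FiniteDimensional F V] {σ : F →+* F} {B : V →ₛₗ[σ] V →ₗ[F] F} {n : ℕ} {e : Basis (Fin n) F V}
  {M : Subgroup (isomGroup B)}

/-- A monomial isometry does not enlarge supports. -/
theorem Mono.card_map_le {g : isomGroup B} (hg : Mono e g) (x : V) :
    (supp e (g.1 x)).card ≤ (supp e x).card := by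
  classical
  choose f l hf using hg
  refine le_trans (Finset.card_le_card (t := (supp e x).image f) (supp_subset_iff.2 fun j hj => ?_)) Finset.card_image_le
  conv_lhs => rw [← e.sum_repr x]
  simp only [map_sum, map_smul, hf, smul_smul, Finset.sum_apply']
  refine Finset.sum_eq_zero fun i _ => ?_
  by_cases h0 : e.repr x i = 0
  · simp [h0]
  · have hne : j ≠ f i := fun h => hj (Finset.mem_image.2 ⟨i, mem_supp.2 h0, h.symm⟩)
    simp [Finsupp.single_eq_of_ne hne]

theorem finite_isom : Finite (isomGroup B) := by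
  have : Finite V := Module.finite_of_finite F
  exact Finite.of_injective (fun g : isomGroup B => (g.1 : V → V))
    fun a b h => Subtype.ext (LinearEquiv.ext (congrFun h))

theorem perp_perp_fix (h : IsHermitian B) (hN : B.SeparatingRight) {W : Submodule F V} {g : isomGroup B}
    (hg : g ∈ fixSub B (perp B W)) (x : V) : g.1 x - x ∈ W := by
  rw [← h.perp_perp_herm hN W]
  refine mem_perp.2 fun w hw => ?_
  rw [map_sub, sub_eq_zero]
  conv_lhs => rw [← hg w hw, isomGroup_apply]

end CfsgLib.Classical.UFrameMax
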