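import Cfsg.Agent.Lib.Classical.UFrameMax.Dihedral

/-!
# Odd characteristic: elements of small support
-/

set_option autoImplicit false
set_option linter.unusedSectionVars false

open Module

namespace CfsgLib.Classical.UFrameMax

variable {F : Type*} [Field F] [DecidableEq F] [Fintype F] {V : Type*} [AddCommGroup V] [Module F V]
  [FiniteDimensional F V] {σ : F →+* F} {B : V →ₛₗ[σ] V →ₗ[F] F} {n : ℕ} {e : Basis (Fin n) F V}
  {M : Subgroup (isomGroup B)}

namespace FSetting

variable (S : FSetting B e M)
include S

theorem mono_data {g : isomGroup B} (hg : Mono e g) :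
    ∃ (π : Equiv.Perm (Fin n)) (d : Fin n → F), (∀ i, d i * σ (d i) = 1) ∧ ∀ i, g.1 (e i) = d i • e (π i) := by
  choose f d hf using hg
  have hd : ∀ i, d i * σ (d i) = 1 := fun i => S.norm_one (hf i)
  have hinj : Function.Injective f := fun a b hab => by
    by_contra hne
    have h := isomGroup_apply g (e a) (e b)
    rw [hf, hf, hab, S.on a b, if_neg hne] at h
    have h1 : σ (d a) * d b = 0 := by simpa [map_smulₛₗ, S.on, mul_comm] using h
    exact mul_ne_zero (fun h' => norm_ne_zero_of (hd a) (S.sigma_eq_zero h')) (norm_ne_zero_of (hd b)) h1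
  exact ⟨Equiv.ofBijective f (Finite.injective_iff_bijective.1 hinj), d, hd, hf⟩

theorem mono_inv {g : isomGroup B} (hg : Mono e g) : Mono e g⁻¹ := fun k => by
  obtain ⟨π, d, hd, hπ⟩ := S.mono_data hg
  refine ⟨π.symm k, (d (π.symm k))⁻¹, ?_⟩
  change g.1.symm (e k) = _
  rw [LinearEquiv.symm_apply_eq, map_smul, hπ, smul_smul, inv_mul_cancel₀ (norm_ne_zero_of (hd _)), one_smul,
    Equiv.apply_symm_apply]

omit S in
theorem mono_mul {g g' : isomGroup B} (hg : Mono e g) (hg' : Mono e g') : Mono e (g * g') := fun i => by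
  obtain ⟨j, l, hl⟩ := hg' i
  obtain ⟨k, m, hm⟩ := hg j
  refine ⟨k, l * m, ?_⟩
  change g.1 (g'.1 (e i)) = _
  rw [hl, map_smul, hm, smul_smul]

/-- A monomial conjugate of a two-coordinate diagonal element. -/
theorem pair_coord {l : F} (hl : l * σ l = 1) (hl2 : l * l ≠ 1) (hl3 : l * l * l ≠ 1) {u v : V} (huu : B u u = 1)
    (hvv : B v v = 1) (huv : B u v = 0) {y : isomGroup B} (hy : Mono e y)
    (hyx : ∀ x, y.1 x = x + ((l - 1) * B u x) • u + ((σ l - 1) * B v x) • v) :
    ((supp e u).card = 1 ∧ (supp e v).card = 1) ∨ (supp e u = supp e v ∧ (supp e u).card = 2) := by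
  classical
  obtain ⟨π, d, hd, hπ⟩ := S.mono_data hy
  have hyu : y.1 u = l • u := by rw [hyx, huu, S.herm.isRefl _ _ huv]; module
  have hyv : y.1 v = σ l • v := by rw [hyx, huv, hvv]; module
  have hu : ∀ i, l * e.repr u (π i) = d i * e.repr u i := fun i => by
    rw [← repr_mono π d hπ, hyu, map_smul, Finsupp.smul_apply, smul_eq_mul]
  have hv : ∀ i, σ l * e.repr v (π i) = d i * e.repr v i := fun i => by
    rw [← repr_mono π d hπ, hyv, map_smul, Finsupp.smul_apply, smul_eq_mul]
  have hl0 := norm_ne_zero_of hl
  have hσl0 : σ l ≠ 0 := fun h' => hl0 (S.sigma_eq_zero h')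
  set P := Submodule.span F ({u, v} : Set V) with hP
  have hdim : finrank F P ≤ 2 := by
    have h := finrank_span_finset_le_card (R := F) ({u, v} : Finset V)
    rw [Finset.coe_pair] at h
    exact h.trans Finset.card_le_two
  have hδ : ∀ i, y.1 (e i) - e i = ((l - 1) * σ (e.repr u i)) • u + ((σ l - 1) * σ (e.repr v i)) • v := fun i => by
    rw [hyx, ← S.herm.symm (e i) u, ← S.herm.symm (e i) v, S.coord, S.coord]; abel
  have hδP : ∀ i, y.1 (e i) - e i ∈ P := fun i => by
    rw [hδ]
    exact P.add_mem (P.smul_mem _ (Submodule.subset_span (by simp))) (P.smul_mem _ (Submodule.subset_span (by simp)))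
  have hδr : ∀ i k, e.repr (y.1 (e i) - e i) k = (if k = π i then d i else 0) - (if k = i then 1 else 0) :=
    fun i k => by
      rw [map_sub, Finsupp.sub_apply, hπ, repr_smul_basis]
      congr 1
      rw [← one_smul F (e i), repr_smul_basis]
  -- moved coordinates
  have moved : ∀ i, i ∈ supp e u ∪ supp e v → π i ≠ i → supp e u = {i, π i} ∧ supp e v = {i, π i} := by
    intro i hi hmove
    have hor : e.repr u i ≠ 0 ∨ e.repr v i ≠ 0 := (Finset.mem_union.1 hi).imp mem_supp.1 mem_supp.1
    set j := π i with hj
    set k := π j with hk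
    have hjk : k ≠ j := fun h' => hmove (π.injective h')
    by_cases hki : k = i
    · -- a transposition
      have e1 : ∀ (m : F) (x : Fin n → F), (∀ i, m * x (π i) = d i * x i) → m * m * x i = d i * d j * x i :=
        fun m x hx => by
          have h1 := hx i
          have h2 := hx j
          rw [← hk, hki] at h2
          rw [← hj] at h1
          linear_combination m * h2 + d j * h1
      have hP1 : d i * d j ≠ 1 := fun h' => by
        rcases hor with h1 | h1
        · have := e1 l _ hu
          rw [h', one_mul] at this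
          exact hl2 (mul_right_cancel₀ h1 (this.trans (one_mul _).symm))
        · have := e1 (σ l) _ hv
          rw [h', one_mul] at this
          have h2 := congrArg σ (mul_right_cancel₀ h1 (this.trans (one_mul _).symm))
          rw [map_mul, S.conj.invol, map_one] at h2
          exact hl2 h2
      have heP : e i ∈ P ∧ e j ∈ P := by
        have h1 := hδP i
        have h2 := hδP j
        rw [hπ, ← hj] at h1
        rw [hπ, ← hk, hki] at h2
        have h3 : (d i * d j - 1) • e i ∈ P := by
          convert P.add_mem h1 (P.smul_mem (d i) h2) using 1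
          module
        have h4 := P.smul_mem (d i * d j - 1)⁻¹ h3
        rw [smul_smul, inv_mul_cancel₀ (sub_ne_zero.2 hP1), one_smul] at h4
        refine ⟨h4, ?_⟩
        have h5 := P.smul_mem (d i)⁻¹ (P.add_mem h1 h4)
        rwa [sub_add_cancel, smul_smul, inv_mul_cancel₀ (norm_ne_zero_of (hd i)), one_smul] at h5
      have hPeq : cspan e {i, j} = P := Submodule.eq_of_le_of_finrank_le (Submodule.span_le.2 (by
          rintro _ ⟨m, hm, rfl⟩
          simp only [Finset.coe_insert, Finset.coe_singleton, Set.mem_insert_iff, Set.mem_singleton_iff] at hm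
          rcases hm with rfl | rfl
          · exact heP.1
          · exact heP.2))
        (by rw [finrank_cspan, Finset.card_pair (Ne.symm hmove)]; exact hdim)
      have key : ∀ (m : F) (x : V), m ≠ 0 → x ∈ P → x ≠ 0 → (∀ i, m * e.repr x (π i) = d i * e.repr x i) →
          supp e x = {i, j} := by
        intro m x hm hx hx0 hxe
        rw [← hPeq, mem_cspan] at hx
        have h1 := hxe i
        rw [← hj] at h1
        refine Finset.Subset.antisymm hx ?_
        have hboth : e.repr x i ≠ 0 ∧ e.repr x j ≠ 0 := by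
          by_contra hc
          have hz : e.repr x i = 0 ∧ e.repr x j = 0 := by
            rcases not_and_or.1 hc with h2 | h2 <;> rw [not_not] at h2
            · rw [h2, mul_zero] at h1
              exact ⟨h2, (mul_eq_zero.1 h1).resolve_left hm⟩
            · rw [h2, mul_zero] at h1
              exact ⟨(mul_eq_zero.1 h1.symm).resolve_left (norm_ne_zero_of (hd i)), h2⟩
          refine hx0 ((eq_zero_iff_supp (e := e)).1 (Finset.eq_empty_of_forall_notMem fun a ha => ?_))
          have := hx ha
          simp only [Finset.mem_insert, Finset.mem_singleton] at this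
          rcases this with rfl | rfl
          · exact mem_supp.1 ha hz.1
          · exact mem_supp.1 ha hz.2
        intro a ha
        simp only [Finset.mem_insert, Finset.mem_singleton] at ha
        rcases ha with rfl | rfl
        · exact mem_supp.2 hboth.1
        · exact mem_supp.2 hboth.2
      exact ⟨key l u hl0 (Submodule.subset_span (by simp)) (fun h' => by simp [h'] at huu) hu,
        key (σ l) v hσl0 (Submodule.subset_span (by simp)) (fun h' => by simp [h'] at hvv) hv⟩
    · -- longer cycles are impossible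
      exfalso
      have hkk : π k ≠ k := fun h' => hjk (π.injective h')
      have hkj : π k ≠ j := fun h' => hki (π.injective (h'.trans hj))
      let w : Fin 3 → V := ![y.1 (e i) - e i, y.1 (e j) - e j, y.1 (e k) - e k]
      have hdep : ¬ LinearIndependent F w := fun hli => by
        have h1 := finrank_span_eq_card hli
        have h2 : Submodule.span F (Set.range w) ≤ P := Submodule.span_le.2 (by
          rintro _ ⟨a, rfl⟩
          fin_cases a <;> exact hδP _)
        have := Submodule.finrank_mono h2
        rw [h1, Fintype.card_fin] at this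
        omega
      obtain ⟨c, hc, a, ha⟩ := Fintype.not_linearIndependent_iff.1 hdep
      have hcoef : ∀ m, c 0 * ((if m = j then d i else 0) - (if m = i then 1 else 0)) +
          c 1 * ((if m = k then d j else 0) - (if m = j then 1 else 0)) +
          c 2 * ((if m = π k then d k else 0) - (if m = k then 1 else 0)) = 0 := fun m => by
        have h1 := congrArg (fun x => e.repr x m) hc
        simp only [Fin.sum_univ_three, w, Matrix.cons_val_zero, Matrix.cons_val_one, Matrix.cons_val_two,
          Matrix.head_cons, Matrix.tail_cons, map_add, map_smul, Finsupp.add_apply, Finsupp.smul_apply,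
          smul_eq_mul, hδr, map_zero, Finsupp.zero_apply] at h1
        rw [← hj, ← hk] at h1
        exact h1
      have hj' := hcoef j
      have hk' := hcoef k
      have hi' := hcoef i
      simp only [hmove, Ne.symm hmove, hki, Ne.symm hki, hjk, Ne.symm hjk, Ne.symm hkk, Ne.symm hkj, if_true,
        if_false, sub_zero, zero_sub, mul_zero, add_zero, zero_add, sub_self, mul_neg, mul_one] at hi' hj' hk'
      by_cases hik : i = π k
      · rw [if_pos hik] at hi'
        have hc0 : c 0 ≠ 0 := fun h0 => by
          have h1 : c 1 = 0 := by linear_combination -hj' + d i * h0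
          have h2 : c 2 = 0 := by linear_combination -hk' + d j * h1
          fin_cases a <;> simp [h0, h1, h2] at ha
        have h1 : d i * d j * d k = 1 := by
          have : c 0 * (d i * d j * d k - 1) = 0 := by
            linear_combination hi' + d k * hk' + d j * d k * hj'
          exact sub_eq_zero.1 ((mul_eq_zero.1 this).resolve_left hc0)
        have e1 : ∀ (m : F) (x : Fin n → F), (∀ i, m * x (π i) = d i * x i) → m * m * m * x i = x i := fun m x hx => by
          have a1 := hx i
          have a2 := hx j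
          have a3 := hx k
          rw [← hj] at a1
          rw [← hk] at a2
          rw [← hik] at a3
          linear_combination (m * m) * a3 + m * d k * a2 + d j * d k * a1 + x i * h1
        rcases hor with h2 | h2
        · exact hl3 (mul_right_cancel₀ h2 ((e1 l _ hu).trans (one_mul _).symm))
        · have h4 := congrArg σ (mul_right_cancel₀ h2 ((e1 (σ l) _ hv).trans (one_mul _).symm))
          rw [map_mul, map_mul, S.conj.invol, map_one] at h4
          exact hl3 h4
      · rw [if_neg hik] at hi'
        have h0 : c 0 = 0 := by linear_combination -hi'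
        have h1 : c 1 = 0 := by linear_combination -hj' + d i * h0
        have h2 : c 2 = 0 := by linear_combination -hk' + d j * h1
        fin_cases a <;> simp [h0, h1, h2] at ha
  have hne : ∀ {x : V}, B x x = 1 → (supp e x).Nonempty := fun {x} hx =>
    Finset.nonempty_iff_ne_empty.2 fun h' => by rw [eq_zero_iff_supp.1 h'] at hx; simp at hx
  by_cases hex : ∃ i ∈ supp e u ∪ supp e v, π i ≠ i
  · obtain ⟨i, hi, hm⟩ := hex
    obtain ⟨h1, h2⟩ := moved i hi hm
    exact Or.inr ⟨h1.trans h2.symm, by rw [h1]; exact Finset.card_pair (Ne.symm hm)⟩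
  · push Not at hex
    have hll : σ l ≠ l := fun h' => hl2 (by rw [h'] at hl; exact hl)
    have hdu : ∀ i ∈ supp e u, d i = l := fun i hi => by
      have h1 := hu i
      rw [hex i (Finset.mem_union_left _ hi)] at h1
      exact (mul_right_cancel₀ (mem_supp.1 hi) h1).symm
    have hdv : ∀ i ∈ supp e v, d i = σ l := fun i hi => by
      have h1 := hv i
      rw [hex i (Finset.mem_union_right _ hi)] at h1
      exact (mul_right_cancel₀ (mem_supp.1 hi) h1).symm
    have single : ∀ (m : F) (x : V) (i : Fin n), i ∈ supp e x → m ≠ 1 → i ∈ supp e u ∪ supp e v → d i = m →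
        (∀ k, e.repr (y.1 (e i) - e i) k = ((m - 1) * σ (e.repr x i)) * e.repr x k) → (supp e x).card = 1 := by
      intro m x i hi hm hi' hdi hx
      refine Finset.card_eq_one.2 ⟨i, Finset.eq_singleton_iff_unique_mem.2 ⟨hi, fun k hk => ?_⟩⟩
      by_contra hki
      have h1 := hx k
      rw [hδr, hex i hi', if_neg hki, if_neg hki, sub_self] at h1
      exact mul_ne_zero (mul_ne_zero (sub_ne_zero.2 hm) fun h' => mem_supp.1 hi (S.sigma_eq_zero h'))
        (mem_supp.1 hk) h1.symm
    obtain ⟨a, ha⟩ := hne huu
    obtain ⟨b, hb⟩ := hne hvv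
    refine Or.inl ⟨single l u a ha (fun h' => hl2 (by rw [h', one_mul])) (Finset.mem_union_left _ ha) (hdu a ha)
      fun k => ?_, single (σ l) v b hb (fun h' => hl2 ?_) (Finset.mem_union_right _ hb) (hdv b hb) fun k => ?_⟩
    · have hva : e.repr v a = 0 := notMem_supp.1 fun h' => hll ((hdv a h').symm.trans (hdu a ha))
      rw [hδ, hva, map_zero, mul_zero, zero_smul, add_zero, map_smul, Finsupp.smul_apply, smul_eq_mul]
    · have := congrArg σ h'
      rw [S.conj.invol, map_one] at this
      rw [this, one_mul]
    · have hub : e.repr u b = 0 := notMem_supp.1 fun h' => hll ((hdv b hb).symm.trans (hdu b h'))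
      rw [hδ, hub, map_zero, mul_zero, zero_smul, zero_add, map_smul, Finsupp.smul_apply, smul_eq_mul]

theorem exists_phase (h2 : (2 : F) ≠ 0) : ∃ l : F, l * σ l = 1 ∧ l * l ≠ 1 ∧ l * l * l ≠ 1 := by
  obtain ⟨g, hg⟩ := IsCyclic.exists_generator (α := (normHom σ).ker)
  have hord : orderOf g = (fixS σ).card + 1 := by
    rw [orderOf_eq_card_of_forall_mem_zpowers hg, ← card_circ_ker, card_circ S.conj]
  have h3 : 3 ≤ (fixS σ).card := by
    refine le_trans (Finset.card_eq_three.2 ⟨0, 1, -1, zero_ne_one, ?_, ?_, rfl⟩).ge (Finset.card_le_card ?_)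
    · exact (neg_ne_zero.2 one_ne_zero).symm
    · exact fun h' => h2 (by linear_combination h')
    · simp [Finset.insert_subset_iff]
  refine ⟨((g : Fˣ) : F), ?_, fun h' => ?_, fun h' => ?_⟩
  · rw [← normHom_apply, MonoidHom.mem_ker.1 g.2, Units.val_one]
  · have : g ^ 2 = 1 := Subtype.ext (Units.ext (by rw [pow_two]; simpa using h'))
    have := orderOf_le_of_pow_eq_one (by norm_num) this
    omega
  · have : g ^ 3 = 1 := Subtype.ext (Units.ext (by rw [pow_succ, pow_two]; simpa using h'))
    have := orderOf_le_of_pow_eq_one (by norm_num) this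
    omega

variable (h2 : (2 : F) ≠ 0) (hL : ∀ h ∈ M, ∀ i, ∀ l : F, h.1 (e i) = l • e i → Mono e h)
include h2 hL

theorem mono_of_line {h : isomGroup B} (hM : h ∈ M) {i : Fin n} (hi : (supp e (h.1 (e i))).card ≤ 1) :
    Mono e h := by
  have : Nonempty (Fin n) := ⟨i⟩
  obtain ⟨j, hj⟩ := Finset.card_le_one_iff_subset_singleton.1 hi
  obtain ⟨k, hk⟩ := S.exists_fresh {i, j} (lt_of_le_of_lt Finset.card_le_two (by have := S.big; omega))
  simp only [Finset.mem_insert, Finset.mem_singleton, not_or] at hk
  obtain ⟨m, hm, d', hd', hme⟩ := S.exists_mono (Equiv.swap i j) (fun _ => 1) (fun _ => by simp) k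
  have h1 : (m * h).1 (e i) = (e.repr (h.1 (e i)) j * d' j) • e i := by
    change m.1 (h.1 (e i)) = _
    conv_lhs => rw [supp_single hj, map_smul, hme, Equiv.swap_apply_right, smul_smul]
  have h3 := mono_mul (S.mono_inv (fun a => ⟨_, _, hme a⟩ : Mono e m)) (hL _ (M.mul_mem hm hM) i _ h1)
  rwa [inv_mul_cancel_left] at h3

/-- Two zeros of a column bound two columns of the inverse. -/
theorem pair_zero {g : isomGroup B} (hg : g ∈ M) {a c d : Fin n} (hcd : c ≠ d) (hc : c ∉ supp e (g.1 (e a)))
    (hd : d ∉ supp e (g.1 (e a))) :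
    ((supp e ((g⁻¹ : isomGroup B).1 (e c))).card = 1 ∧ (supp e ((g⁻¹ : isomGroup B).1 (e d))).card = 1) ∨
    (supp e ((g⁻¹ : isomGroup B).1 (e c)) = supp e ((g⁻¹ : isomGroup B).1 (e d)) ∧
      (supp e ((g⁻¹ : isomGroup B).1 (e c))).card = 2) := by
  classical
  obtain ⟨l, hl, hl2, hl3⟩ := S.exists_phase h2
  let v : Fin n → F := fun k => if k = c then l else if k = d then σ l else 1
  obtain ⟨D, hD, hDd⟩ := S.exists_diag v fun k => by
    simp only [v]; split_ifs <;> first | exact hl | exact S.norm_sigma hl | simp
  have hDM : D ∈ M := S.mem D (by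
    rw [hDd, ← Finset.prod_subset (Finset.subset_univ {c, d}) fun k _ hk => by
      simp only [Finset.mem_insert, Finset.mem_singleton, not_or] at hk
      simp [v, hk.1, hk.2], Finset.prod_pair hcd]
    simpa [v, Ne.symm hcd] using hl) fun k => ⟨k, v k, hD k⟩
  have hDx : ∀ x, D.1 x = x + ((l - 1) * e.repr x c) • e c + ((σ l - 1) * e.repr x d) • e d := fun x => by
    refine e.repr.injective (Finsupp.ext fun k => ?_)
    rw [show e.repr (D.1 x) k = v k * e.repr x k from repr_mono 1 v hD x k, map_add, map_add, Finsupp.add_apply,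
      Finsupp.add_apply, repr_smul_basis, repr_smul_basis]
    simp only [v]
    split_ifs with h1 h3
    · exact absurd (h1.symm.trans h3) hcd
    · subst h1; ring
    · subst_vars; ring
    · ring
  have hy : (g⁻¹ * D * g).1 (e a) = (1 : F) • e a := by
    change g.1.symm (D.1 (g.1 (e a))) = _
    rw [hDx, notMem_supp.1 hc, notMem_supp.1 hd]
    simp
  have hmono := hL _ (M.mul_mem (M.mul_mem (M.inv_mem hg) hDM) hg) a 1 hy
  refine S.pair_coord hl hl2 hl3 (by rw [isomGroup_apply, S.on, if_pos rfl])
    (by rw [isomGroup_apply, S.on, if_pos rfl]) (by rw [isomGroup_apply, S.on, if_neg hcd]) hmono fun x => ?_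
  have hB : ∀ k, B ((g⁻¹ : isomGroup B).1 (e k)) x = e.repr (g.1 x) k := fun k => by
    rw [← isomGroup_apply g, show g.1 ((g⁻¹ : isomGroup B).1 (e k)) = e k from g.1.apply_symm_apply _, S.coord]
  rw [hB, hB]
  change g.1.symm (D.1 (g.1 x)) = _
  rw [hDx, map_add, map_add, map_smul, map_smul, LinearEquiv.symm_apply_apply]
  rfl

/-- Columns of non-monomial elements have at most two zeros. -/
theorem supp_large {g : isomGroup B} (hg : g ∈ M) (hgm : ¬ Mono e g) (a : Fin n) :
    n ≤ (supp e (g.1 (e a))).card + 2 := by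
  classical
  by_contra! hlt
  obtain ⟨T, hT, hT3⟩ := Finset.exists_subset_card_eq (s := (supp e (g.1 (e a)))ᶜ) (n := 3)
    (by rw [Finset.card_compl, Fintype.card_fin]; omega)
  obtain ⟨c, d, f, hcd, hcf, hdf, rfl⟩ := Finset.card_eq_three.1 hT3
  have hpair := fun {c d : Fin n} => S.pair_zero h2 hL hg (a := a) (c := c) (d := d)
  have hT' : ∀ x ∈ ({c, d, f} : Finset (Fin n)), x ∉ supp e (g.1 (e a)) := fun x hx => Finset.mem_compl.1 (hT hx)
  refine hgm ?_
  have hg' : Mono e g⁻¹ := S.mono_of_line h2 hL (M.inv_mem hg) (i := c) (by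
    rcases hpair hcd (hT' c (by simp)) (hT' d (by simp)) with ⟨h1, -⟩ | ⟨h1, h4⟩
    · exact h1.le
    rcases hpair hcf (hT' c (by simp)) (hT' f (by simp)) with ⟨h5, -⟩ | ⟨h5, -⟩
    · exact h5.le
    have := S.card_le_of_supp g⁻¹ (T := {c, d, f}) (U := supp e ((g⁻¹ : isomGroup B).1 (e c))) fun x hx => by
      simp only [Finset.mem_insert, Finset.mem_singleton] at hx
      rcases hx with rfl | rfl | rfl
      · exact le_rfl
      · exact h1.ge
      · exact h5.ge
    rw [hT3, h4] at this
    omega)
  simpa using S.mono_inv hg'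

theorem mono_of_small {g : isomGroup B} (hg : g ∈ M) (a : Fin n) (h : (supp e (g.1 (e a))).card + 2 < n) :
    Mono e g := by_contra fun hgm => by have := S.supp_large h2 hL hg hgm a; omega

/-- Columns of non-monomial elements have at most one zero. -/
theorem supp_ge (hn : 5 ≤ n) {g : isomGroup B} (hg : g ∈ M) (hgm : ¬ Mono e g) (a : Fin n) :
    n ≤ (supp e (g.1 (e a))).card + 1 := by
  classical
  by_contra! hlt
  obtain ⟨c, hc, d, hd, hcd⟩ := Finset.one_lt_card.1 (show 1 < ((supp e (g.1 (e a)))ᶜ).card by
    rw [Finset.card_compl, Fintype.card_fin]; omega)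
  have hgi : ¬ Mono e g⁻¹ := fun h' => hgm (by simpa using S.mono_inv h')
  have h3 := S.supp_large h2 hL (M.inv_mem hg) hgi c
  rcases S.pair_zero h2 hL hg hcd (Finset.mem_compl.1 hc) (Finset.mem_compl.1 hd) with ⟨h1, -⟩ | ⟨-, h1⟩ <;>
    omega

/-- Few columns of a non-monomial element do not span a frame vector. -/
theorem no_coord {g : isomGroup B} (hg : g ∈ M) (hgm : ¬ Mono e g) {c : V} (hc : (supp e c).card + 2 < n) :
    (supp e (g.1 c)).card ≠ 1 := fun h1 => by
  obtain ⟨y, hy⟩ := Finset.card_eq_one.1 h1
  have hgi : ¬ Mono e g⁻¹ := fun h' => hgm (by simpa using S.mono_inv h')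
  set μ := e.repr (g.1 c) y
  have hμ : μ ≠ 0 := mem_supp.1 (by simp [hy])
  have h3 := S.supp_large h2 hL (M.inv_mem hg) hgi y
  have h4 : (g⁻¹ : isomGroup B).1 (μ • e y) = c := by
    rw [← supp_single hy.subset]; exact g.1.symm_apply_apply c
  rw [← supp_smul hμ, ← map_smul, h4] at h3
  omega

end FSetting

end CfsgLib.Classical.UFrameMax
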