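import Cfsg.Agent.Lib.Classical.HermMax

/-!
# Orthogonal decompositions of Hermitian spaces: components, local moves, axes
-/

set_option autoImplicit false
set_option linter.unusedSectionVars false

open Module

namespace CfsgLib.Classical.UFrameMax

variable {F : Type*} [Field F] {V : Type*} [AddCommGroup V] [Module F V] {σ : F →+* F}
  {B : V →ₛₗ[σ] V →ₗ[F] F}

/-- An orthogonal decomposition into non-degenerate members of dimension `k`. -/
structure UDecomp (B : V →ₛₗ[σ] V →ₗ[F] F) {t : ℕ} (D : Fin t → Submodule F V) (k : ℕ) : Prop where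
  nd : ∀ i, NondegOn B (D i)
  orth : ∀ i j, i ≠ j → ∀ u ∈ D i, ∀ v ∈ D j, B u v = 0
  top : iSup D = ⊤
  dim : ∀ i, finrank F (D i) = k

/-- `g` permutes the members. -/
def Perms {t : ℕ} (D : Fin t → Submodule F V) (g : isomGroup B) : Prop :=
  ∃ π : Equiv.Perm (Fin t), ∀ i, (D i).map (g.1 : V →ₗ[F] V) = D (π i)

namespace UDecomp

variable [FiniteDimensional F V] {t k : ℕ} {D : Fin t → Submodule F V}

/-- The component in `D i`. -/
noncomputable def comp (hd : UDecomp B D k) (i : Fin t) : V →ₗ[F] V :=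
  (D i).subtype ∘ₗ (D i).projectionOnto (perp B (D i)) (hd.nd i).isCompl

variable (hd : UDecomp B D k)
include hd

theorem comp_mem (i : Fin t) (v : V) : hd.comp i v ∈ D i := Subtype.prop _

theorem comp_self {i : Fin t} {v : V} (hv : v ∈ D i) : hd.comp i v = v := by
  rw [comp, LinearMap.comp_apply, Submodule.projectionOnto_apply_of_mem_left _ hv]; rfl

theorem comp_other {i j : Fin t} (hij : i ≠ j) {v : V} (hv : v ∈ D j) : hd.comp i v = 0 := by
  rw [comp, LinearMap.comp_apply, (Submodule.projectionOnto_apply_eq_zero_iff (hd.nd i).isCompl).2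
    (mem_perp.2 fun w hw => hd.orth i j hij w hw v hv)]
  rfl

theorem sum_comp (v : V) : ∑ i, hd.comp i v = v := by
  refine Submodule.iSup_induction D (motive := fun v => ∑ i, hd.comp i v = v)
    (hd.top ▸ Submodule.mem_top (x := v)) ?_ ?_ ?_
  · intro j x hx
    rw [Finset.sum_eq_single j (fun i _ hij => hd.comp_other hij hx) (by simp)]
    exact hd.comp_self hx
  · simp
  · intro x y hx hy
    simp only [map_add, Finset.sum_add_distrib, hx, hy]

theorem form_left {i : Fin t} {w : V} (hw : w ∈ D i) (v : V) : B w v = B w (hd.comp i v) := by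
  conv_lhs => rw [← hd.sum_comp v, map_sum]
  exact Finset.sum_eq_single i (fun j _ hj => hd.orth i j (Ne.symm hj) w hw _ (hd.comp_mem j v)) (by simp)

theorem form_eq (x y : V) : B x y = ∑ i, B (hd.comp i x) (hd.comp i y) := by
  conv_lhs => rw [← hd.sum_comp x, map_sum, LinearMap.sum_apply]
  exact Finset.sum_congr rfl fun i _ => hd.form_left (hd.comp_mem i x) y

/-- An isometry mapping each member into some member permutes them. -/
theorem perms_of_le (hk : 0 < k) {g : isomGroup B} (hg : ∀ i, ∃ j, (D i).map (g.1 : V →ₗ[F] V) ≤ D j) :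
    Perms D g := by
  choose f hf using hg
  have heq : ∀ i, (D i).map (g.1 : V →ₗ[F] V) = D (f i) := fun i =>
    Submodule.eq_of_le_of_finrank_eq (hf i) (by rw [LinearEquiv.finrank_map_eq, hd.dim, hd.dim])
  have hinj : Function.Injective f := fun i j hij => by
    by_contra hne
    obtain ⟨x, hx, hx0⟩ := Submodule.exists_mem_ne_zero_of_ne_bot (p := D i) fun e => by
      have := hd.dim i; rw [e, finrank_bot] at this; omega
    obtain ⟨y, hy, e⟩ : g.1 x ∈ (D j).map (g.1 : V →ₗ[F] V) := by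
      rw [heq j, ← hij, ← heq i]; exact ⟨x, hx, rfl⟩
    obtain rfl := g.1.injective e
    exact hx0 (nondegOn_iff.1 (hd.nd i) y hx fun w hw => hd.orth i j hne w hw y hy)
  exact ⟨Equiv.ofBijective f (Finite.injective_iff_bijective.1 hinj), heq⟩

end UDecomp

section Local

/-- `g` fixes the perpendicular of `W` and preserves `W`. -/
def Local (W : Submodule F V) (g : isomGroup B) : Prop :=
  (∀ x ∈ W, g.1 x ∈ W) ∧ ∀ x ∈ perp B W, g.1 x = x

theorem Local.mul {W : Submodule F V} {g g' : isomGroup B} (hg : Local W g) (hg' : Local W g') :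
    Local W (g * g') :=
  ⟨fun x hx => hg.1 _ (hg'.1 x hx), fun x hx => by
    change g.1 (g'.1 x) = x
    rw [hg'.2 x hx, hg.2 x hx]⟩

/-- Local elements map every member into itself. -/
theorem Local.preserves [FiniteDimensional F V] {t k : ℕ} {D : Fin t → Submodule F V} (hd : UDecomp B D k)
    {i : Fin t} {g : isomGroup B} (hg : Local (D i) g) (j : Fin t) : ∀ x ∈ D j, g.1 x ∈ D j := by
  intro x hx
  rcases eq_or_ne i j with rfl | hij
  · exact hg.1 x hx
  · rwa [hg.2 x (mem_perp.2 fun w hw => hd.orth i j hij w hw x hx)]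

variable [Finite F] [FiniteDimensional F V] (h : IsHermitian B)
include h

theorem local_uTv {g : isomGroup B} {v : V} {c : F} (hg : IsUTv g v c) {W : Submodule F V} (hv : v ∈ W) :
    Local W g := by
  refine ⟨fun x hx => ?_, fun x hx => ?_⟩
  · rw [hg.2.2]; exact W.add_mem hx (W.smul_mem _ hv)
  · rw [hg.2.2, mem_perp.1 hx v hv, mul_zero, zero_smul, add_zero]

/-- A unit vector of `W` orthogonal to a given one. -/
theorem exists_unit_orth {W : Submodule F V} (hW : NondegOn B W) (hd : 3 ≤ finrank F W) {y : V} (hy : y ∈ W) :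
    ∃ z ∈ W, B z z = 1 ∧ B z y = 0 := by
  by_cases hy0 : y = 0
  · obtain ⟨z, hz, hzz⟩ := h.exists_unit_in hW (by omega) (map_one σ)
    exact ⟨z, hz, hzz, by simp [hy0]⟩
  by_cases hyy : B y y = 0
  · obtain ⟨s, hs, hss, hys⟩ := h.exists_partner hW hy hy0 hyy
    have hle : Submodule.span F {y, s} ≤ W := Submodule.span_le.2 (by
      rintro x (rfl | rfl)
      · exact hy
      · exact hs)
    obtain ⟨hnd, hr⟩ := h.finrank_inf_perp (h.nondegOn_hyp hyy hys) hW hle
    have := h.finrank_hyp hyy hys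
    obtain ⟨z, hz, hzz⟩ := h.exists_unit_in hnd (by omega) (map_one σ)
    obtain ⟨h3, h4⟩ := Submodule.mem_inf.1 hz
    exact ⟨z, h3, hzz, h.isRefl _ _ (mem_perp.1 h4 y (Submodule.subset_span (by simp)))⟩
  · obtain ⟨z, hz, -, hzy, hzz⟩ := h.exists_len_orth hW hd hy hyy 1 (map_one σ)
    exact ⟨z, hz, hzz, h.isRefl _ _ hzy⟩

/-- Witt's lemma inside a member. -/
theorem exists_wmove {W : Submodule F V} (hW : NondegOn B W) {x y : V} (hx : x ∈ W) (hy : y ∈ W)
    (hx0 : x ≠ 0) (hy0 : y ≠ 0) (hxy : B x x = B y y) : ∃ g : isomGroup B, Local W g ∧ g.1 x = y := by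
  obtain ⟨a, ha⟩ := (h.restrict W).witt_family (restrictForm_separatingRight hW)
    (a := fun _ : Unit => (⟨x, hx⟩ : W)) (b := fun _ : Unit => (⟨y, hy⟩ : W))
    (linearIndependent_unique_iff.2 fun e => hx0 (congrArg Subtype.val e))
    (linearIndependent_unique_iff.2 fun e => hy0 (congrArg Subtype.val e)) (fun _ _ => hxy)
  refine ⟨isomSum hW.isCompl (fun _ hw _ hu => mem_perp.1 hu _ hw) (fun _ hw _ hu => orth_symm h.isRefl hw hu)
    (a, 1), ⟨fun v hv => ?_, fun v hv => ?_⟩, ?_⟩
  · change sumEquiv hW.isCompl a.1 _ ((⟨v, hv⟩ : W) : V) ∈ W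
    rw [sumEquiv_apply_left]
    exact Subtype.prop _
  · exact sumEquiv_apply_right hW.isCompl _ _ ⟨v, hv⟩
  · change sumEquiv hW.isCompl a.1 _ ((⟨x, hx⟩ : W) : V) = y
    rw [sumEquiv_apply_left]
    exact congrArg Subtype.val (ha ())

/-- A quasi-reflection inside a member. -/
theorem exists_local_qr (hN : B.SeparatingRight) {W : Submodule F V} {z : V} (hz : z ∈ W) (hzz : B z z ≠ 0)
    {l : F} (hl : l * σ l = 1) :
    ∃ g : isomGroup B, Local W g ∧ idet B g = l ∧ ∀ x, B z x = 0 → g.1 x = x := by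
  obtain ⟨g, hg, hgd⟩ := h.exists_qr hN hzz hl
  have hfix : ∀ x, B z x = 0 → g.1 x = x := fun x hx => by rw [hg, hx, mul_zero, zero_smul, add_zero]
  exact ⟨g, ⟨fun x hx => by rw [hg]; exact W.add_mem hx (W.smul_mem _ hz),
    fun x hx => hfix x (mem_perp.1 hx z hz)⟩, hgd, hfix⟩

theorem inv_norm (hN : B.SeparatingRight) (g : isomGroup B) : (idet B g)⁻¹ * σ (idet B g)⁻¹ = 1 := by
  rw [map_inv₀, ← mul_inv, h.idet_norm hN, inv_one]

theorem idet_ne_zero (hN : B.SeparatingRight) (g : isomGroup B) : idet B g ≠ 0 := fun e => by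
  simpa [e] using h.idet_norm hN g

/-- Witt's lemma inside a member of dimension at least three, with determinant one. -/
theorem exists_smove (hN : B.SeparatingRight) {W : Submodule F V} (hW : NondegOn B W) (hd : 3 ≤ finrank F W)
    {x y : V} (hx : x ∈ W) (hy : y ∈ W) (hx0 : x ≠ 0) (hy0 : y ≠ 0) (hxy : B x x = B y y) :
    ∃ g : isomGroup B, Local W g ∧ idet B g = 1 ∧ g.1 x = y := by
  obtain ⟨g, hg, hgx⟩ := exists_wmove h hW hx hy hx0 hy0 hxy
  obtain ⟨z, hz, hzz, hzy⟩ := exists_unit_orth h hW hd hy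
  obtain ⟨r, hr, hrd, hrfix⟩ := exists_local_qr h hN hz (by rw [hzz]; exact one_ne_zero) (inv_norm h hN g)
  refine ⟨r * g, hr.mul hg, by rw [map_mul, hrd, inv_mul_cancel₀ (idet_ne_zero h hN g)], ?_⟩
  change r.1 (g.1 x) = y
  rw [hgx, hrfix y hzy]

end Local

section Axis

variable [Finite F] [FiniteDimensional F V] (h : IsHermitian B)
include h

theorem isTAxis_neg {M : Subgroup (isomGroup B)} {v : V} (hv : IsTAxis M v) : IsTAxis M (-v) := by
  simpa using hv.smul h.conj.invol (neg_ne_zero.2 (one_ne_zero (α := F)))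

/-- An axis from two others. -/
theorem axis_split (hN : B.SeparatingRight) {M : Subgroup (isomGroup B)} {a v : V} (haa : B a a = 0)
    (ha : IsTAxis M a) (hd : IsTAxis M (v - a)) (hne : B a v ≠ 0) (htr : B a v + σ (B a v) = 0) :
    IsTAxis M v := by
  have h1 := h.axis_step hN ha haa hd (c := (B a v)⁻¹) (by
    rw [map_inv₀, eq_neg_of_add_eq_zero_right htr, inv_neg, add_neg_cancel])
  rwa [map_sub, haa, sub_zero, inv_mul_cancel₀ hne, one_smul, sub_add_cancel] at h1

/-- The partner used in the induction step. -/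
theorem exists_attach {P : Submodule F V} (hP : NondegOn B P) (hdim : 2 ≤ finrank F P) {u : V} (hu : u ∈ P)
    (hu0 : u ≠ 0) {r : F} (hr : σ r = r) (hside : 3 ≤ finrank F P ∨ BigFixed σ) :
    ∃ a ∈ P, ∃ ι : F, ι ≠ 0 ∧ ι + σ ι = 0 ∧ B a a = r ∧ B a u = r + ι := by
  obtain ⟨c, hc0, hc⟩ := h.conj.exists_trace_zero
  by_cases huu : B u u = 0
  · obtain ⟨s, hs, hss, hus⟩ := h.exists_partner hP hu hu0 huu
    have hsu : B s u = 1 := by rw [← h.symm, hus, map_one]
    by_cases hrc : ∃ ι : F, ι ≠ 0 ∧ ι + σ ι = 0 ∧ r + ι ≠ 0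
    · obtain ⟨ι, hι0, hι, hne⟩ := hrc
      set x := σ (r + ι) with hx
      have hx0 : x ≠ 0 := fun e => hne (by rw [← h.conj.invol (r + ι), ← hx, e, map_zero])
      obtain ⟨e, he⟩ := h.conj.exists_trace_eq hr
      refine ⟨x • s + (e / σ x) • u, P.add_mem (P.smul_mem _ hs) (P.smul_mem _ hu), ι, hι0, hι, ?_, ?_⟩
      · have hσx : σ x ≠ 0 := by rw [hx, h.conj.invol]; exact hne
        rw [h.add_self, h.smul_self, h.smul_self, hss, huu]
        simp only [map_smulₛₗ, LinearMap.smul_apply, hsu, smul_eq_mul, mul_one, RingHom.id_apply, mul_zero,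
          zero_add, div_mul_cancel₀ _ hσx]
        exact he
      · simp [map_smulₛₗ, hsu, huu, hx, h.conj.invol]
    · push Not at hrc
      -- then `ι = -r` is the only trace zero scalar
      have hι : r + c = 0 := hrc c hc0 hc
      have h3 : 3 ≤ finrank F P := by
        rcases hside with h3 | ⟨t, ht, ht0, ht1⟩
        · exact h3
        · refine absurd (hrc (t * c) (mul_ne_zero ht0 hc0) ?_) fun e => ht1 ?_
          · rw [map_mul, ht, ← mul_add, hc, mul_zero]
          · have : (t - 1) * c = 0 := by linear_combination e - hι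
            exact sub_eq_zero.1 ((mul_eq_zero.1 this).resolve_right hc0)
      have hle : Submodule.span F {u, s} ≤ P := Submodule.span_le.2 (by
        rintro x (rfl | rfl)
        · exact hu
        · exact hs)
      obtain ⟨hnd, hrk⟩ := h.finrank_inf_perp (h.nondegOn_hyp huu hus) hP hle
      have := h.finrank_hyp huu hus
      obtain ⟨z, hz, hzz⟩ := h.exists_unit_in hnd (by omega) hr
      obtain ⟨h4, h5⟩ := Submodule.mem_inf.1 hz
      exact ⟨z, h4, c, hc0, hc, hzz, by
        rw [hι]; exact h.isRefl _ _ (mem_perp.1 h5 u (Submodule.subset_span (by simp)))⟩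
  · set l := σ ((r + c) / B u u) with hl
    have hX := h.nondegOn_span_singleton huu
    obtain ⟨hnd, hrk⟩ := h.finrank_inf_perp hX hP ((Submodule.span_singleton_le_iff_mem _ _).2 hu)
    rw [finrank_span_singleton hu0] at hrk
    obtain ⟨z, hz, hzz⟩ := h.exists_unit_in hnd (by omega) (a := r - l * σ l * B u u) (by
      rw [map_sub, map_mul, h.conj.norm_fixed, hr, h.self_fixed])
    obtain ⟨h4, h5⟩ := Submodule.mem_inf.1 hz
    have huz : B u z = 0 := mem_perp.1 h5 u (Submodule.mem_span_singleton_self u)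
    refine ⟨l • u + z, P.add_mem (P.smul_mem _ hu) h4, c, hc0, hc, ?_, ?_⟩
    · rw [h.add_self, h.smul_self, hzz]; simp [map_smulₛₗ, huz]
    · simp [map_smulₛₗ, hl, h.conj.invol, h.isRefl _ _ huz, div_mul_cancel₀ _ huu]

/-- The induction step. -/
theorem axis_reduce (hN : B.SeparatingRight) {M : Subgroup (isomGroup B)} {P : Submodule F V} (hP : NondegOn B P)
    (hdim : 2 ≤ finrank F P) (hside : 3 ≤ finrank F P ∨ BigFixed σ) {u w o : V} (hu : u ∈ P) (hu0 : u ≠ 0)
    (hw : w ∈ perp B P) (ho : o ∈ perp B P) (hwo : B w o = 0) (hv : B (u + w + o) (u + w + o) = 0)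
    (h1 : ∀ a ∈ P, B (a + w) (a + w) = 0 → IsTAxis M (a + w))
    (h2 : ∀ a ∈ P, B (a + o) (a + o) = 0 → IsTAxis M (a + o)) : IsTAxis M (u + w + o) := by
  obtain ⟨a, ha, ι, hι0, hι, haa, hau⟩ :=
    exists_attach h hP hdim hu hu0 (r := -B w w) (by rw [map_neg, h.self_fixed]) hside
  have e1 : ∀ {x y : V}, x ∈ P → y ∈ perp B P → B x y = 0 := fun hx hy => mem_perp.1 hy _ hx
  have e2 : ∀ {x y : V}, x ∈ P → y ∈ perp B P → B y x = 0 := fun hx hy => orth_symm h.isRefl hx hy
  have haw : B (a + w) (a + w) = 0 := by rw [h.add_self, e1 ha hw, haa]; simp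
  have hb : B (a + w) (u + w + o) = ι := by
    simp only [map_add, LinearMap.add_apply, hau, e1 ha hw, e1 ha ho, e2 hu hw, hwo]
    ring
  refine axis_split h hN haw (h1 a ha haw) ?_ (by rw [hb]; exact hι0) (by rw [hb]; exact hι)
  have hdiff : u + w + o - (a + w) = u - a + o := by abel
  rw [hdiff]
  refine h2 _ (P.sub_mem hu ha) ?_
  rw [← hdiff, map_sub, map_sub, LinearMap.sub_apply, LinearMap.sub_apply, hv, hb, haw,
    ← h.symm (a + w) (u + w + o), hb]
  linear_combination -hι

end Axis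

end CfsgLib.Classical.UFrameMax
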