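import Cfsg.Agent.Lib.Classical.UFrameMax.Basic

/-!
# Overgroups of stabilisers of orthogonal decompositions: members of dimension at least two
-/

set_option autoImplicit false
set_option linter.unusedSectionVars false

open Module

namespace CfsgLib.Classical.UFrameMax

variable {F : Type*} [Field F] {V : Type*} [AddCommGroup V] [Module F V] {σ : F →+* F}
  {B : V →ₛₗ[σ] V →ₗ[F] F} [Finite F] [FiniteDimensional F V] {t k : ℕ} {D : Fin t → Submodule F V}

/-- An overgroup of the stabiliser of a decomposition with members of dimension at least two. -/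
structure BSetting (B : V →ₛₗ[σ] V →ₗ[F] F) (D : Fin t → Submodule F V) (k : ℕ)
    (M : Subgroup (isomGroup B)) : Prop where
  herm : IsHermitian B
  sep : B.SeparatingRight
  dec : UDecomp B D k
  two : 2 ≤ k
  side : 3 ≤ k ∨ BigFixed σ
  members : 2 ≤ t
  mem : ∀ g, idet B g = 1 → Perms D g → g ∈ M

namespace BSetting

variable {M : Subgroup (isomGroup B)} (S : BSetting B D k M)
include S

theorem mem_of_preserves {g : isomGroup B} (hg : idet B g = 1) (hp : ∀ i, ∀ x ∈ D i, g.1 x ∈ D i) : g ∈ M :=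
  S.mem g hg (S.dec.perms_of_le (by have := S.two; omega) fun i => ⟨i, by rintro _ ⟨x, hx, rfl⟩; exact hp i x hx⟩)

theorem axis_member {i : Fin t} {v : V} (hv : v ∈ D i) : IsTAxis M v := fun g c hg =>
  S.mem_of_preserves (S.herm.idet_uTv hg) fun j => (local_uTv S.herm hg hv).preserves S.dec j

theorem exists_iso_nonorth {W : Submodule F V} (hW : NondegOn B W) (hd : 2 ≤ finrank F W) {u : V} (hu : u ∈ W)
    (hu0 : u ≠ 0) : ∃ a ∈ W, B a a = 0 ∧ B a u ≠ 0 := by
  by_contra! hall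
  refine hu0 (nondegOn_iff.1 hW u hu fun w hw => S.herm.isRefl _ _ ?_)
  refine Submodule.span_induction (p := fun w _ => B u w = 0) ?_ (by simp) ?_ ?_ (S.herm.le_span_isotropic hW hd hw)
  · rintro x ⟨hx, hxx⟩
    exact S.herm.isRefl _ _ (hall x hx hxx)
  · intro a b _ _ ha hb; simp [ha, hb]
  · intro c a _ ha; simp [ha]

theorem two_le_dim (i : Fin t) : 2 ≤ finrank F (D i) := by rw [S.dec.dim]; exact S.two

/-- An axis meeting two members, when some element does not permute the members. -/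
theorem exists_mixed {g : isomGroup B} (hg : g ∈ M) (hgP : ¬ Perms D g) :
    ∃ p, B p p = 0 ∧ IsTAxis M p ∧ ∃ i j, i ≠ j ∧ S.dec.comp i p ≠ 0 ∧ S.dec.comp j p ≠ 0 := by
  by_contra! hall
  refine hgP (S.dec.perms_of_le (by have := S.two; omega) fun i => ?_)
  have hone : ∀ x ∈ D i, B x x = 0 → x ≠ 0 → ∃ j, g.1 x ∈ D j ∧ g.1 x ≠ 0 := by
    intro x hx hxx hx0
    have hgx : g.1 x ≠ 0 := fun e => hx0 (g.1.map_eq_zero_iff.1 e)
    obtain ⟨j, hj⟩ : ∃ j, S.dec.comp j (g.1 x) ≠ 0 := by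
      by_contra! hz
      exact hgx (by rw [← S.dec.sum_comp (g.1 x)]; exact Finset.sum_eq_zero fun j _ => hz j)
    refine ⟨j, ?_, hgx⟩
    rw [← S.dec.sum_comp (g.1 x), Finset.sum_eq_single j (fun l _ hlj => hall _
      ((isomGroup_apply g x x).trans hxx) ((S.axis_member hx).map hg) j l (Ne.symm hlj) hj) (by simp)]
    exact S.dec.comp_mem j _
  obtain ⟨e, he, he0, hee⟩ := S.herm.exists_isotropic (S.dec.nd i) (S.two_le_dim i)
  obtain ⟨j, hej, -⟩ := hone e he hee he0
  refine ⟨j, le_trans (Submodule.map_mono (S.herm.le_span_isotropic (S.dec.nd i) (S.two_le_dim i))) ?_⟩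
  rw [Submodule.map_span, Submodule.span_le]
  rintro _ ⟨x, ⟨hx, hxx⟩, rfl⟩
  by_cases hx0 : x = 0
  · simp [hx0]
  obtain ⟨z, hz, hzz, hez, hxz⟩ := S.herm.exists_common_nonorth (S.dec.nd i) he hx he0 hx0 hee hxx
  have hsame : ∀ {a b : V} {ja jb : Fin t}, g.1 a ∈ D ja → g.1 b ∈ D jb → B a b ≠ 0 → ja = jb := by
    intro a b ja jb ha hb hab
    by_contra hne
    exact hab (by rw [← isomGroup_apply g a b]; exact S.dec.orth ja jb hne _ ha _ hb)
  obtain ⟨jz, hjz, -⟩ := hone z hz hzz fun e0 => hez (by simp [e0])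
  obtain ⟨jx, hjx, -⟩ := hone x hx hxx hx0
  rw [SetLike.mem_coe, LinearEquiv.coe_coe]
  rwa [(hsame hej hjz hez).trans (hsame hjx hjz hxz).symm]

/-- An axis with isotropic components in exactly two members. -/
theorem exists_pair {p : V} (hpp : B p p = 0) (hp : IsTAxis M p) {i j : Fin t} (hij : i ≠ j)
    (hi : S.dec.comp i p ≠ 0) (hj : S.dec.comp j p ≠ 0) :
    ∃ a ∈ D i, ∃ b ∈ D j, a ≠ 0 ∧ b ≠ 0 ∧ B a a = 0 ∧ B b b = 0 ∧ IsTAxis M (a + b) := by
  obtain ⟨c₀, hc₀, hc₀'⟩ := S.herm.conj.exists_trace_zero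
  set x := S.dec.comp i p
  set y := S.dec.comp j p
  have hx := S.dec.comp_mem i p
  have hy := S.dec.comp_mem j p
  have hBx : ∀ {w}, w ∈ D i → B w p = B w x := fun hw => S.dec.form_left hw p
  have hBy : ∀ {w}, w ∈ D j → B w p = B w y := fun hw => S.dec.form_left hw p
  obtain ⟨u, hu, huu, hux⟩ := S.exists_iso_nonorth (S.dec.nd i) (S.two_le_dim i) hx hi
  obtain ⟨f, hf⟩ := S.herm.exists_uTv S.sep huu hc₀'
  have hfi := local_uTv S.herm hf hu
  set ι₁ := c₀ * (B u x * σ (B u x)) with hι₁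
  have hι₁0 : ι₁ ≠ 0 := mul_ne_zero hc₀ (mul_ne_zero hux fun e => hux (by
    rw [← S.herm.conj.invol (B u x), e, map_zero]))
  -- the effect on the second member
  obtain ⟨f', b, hf'l, hf'd, hb, hb0, hbb, hf'p, hne⟩ : ∃ (f' : isomGroup B) (b : V), Local (D j) f' ∧
      idet B f' = 1 ∧ b ∈ D j ∧ b ≠ 0 ∧ B b b = 0 ∧ f'.1 p = p + b ∧ ι₁ + B p b ≠ 0 := by
    rcases S.side with hk3 | ⟨r, hr, hr0, hr1⟩
    · obtain ⟨z, hz, hz0, hzz, hyz⟩ : ∃ z ∈ D j, z ≠ 0 ∧ B z z = 0 ∧ B y z = 0 ∧ y + z ≠ 0 := by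
        by_cases hyy : B y y = 0
        · obtain ⟨w, hw0, hw1⟩ : ∃ w : F, w ≠ 0 ∧ w + 1 ≠ 0 := by
            obtain ⟨a, ha⟩ := S.herm.conj.exists_not_fixed
            exact ⟨a, fun e => ha (by simp [e]), fun e => ha (by rw [eq_neg_of_add_eq_zero_left e]; simp)⟩
          refine ⟨w • y, (D j).smul_mem _ hy, smul_ne_zero hw0 hj, by rw [S.herm.smul_self, hyy, mul_zero],
            by rw [map_smul, hyy, smul_zero], ?_⟩
          rw [show y + w • y = (w + 1) • y by module]
          exact smul_ne_zero hw1 hj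
        · obtain ⟨z, hz, hz0, hyz, hzz⟩ := S.herm.exists_len_orth (S.dec.nd j) (by rw [S.dec.dim]; exact hk3) hy
            hyy 0 (map_zero σ)
          refine ⟨z, hz, hz0, hzz, hyz, fun e => hyy ?_⟩
          rw [eq_neg_of_add_eq_zero_right e, map_neg, neg_eq_zero] at hyz
          exact hyz
      obtain ⟨hyz, hyz0⟩ := hyz
      obtain ⟨f', hf', hf'd, hf'y⟩ := exists_smove S.herm S.sep (S.dec.nd j) (by rw [S.dec.dim]; exact hk3) hy
        ((D j).add_mem hy hz) hj hyz0 (by rw [S.herm.add_self, hzz, hyz]; simp)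
      refine ⟨f', z, hf', hf'd, hz, hz0, hzz, ?_, ?_⟩
      · have e : p - y ∈ perp B (D j) := mem_perp.2 fun w hw => by rw [map_sub, hBy hw, sub_self]
        have h1 := hf'.2 _ e
        rw [map_sub, hf'y, sub_eq_iff_eq_add] at h1
        rw [h1]; abel
      · rw [show B p z = 0 by rw [← S.herm.symm z p, hBy hz, S.herm.symm, hyz], add_zero]
        exact hι₁0
    · obtain ⟨u', hu', huu', huy⟩ := S.exists_iso_nonorth (S.dec.nd j) (S.two_le_dim j) hy hj
      have hN0 : B u' y * σ (B u' y) ≠ 0 := mul_ne_zero huy fun e => huy (by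
        rw [← S.herm.conj.invol (B u' y), e, map_zero])
      obtain ⟨c, hc0, hc, hne⟩ : ∃ c : F, c ≠ 0 ∧ c + σ c = 0 ∧ ι₁ + c * (B u' y * σ (B u' y)) ≠ 0 := by
        by_cases he : ι₁ + c₀ * (B u' y * σ (B u' y)) = 0
        · refine ⟨r * c₀, mul_ne_zero hr0 hc₀, by rw [map_mul, hr, ← mul_add, hc₀', mul_zero], fun e => ?_⟩
          have : (r - 1) * (c₀ * (B u' y * σ (B u' y))) = 0 := by linear_combination e - he
          exact hr1 (sub_eq_zero.1 ((mul_eq_zero.1 this).resolve_right (mul_ne_zero hc₀ hN0)))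
        · exact ⟨c₀, hc₀, hc₀', he⟩
      obtain ⟨f', hf'⟩ := S.herm.exists_uTv S.sep huu' hc
      refine ⟨f', (c * B u' y) • u', local_uTv S.herm hf' hu', S.herm.idet_uTv hf', (D j).smul_mem _ hu',
        smul_ne_zero (mul_ne_zero hc0 huy) fun e => huy (by simp [e]), by rw [S.herm.smul_self, huu', mul_zero],
        by rw [hf'.2.2, hBy hu'], ?_⟩
      rw [map_smul, smul_eq_mul, ← S.herm.symm u' p, hBy hu', mul_assoc]
      exact hne
  set a := (c₀ * B u x) • u with ha
  have haD : a ∈ D i := (D i).smul_mem _ hu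
  have ha0 : a ≠ 0 := smul_ne_zero (mul_ne_zero hc₀ hux) fun e => hux (by simp [e])
  have haa : B a a = 0 := by rw [ha, S.herm.smul_self, huu, mul_zero]
  have hfp : f.1 p = p + a := by rw [hf.2.2, hBx hu]
  have hab : B a b = 0 := S.dec.orth i j hij a haD b hb
  have hfb : f.1 b = b := hfi.2 b (mem_perp.2 fun w hw => S.dec.orth i j hij w hw b hb)
  have hm : f * f' ∈ M := S.mem_of_preserves (by rw [map_mul, S.herm.idet_uTv hf, hf'd, one_mul])
    fun l z hz => hfi.preserves S.dec l _ (hf'l.preserves S.dec l z hz)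
  have hmp : (f * f').1 p = p + (a + b) := by
    change f.1 (f'.1 p) = _
    rw [hf'p, map_add, hfp, hfb, add_assoc]
  have hdd : B (a + b) (a + b) = 0 := by rw [S.herm.add_self, haa, hbb, hab]; simp
  have hpd : B p (a + b) = ι₁ + B p b := by
    rw [map_add, ha, map_smul, smul_eq_mul, ← S.herm.symm u p, hBx hu, mul_assoc]
  have hmd : B ((f * f').1 p) (a + b) = ι₁ + B p b := by
    rw [hmp, map_add B, LinearMap.add_apply, hpd, hdd, add_zero]
  have htr : ι₁ + B p b + σ (ι₁ + B p b) = 0 := by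
    have h1 := (isomGroup_apply (f * f') p p).trans hpp
    rw [hmp, S.herm.add_self, hpp, hdd, hpd] at h1
    simpa using h1
  refine ⟨a, haD, b, hb, ha0, hb0, haa, hbb, axis_split S.herm S.sep (a := (f * f').1 p)
    ((isomGroup_apply _ p p).trans hpp) (hp.map hm) ?_ (by rw [hmd]; exact hne) (by rw [hmd]; exact htr)⟩
  rw [hmp, show a + b - (p + (a + b)) = -p by abel]
  exact isTAxis_neg S.herm hp

/-- Vectors of two members with the same lengths. -/
theorem move (hroom : 3 ≤ t ∨ 3 ≤ k) {i j : Fin t} (hij : i ≠ j) {x x' y y' : V} (hx : x ∈ D i) (hx' : x' ∈ D i) (hy : y ∈ D j)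
    (hy' : y' ∈ D j) (hx0 : x ≠ 0) (hx0' : x' ≠ 0) (hy0 : y ≠ 0) (hy0' : y' ≠ 0) (ex : B x x = B x' x')
    (ey : B y y = B y' y') (hax : IsTAxis M (x + y)) : IsTAxis M (x' + y') := by
  obtain ⟨f, hf, hfx⟩ := exists_wmove S.herm (S.dec.nd i) hx hx' hx0 hx0' ex
  obtain ⟨f', hf', hfy⟩ := exists_wmove S.herm (S.dec.nd j) hy hy' hy0 hy0' ey
  obtain ⟨l, z, hz, hzz, hzi, hzj⟩ : ∃ l, ∃ z ∈ D l, B z z = 1 ∧ B z x' = 0 ∧ B z y' = 0 := by
    rcases hroom with ht | hk
    · obtain ⟨l, hli, hlj⟩ : ∃ l, l ≠ i ∧ l ≠ j := by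
        obtain ⟨l, hl⟩ := Finset.exists_mem_notMem_of_card_lt_card (s := ({i, j} : Finset (Fin t)))
          (t := Finset.univ) (by rw [Finset.card_univ, Fintype.card_fin]; exact lt_of_le_of_lt Finset.card_le_two ht)
        simp only [Finset.mem_insert, Finset.mem_singleton, not_or] at hl
        exact ⟨l, hl.2⟩
      obtain ⟨z, hz, hzz⟩ := S.herm.exists_unit_in (S.dec.nd l) (by have := S.two_le_dim l; omega) (map_one σ)
      exact ⟨l, z, hz, hzz, S.dec.orth l i hli z hz _ hx', S.dec.orth l j hlj z hz _ hy'⟩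
    · obtain ⟨z, hz, hzz, hzx⟩ := exists_unit_orth S.herm (S.dec.nd i) (by rw [S.dec.dim]; exact hk) hx'
      exact ⟨i, z, hz, hzz, hzx, S.dec.orth i j hij z hz _ hy'⟩
  obtain ⟨r, hr, hrd, hrf⟩ := exists_local_qr S.herm S.sep hz (by rw [hzz]; exact one_ne_zero)
    (inv_norm S.herm S.sep (f * f'))
  have hm : r * (f * f') ∈ M := S.mem_of_preserves
    (by rw [map_mul, hrd, inv_mul_cancel₀ (idet_ne_zero S.herm S.sep _)])
    fun m w hw => hr.preserves S.dec m _ (hf.preserves S.dec m _ (hf'.preserves S.dec m w hw))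
  have hperp : ∀ {a b : Fin t} {w : V}, a ≠ b → w ∈ D b → w ∈ perp B (D a) :=
    fun hab hw => mem_perp.2 fun u hu => S.dec.orth _ _ hab u hu _ hw
  have e : (r * (f * f')).1 (x + y) = x' + y' := by
    change r.1 (f.1 (f'.1 (x + y))) = _
    rw [map_add f'.1, hf'.2 x (hperp hij.symm hx), hfy, map_add f.1, hfx, hf.2 y' (hperp hij hy'), map_add r.1,
      hrf _ hzi, hrf _ hzj]
  rw [← e]
  exact hax.map hm

/-- All axes meeting two given members only. -/
theorem pair_axes (hroom : 3 ≤ t ∨ 3 ≤ k) {i j : Fin t} (hij : i ≠ j) {a b : V} (haD : a ∈ D i) (hbD : b ∈ D j) (ha0 : a ≠ 0)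
    (hb0 : b ≠ 0) (haa : B a a = 0) (hbb : B b b = 0) (hax : IsTAxis M (a + b)) {x y : V} (hx : x ∈ D i)
    (hy : y ∈ D j) (hxy : B (x + y) (x + y) = 0) : IsTAxis M (x + y) := by
  have hsum : ∀ {x y : V}, x ∈ D i → y ∈ D j → B (x + y) (x + y) = B x x + B y y := fun hx hy => by
    rw [S.herm.add_self, S.dec.orth i j hij _ hx _ hy]; simp
  rw [hsum hx hy] at hxy
  by_cases hx0 : x = 0
  · rw [hx0, zero_add]; exact S.axis_member hy
  by_cases hy0 : y = 0
  · rw [hy0, add_zero]; exact S.axis_member hx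
  by_cases hxx : B x x = 0
  · exact S.move hroom hij haD hx hbD hy ha0 hx0 hb0 hy0 (haa.trans hxx.symm)
      (hbb.trans (by rw [hxx, zero_add] at hxy; exact hxy.symm)) hax
  -- an axis with components of lengths `ν`, `-ν`
  obtain ⟨c, hc0, hc⟩ := S.herm.conj.exists_trace_zero
  obtain ⟨μ, hμ⟩ := S.herm.conj.exists_trace_eq (a := B x x) (S.herm.self_fixed x)
  obtain ⟨a', ha', haa', haa1⟩ := S.herm.exists_partner (S.dec.nd i) haD ha0 haa
  obtain ⟨b', hb', hbb', hbb1⟩ := S.herm.exists_partner (S.dec.nd j) hbD hb0 hbb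
  set ξ := μ / c - 1 with hξ
  have hξ0 : ξ ≠ 0 := fun e => by
    rw [hξ, sub_eq_zero, div_eq_one_iff_eq hc0] at e
    rw [e, hc] at hμ
    exact hxx hμ.symm
  have hb'0 : b' ≠ 0 := fun e => by simp [e] at hbb1
  have hax' : IsTAxis M (a' + ξ • b') := S.move hroom hij haD ha' hbD ((D j).smul_mem _ hb') ha0
    (fun e => by simp [e] at haa1) hb0 (smul_ne_zero hξ0 hb'0) (haa.trans haa'.symm)
    (hbb.trans (by rw [S.herm.smul_self, hbb', mul_zero])) hax
  have habb : B (a + b) (a + b) = 0 := by rw [hsum haD hbD, haa, hbb, add_zero]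
  have h1 := S.herm.axis_step S.sep hax habb hax' hc
  have hB : c * B (a + b) (a' + ξ • b') = μ := by
    simp [haa1, hbb1, S.dec.orth i j hij a haD b' hb', S.dec.orth j i hij.symm b hbD a' ha', hξ]
    field_simp
  rw [hB, show a' + ξ • b' + μ • (a + b) = (a' + μ • a) + (ξ • b' + μ • b) by module] at h1
  have hN1 : B (a' + μ • a) (a' + μ • a) = B x x := by
    rw [S.herm.add_self, haa', S.herm.smul_self, haa, map_smul, smul_eq_mul, ← S.herm.symm a a', haa1, map_one,
      mul_one, hμ]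
    simp
  have hN2 : B (ξ • b' + μ • b) (ξ • b' + μ • b) = B y y := by
    obtain ⟨f, hf⟩ := S.herm.exists_uTv S.sep habb hc
    have e : f.1 (a' + ξ • b') = (a' + μ • a) + (ξ • b' + μ • b) := by rw [hf.2.2, hB]; module
    have h2 := isomGroup_apply f (a' + ξ • b') (a' + ξ • b')
    rw [e, hsum ((D i).add_mem ha' ((D i).smul_mem _ haD))
      ((D j).add_mem ((D j).smul_mem _ hb') ((D j).smul_mem _ hbD)), hsum ha' ((D j).smul_mem _ hb'),
      hN1, haa', S.herm.smul_self, hbb', mul_zero, add_zero] at h2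
    linear_combination h2 - hxy
  refine S.move hroom hij ((D i).add_mem ha' ((D i).smul_mem _ haD)) hx
    ((D j).add_mem ((D j).smul_mem _ hb') ((D j).smul_mem _ hbD)) hy (fun e => hxx ?_) hx0 (fun e => hxx ?_) hy0
    hN1 hN2 h1
  · rw [← hN1, e]; simp
  · have h0 : B y y = 0 := by rw [← hN2, e]; simp
    rw [h0, add_zero] at hxy
    exact hxy

/-- Elements permuting the members arbitrarily. -/
theorem exists_perm (π : Equiv.Perm (Fin t)) : ∃ g ∈ M, ∀ l, ∀ x ∈ D l, g.1 x ∈ D (π l) := by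
  classical
  have hb : ∀ l, ∃ b : Basis (Fin k) F (D l), ∀ x y, B (b x : V) (b y : V) = if x = y then 1 else 0 := fun l => by
    obtain ⟨b, hb⟩ := (S.herm.restrict (D l)).exists_orthonormal (restrictForm_separatingRight (S.dec.nd l))
    exact ⟨b.reindex (finCongr (S.dec.dim l)), fun x y => by
      rw [← restrictForm_apply (B := B), Basis.reindex_apply, Basis.reindex_apply, hb]
      simp⟩
  choose b hb using hb
  let fam : (Fin t → Fin t) → Fin t × Fin k → V := fun f p => (b (f p.1) p.2 : V)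
  have hgram : ∀ f : Fin t → Fin t, Function.Injective f → ∀ p q, B (fam f p) (fam f q) =
      if p = q then 1 else 0 := fun f hf p q => by
    by_cases h1 : p.1 = q.1
    · obtain ⟨l, x⟩ := p
      obtain ⟨l', y⟩ := q
      subst h1
      simp [fam, hb]
    · rw [S.dec.orth _ _ (hf.ne h1) _ (b _ _).2 _ (b _ _).2, if_neg fun e => h1 (congrArg Prod.fst e)]
  have hli : ∀ f : Fin t → Fin t, Function.Injective f → LinearIndependent F (fam f) := fun f hf =>
    Fintype.linearIndependent_iff.2 fun c hc p => by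
      have h1 := congrArg (B (fam f p)) hc
      simpa [map_sum, hgram f hf] using h1
  obtain ⟨g, hg⟩ := S.herm.witt_family S.sep (hli id Function.injective_id) (hli π π.injective)
    fun p q => by rw [hgram _ Function.injective_id, hgram _ π.injective]
  have hmap : ∀ l, ∀ x ∈ D l, g.1 x ∈ D (π l) := fun l x hx => by
    have e : x = ∑ p, (b l).repr ⟨x, hx⟩ p • (b l p : V) := by
      have h1 := congrArg Subtype.val ((b l).sum_repr ⟨x, hx⟩)
      simp only [Submodule.coe_sum, Submodule.coe_smul] at h1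
      exact h1.symm
    rw [e, map_sum]
    refine Submodule.sum_mem _ fun p _ => ?_
    rw [map_smul]
    exact Submodule.smul_mem _ _ (by rw [show g.1 (b l p : V) = _ from hg (l, p)]; exact (b (π l) p).2)
  let i₀ : Fin t := ⟨0, by have := S.members; omega⟩
  obtain ⟨z, hz, hzz⟩ := S.herm.exists_unit_in (S.dec.nd i₀) (by have := S.two_le_dim i₀; omega) (map_one σ)
  obtain ⟨r, hr, hrd, -⟩ := exists_local_qr S.herm S.sep hz (by rw [hzz]; exact one_ne_zero)
    (inv_norm S.herm S.sep g)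
  refine ⟨r * g, S.mem _ (by rw [map_mul, hrd, inv_mul_cancel₀ (idet_ne_zero S.herm S.sep _)])
    (S.dec.perms_of_le (by have := S.two; omega) fun l => ⟨π l, ?_⟩), fun l x hx => hr.preserves S.dec _ _ (hmap l x hx)⟩
  rintro _ ⟨x, hx, rfl⟩
  exact hr.preserves S.dec _ _ (hmap l x hx)

/-- All axes meeting at most two members. -/
theorem two_axes (hroom : 3 ≤ t ∨ 3 ≤ k) {g : isomGroup B} (hg : g ∈ M) (hgP : ¬ Perms D g) {i j : Fin t} (hij : i ≠ j) {x y : V}
    (hx : x ∈ D i) (hy : y ∈ D j) (hxy : B (x + y) (x + y) = 0) : IsTAxis M (x + y) := by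
  obtain ⟨p, hpp, hp, i', j', hij', hi, hj⟩ := S.exists_mixed hg hgP
  obtain ⟨a, ha, b, hb, ha0, hb0, haa, hbb, hax⟩ := S.exists_pair hpp hp hij' hi hj
  let s := Equiv.swap i' i
  have hsj : s j' ≠ i := fun e => hij' (s.injective ((Equiv.swap_apply_left i' i).trans e.symm))
  let π : Equiv.Perm (Fin t) := s.trans (Equiv.swap (s j') j)
  have hπi : π i' = i := by
    change Equiv.swap (s j') j (s i') = i
    rw [show s i' = i from Equiv.swap_apply_left i' i, Equiv.swap_apply_of_ne_of_ne (Ne.symm hsj) hij]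
  have hπj : π j' = j := Equiv.swap_apply_left (s j') j
  obtain ⟨f, hf, hfm⟩ := S.exists_perm π
  have hfa := hfm i' a ha
  have hfb := hfm j' b hb
  rw [hπi] at hfa
  rw [hπj] at hfb
  refine S.pair_axes hroom hij hfa hfb (f.1.map_ne_zero_iff.2 ha0) (f.1.map_ne_zero_iff.2 hb0)
    ((isomGroup_apply f a a).trans haa) ((isomGroup_apply f b b).trans hbb) ?_ hx hy hxy
  rw [← map_add]
  exact hax.map hf

/-- All axes. -/
theorem all_axes (hroom : 3 ≤ t ∨ 3 ≤ k) {g : isomGroup B} (hg : g ∈ M) (hgP : ¬ Perms D g) {v : V} (hv : B v v = 0) : IsTAxis M v := by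
  classical
  induction hc : (Finset.univ.filter fun i => S.dec.comp i v ≠ 0).card using Nat.strong_induction_on
    generalizing v with
  | _ m ih =>
  set s := Finset.univ.filter fun i => S.dec.comp i v ≠ 0 with hs
  have hsum : v = ∑ i ∈ s, S.dec.comp i v := by
    rw [hs, Finset.sum_filter_ne_zero, S.dec.sum_comp]
  by_cases h3 : m ≤ 2
  · rcases Nat.eq_zero_or_pos m with h0 | hpos
    · rw [hsum, Finset.card_eq_zero.1 (hc.trans h0), Finset.sum_empty]
      exact S.herm.isTAxis_zero M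
    rcases Nat.lt_or_ge m 2 with h1 | h2
    · obtain ⟨i, hi⟩ := Finset.card_eq_one.1 (show s.card = 1 by omega)
      rw [hsum, hi, Finset.sum_singleton]
      exact S.axis_member (S.dec.comp_mem i v)
    · obtain ⟨i, j, hij, hi⟩ := Finset.card_eq_two.1 (show s.card = 2 by omega)
      rw [hsum, hi, Finset.sum_pair hij] at hv ⊢
      exact S.two_axes hroom hg hgP hij (S.dec.comp_mem i v) (S.dec.comp_mem j v) hv
  obtain ⟨i, hi, j, hj, hij⟩ := Finset.one_lt_card.1 (show 1 < s.card by omega)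
  set u := S.dec.comp i v with hu
  set w := S.dec.comp j v with hw
  set o := v - u - w with ho
  have hperp : ∀ {z : V}, z ∈ D j → z ∈ perp B (D i) :=
    fun hz => mem_perp.2 fun y hy => S.dec.orth i j hij y hy _ hz
  have hoi : o ∈ perp B (D i) := mem_perp.2 fun y hy => by
    rw [ho, map_sub, map_sub, S.dec.orth i j hij y hy w (S.dec.comp_mem j v), S.dec.form_left hy v, hu]
    simp
  have hwo : B w o = 0 := by
    rw [ho, map_sub, map_sub, S.dec.orth j i hij.symm w (S.dec.comp_mem j v) u (S.dec.comp_mem i v),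
      S.dec.form_left (S.dec.comp_mem j v) v, hw]
    simp
  have he : v = u + w + o := by rw [ho]; abel
  rw [he] at hv ⊢
  refine axis_reduce S.herm S.sep (S.dec.nd i) (S.two_le_dim i) (by rw [S.dec.dim]; exact S.side)
    (S.dec.comp_mem i v) (Finset.mem_filter.1 hi).2 (hperp (S.dec.comp_mem j v)) hoi hwo hv
    (fun a ha e => S.two_axes hroom hg hgP hij ha (S.dec.comp_mem j v) e) fun a ha e => ?_
  refine ih _ ?_ e rfl
  rw [← hc]
  refine Finset.card_lt_card (Finset.ssubset_iff_of_subset (fun l hl => ?_) |>.2 ⟨j, hj, fun hl => ?_⟩)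
  · simp only [hs, Finset.mem_filter, Finset.mem_univ, true_and] at hl ⊢
    intro hl0
    apply hl
    rw [map_add, ho, map_sub, map_sub, hl0, hu, hw]
    rcases eq_or_ne l i with rfl | hli
    · exact absurd hl0 (Finset.mem_filter.1 hi).2
    rcases eq_or_ne l j with rfl | hlj
    · exact absurd hl0 (Finset.mem_filter.1 hj).2
    simp [S.dec.comp_other hli ha, S.dec.comp_other hli (S.dec.comp_mem i v),
      S.dec.comp_other hlj (S.dec.comp_mem j v)]
  · refine (Finset.mem_filter.1 hl).2 ?_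
    rw [map_add, ho, map_sub, map_sub, hu, hw, S.dec.comp_other hij.symm ha,
      S.dec.comp_other hij.symm (S.dec.comp_mem i v), S.dec.comp_self (S.dec.comp_mem j v)]
    simp

theorem sIsom_le (hroom : 3 ≤ t ∨ 3 ≤ k) {g : isomGroup B} (hg : g ∈ M) (hgP : ¬ Perms D g) (hn : 4 ≤ finrank F V) : sIsom B ≤ M :=
  S.herm.sIsom_le_of_axes S.sep hn fun _ hv => S.all_axes hroom hg hgP hv

end BSetting

end CfsgLib.Classical.UFrameMax
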