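import Cfsg.Agent.Lib.Classical.UFrameMax.Dihedral

/-!
# Even characteristic: an element fixing a frame line
-/

set_option autoImplicit false
set_option linter.unusedSectionVars false

open Module

namespace CfsgLib.Classical.UFrameMax

variable {F : Type*} [Field F] [DecidableEq F] [Fintype F] {V : Type*} [AddCommGroup V] [Module F V]
  [FiniteDimensional F V] {σ : F →+* F} {B : V →ₛₗ[σ] V →ₗ[F] F} {n : ℕ} {e : Basis (Fin n) F V}
  {M : Subgroup (isomGroup B)}

/-- In `M`: the transvection with centre `p` and parameter one. -/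
def Ctr (M : Subgroup (isomGroup B)) (p : V) : Prop := B p p = 0 ∧ ∀ g, IsUTv g p 1 → g ∈ M

theorem Ctr.map {p : V} (hp : Ctr M p) {k : isomGroup B} (hk : k ∈ M) : Ctr M (k.1 p) :=
  ⟨(isomGroup_apply k p p).trans hp.1, fun g hg => by
    have h1 := hg.conj k⁻¹
    rw [inv_inv, show (k⁻¹ : isomGroup B).1 (k.1 p) = p from k.1.symm_apply_apply p] at h1
    simpa [mul_assoc] using M.mul_mem (M.mul_mem hk (hp.2 _ h1)) (M.inv_mem hk)⟩

theorem centre_eq (h : IsHermitian B) {g : isomGroup B} {a b : V} {c : F} (hc : c ≠ 0) (ha : IsUTv g a c)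
    (hb : IsUTv g b c) {y : V} (hy : B a y ≠ 0) (ha0 : a ≠ 0) : ∃ l : F, b = l • a := by
  have h1 : (c * B a y) • a = (c * B b y) • b := add_left_cancel ((ha.2.2 y).symm.trans (hb.2.2 y))
  have h2 : c * B b y ≠ 0 := fun e => by
    rw [e, zero_smul, smul_eq_zero] at h1
    exact h1.elim (mul_ne_zero hc hy) ha0
  refine ⟨(c * B b y)⁻¹ * (c * B a y), ?_⟩
  rw [mul_smul, h1, smul_smul, inv_mul_cancel₀ h2, one_smul]

namespace FSetting

variable (S : FSetting B e M) (hbig : BigFixed σ) (h2 : (2 : F) = 0)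
  (hL : ∀ h ∈ M, ∀ i, ∀ l : F, h.1 (e i) = l • e i → Mono e h)
include S h2

theorem one_trace : (1 : F) + σ 1 = 0 := by rw [map_one, one_add_one_eq_two, h2]

theorem B_pair (a b : Fin n) (ζ : F) (u : V) : B (e a + ζ • e b) u = e.repr u a + σ ζ * e.repr u b := by
  simp only [map_add, LinearMap.add_apply, map_smulₛₗ, LinearMap.smul_apply, smul_eq_mul, S.coord]

theorem pair_iso {a b : Fin n} (hab : a ≠ b) {ζ : F} (hζ : ζ * σ ζ = 1) :
    B (e a + ζ • e b) (e a + ζ • e b) = 0 := by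
  rw [S.herm.add_self, S.herm.smul_self, map_smul, S.on, S.on, S.on, if_pos rfl, if_pos rfl, if_neg hab, hζ]
  simp [one_add_one_eq_two, h2]

theorem ctr_pair {a b : Fin n} (hab : a ≠ b) {ζ : F} (hζ : ζ * σ ζ = 1) : Ctr M (e a + ζ • e b) := by
  refine ⟨S.pair_iso h2 hab hζ, fun g hg => S.mem g (S.herm.idet_uTv hg) fun k => ?_⟩
  have hr : ∀ i j, e.repr (e i) j = if j = i then (1 : F) else 0 := fun i j => by
    rw [← one_smul F (e i), repr_smul_basis]
  rcases eq_or_ne k a with rfl | hka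
  · refine ⟨b, ζ, ?_⟩
    rw [hg.2.2, S.B_pair h2, hr, hr, if_pos rfl, if_neg (Ne.symm hab)]
    match_scalars
    · linear_combination h2
    · ring
  rcases eq_or_ne k b with rfl | hkb
  · refine ⟨a, σ ζ, ?_⟩
    rw [hg.2.2, S.B_pair h2, hr, hr, if_neg hab, if_pos rfl]
    match_scalars
    · linear_combination hζ + h2
    · ring
  · refine ⟨k, 1, ?_⟩
    rw [hg.2.2, S.B_pair h2, hr, hr, if_neg (Ne.symm hka), if_neg (Ne.symm hkb)]
    simp

include hbig hL

/-- Centres of large support have full support. -/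
theorem no_zero {p : V} (hp : Ctr M p) (hs : 3 ≤ (supp e p).card) (k : Fin n) : e.repr p k ≠ 0 := by
  classical
  intro hk
  obtain ⟨a, ha⟩ := Finset.card_pos.1 (show 0 < (supp e p).card by omega)
  have hak : a ≠ k := fun e' => mem_supp.1 ha (e' ▸ hk)
  obtain ⟨b, hb⟩ := S.exists_fresh {a, k} (lt_of_le_of_lt Finset.card_le_two (by have := S.big; omega))
  simp only [Finset.mem_insert, Finset.mem_singleton, not_or] at hb
  obtain ⟨ζ, hζ, hne⟩ : ∃ ζ : F, ζ * σ ζ = 1 ∧ e.repr p a + σ ζ * e.repr p b ≠ 0 := by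
    by_contra! hall
    obtain ⟨l, hl, hl1, -⟩ := exists_circ_ne S.conj 1 1
    have e1 := hall 1 (by simp)
    rw [map_one, one_mul] at e1
    have e2 := hall l hl
    have : (σ l - 1) * e.repr p b = 0 := by linear_combination e2 - e1
    have hb0 := (mul_eq_zero.1 this).resolve_left (sub_ne_zero.2 fun e' => hl1 (by rw [← S.conj.invol l, e', map_one]))
    rw [hb0, add_zero] at e1
    exact mem_supp.1 ha e1
  set x := e a + ζ • e b with hx
  have hxC := S.ctr_pair h2 (Ne.symm hb.1) hζ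
  rw [← hx] at hxC
  have hxp : B x p ≠ 0 := by rw [hx, S.B_pair h2]; exact hne
  have hxp' : B p x ≠ 0 := fun e' => hxp (S.herm.isRefl _ _ e')
  have hxx : B x x = 0 := hxC.1
  have hpp : B p p = 0 := hp.1
  obtain ⟨t, ht⟩ := S.herm.exists_uTv S.sep hxx (S.one_trace h2)
  obtain ⟨t', ht'⟩ := S.herm.exists_uTv S.sep hpp (S.one_trace h2)
  have hinv : ∀ {s : isomGroup B} {y : V}, IsUTv s y 1 → s * s = 1 := fun {s y} hs =>
    Subtype.ext (LinearEquiv.ext fun u => by
      change s.1 (s.1 u) = u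
      rw [hs.2.2 (s.1 u), hs.2.2 u, map_add, map_smul, hs.1, smul_zero, add_zero]
      match_scalars
      · ring
      · linear_combination B y u * h2)
  set P := Submodule.span F {x, p} with hP
  have hPn : NondegOn B P := S.herm.nondegOn_pair (by
    rw [hxx, hpp, zero_mul, zero_sub, neg_ne_zero]
    exact mul_ne_zero hxp fun e' => hxp (S.sigma_eq_zero e'))
  have hmemP : ∀ {u : V}, u ∈ perp B P → B x u = 0 ∧ B p u = 0 := fun {u} hu =>
    ⟨mem_perp.1 hu x (Submodule.subset_span (by simp)), mem_perp.1 hu p (Submodule.subset_span (by simp))⟩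
  have hfix : ∀ {s : isomGroup B} {y : V}, IsUTv s y 1 → (y = x ∨ y = p) → s ∈ fixSub B (perp B P) :=
    fun {s y} hs hy u hu => by
      rw [hs.2.2]
      rcases hy with rfl | rfl
      · rw [(hmemP hu).1]; simp
      · rw [(hmemP hu).2]; simp
  have hx0 : x ≠ 0 := fun e' => hxp (by simp [e'])
  have hp0 : p ≠ 0 := fun e' => hxp (by simp [e'])
  have := finite_isom (B := B)
  rcases two_involutions (K := M ⊓ fixSub B (perp B P)) (hinv ht) (hinv ht')
    (Subgroup.mem_inf.2 ⟨hxC.2 t ht, hfix ht (Or.inl rfl)⟩)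
    (Subgroup.mem_inf.2 ⟨hp.2 t' ht', hfix ht' (Or.inr rfl)⟩) with ⟨u, hu, he⟩ | ⟨z, hz, hz1, hz2, hzt, hzt'⟩
  · obtain ⟨huM, huF⟩ := Subgroup.mem_inf.1 hu
    have hc := ht'.conj u
    rw [he] at hc
    obtain ⟨l, hl⟩ := centre_eq S.herm one_ne_zero ht hc hxp hx0
    have hek : e k ∈ perp B P := mem_perp_span.2 fun w hw => by
      rcases hw with h | h <;> rw [h]
      · rw [hx, S.B_pair h2, ← one_smul F (e k), repr_smul_basis, repr_smul_basis, if_neg hak,
          if_neg hb.2]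
        simp
      · rw [← S.herm.symm (e k) p, S.coord, hk, map_zero]
    have huk : u.1 (e k) = (1 : F) • e k := by rw [one_smul]; exact huF _ hek
    have huk' : (u⁻¹ : isomGroup B).1 (e k) = (1 : F) • e k := by
      rw [one_smul]; exact (fixSub B (perp B P)).inv_mem huF _ hek
    have hm := hL _ (M.inv_mem huM) k 1 huk'
    have hl0 : l ≠ 0 := fun e' => hp0 (u.1.map_eq_zero_iff.1 (by rw [hl, e', zero_smul]))
    have h3 := hm.card_map_le (u.1 p)
    rw [show (u⁻¹ : isomGroup B).1 (u.1 p) = p from u.1.symm_apply_apply p, hl, supp_smul hl0] at h3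
    have h4 : (supp e x).card ≤ 2 := by
      refine le_trans (Finset.card_le_card ((supp_add_subset (e a) (ζ • e b)).trans ?_)) (Finset.card_le_two (a := a) (b := b))
      rw [supp_smul (norm_ne_zero_of hζ), supp_basis, supp_basis]
      intro i; simp
    omega
  · obtain ⟨hzM, hzF⟩ := Subgroup.mem_inf.1 hz
    have hline : ∀ {s : isomGroup B} {y y' : V}, IsUTv s y 1 → z * s = s * z → B y y' ≠ 0 → y ≠ 0 →
        z.1 y = y := fun {s y y'} hs hcomm hne hy0 => by
      have hc := hs.conj z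
      rw [hcomm, mul_inv_cancel_right] at hc
      obtain ⟨l, hl⟩ := centre_eq S.herm one_ne_zero hs hc hne hy0
      have h1 : z.1 (z.1 y) = y := congrArg (fun g : isomGroup B => g.1 y) hz2
      rw [hl, map_smul, hl, smul_smul] at h1
      have h3 : l * l = 1 := smul_left_injective F hy0 (h1.trans (one_smul F y).symm)
      have h4 : (l - 1) * (l - 1) = 0 := by linear_combination h3 + (1 - l) * h2
      rw [hl, sub_eq_zero.1 (mul_self_eq_zero.1 h4), one_smul]
    have e1 := hline ht hzt hxp hx0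
    have e2 := hline ht' hzt' hxp' hp0
    refine hz1 (Subtype.ext (LinearEquiv.ext fun v => ?_))
    obtain ⟨w, w', rfl⟩ := exists_add_eq hPn.isCompl v
    obtain ⟨α, β, hw⟩ := Submodule.mem_span_pair.1 w.2
    change z.1 ((w : V) + w') = (w : V) + w'
    rw [map_add, hzF _ w'.2, ← hw, map_add, map_smul, map_smul, e1, e2]

omit hbig hL in
theorem exists_sqrt {a : F} (ha : σ a = a) : ∃ r : F, σ r = r ∧ r * r = a := by
  have hch : ringChar F = 2 := by
    have : CharP F 2 := CharTwo.of_one_ne_zero_of_two_eq_zero one_ne_zero h2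
    exact ringChar.eq F 2
  obtain ⟨r, hr⟩ := FiniteField.isSquare_of_char_two hch a
  refine ⟨r, sub_eq_zero.1 (mul_self_eq_zero.1 ?_), hr.symm⟩
  have h1 : σ r * σ r = a := by rw [← map_mul, ← hr, ha]
  linear_combination h1 + hr + (r * r - σ r * r) * h2 - 0 * hr

/-- Scaling the lengths of the coordinates of a centre. -/
theorem scale {p : V} (hp : Ctr M p) (hs : 3 ≤ (supp e p).card) {c d : Fin n} (hcd : c ≠ d) {r : F}
    (hr : σ r = r) (hr2 : r * r = σ (e.repr p c) * e.repr p c * (σ (e.repr p d) * e.repr p d)) {l : F}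
    (hl : l * σ l = 1) :
    ∃ (p' : V) (γ : F), Ctr M p' ∧ (∀ k, k ≠ c → k ≠ d → e.repr p' k = γ * e.repr p k) ∧
      γ * σ γ = σ (e.repr p c) * e.repr p c + σ (e.repr p d) * e.repr p d + r * (l + σ l) ∧
      γ * e.repr p c = σ (e.repr p c) * e.repr p c + r * l ∧ e.repr p' c = 1 + γ * e.repr p c := by
  set α := e.repr p c
  set β := e.repr p d
  have hα : α ≠ 0 := S.no_zero hbig h2 hL hp hs c
  have hβ : β ≠ 0 := S.no_zero hbig h2 hL hp hs d
  have hσα : σ α ≠ 0 := fun h' => hα (S.sigma_eq_zero h')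
  have hσβ : σ β ≠ 0 := fun h' => hβ (S.sigma_eq_zero h')
  set ζ := l * r / (α * σ β) with hζdef
  have hζ : ζ * σ ζ = 1 := by
    rw [hζdef, map_div₀, map_mul, map_mul, S.conj.invol, hr]
    field_simp
    linear_combination (r * r) * hl + hr2
  obtain ⟨t, ht⟩ := S.herm.exists_uTv S.sep hp.1 (S.one_trace h2)
  have hx := (S.ctr_pair h2 hcd hζ).map (hp.2 t ht)
  set γ := B p (e c + ζ • e d) with hγdef
  have hγ : γ = σ α + σ β * ζ := by
    rw [hγdef, map_add, map_smul, ← S.herm.symm (e c) p, ← S.herm.symm (e d) p, S.coord, S.coord, smul_eq_mul,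
      mul_comm ζ]
  have hre : ∀ k, e.repr (t.1 (e c + ζ • e d)) k =
      (if k = c then 1 else 0) + ζ * (if k = d then 1 else 0) + γ * e.repr p k := fun k => by
    rw [ht.2.2, ← hγdef, one_mul, map_add, map_smul, map_add, map_smul, Finsupp.add_apply, Finsupp.add_apply,
      Finsupp.smul_apply, Finsupp.smul_apply, ← one_smul F (e c), ← one_smul F (e d), repr_smul_basis,
      repr_smul_basis, smul_eq_mul, smul_eq_mul]
  have hγc : γ * α = σ α * α + r * l := by
    rw [hγ, hζdef]; field_simp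
  refine ⟨_, γ, hx, fun k h1 h3 => by rw [hre, if_neg h1, if_neg h3]; ring, ?_, hγc, by
    rw [hre, if_pos rfl, if_neg hcd]; ring⟩
  have e1 : α * σ β * ζ = l * r := by rw [hζdef, mul_div_cancel₀ _ (mul_ne_zero hα hσβ)]
  have e2 : σ α * β * σ ζ = σ l * r := by
    have := congrArg σ e1
    rwa [map_mul, map_mul, map_mul, S.conj.invol, hr] at this
  rw [hγ, map_add, map_mul, S.conj.invol, S.conj.invol]
  linear_combination e1 + e2 + (β * σ β) * hζ

omit hbig hL in
theorem sum_split {p p' : V} {γ : F} {a : Fin n} (h : e.repr p' a = γ * e.repr p a) :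
    σ (e.repr p' a) * e.repr p' a = γ * σ γ * (σ (e.repr p a) * e.repr p a) := by
  rw [h, map_mul]; ring

/-- Some element fixes a frame line without being monomial. -/
theorem false_of_even (hn : 6 ≤ n) {g : isomGroup B} (hg : g ∈ M) (hgm : ¬ Mono e g) : False := by
  classical
  obtain ⟨a₀, b₀, ζ₀, hab₀, hζ₀, h3⟩ := S.exists_spread hgm
  have hp₀ := (S.ctr_pair h2 hab₀ hζ₀).map hg
  set ν : V → Fin n → F := fun p k => σ (e.repr p k) * e.repr p k with hν
  have hνf : ∀ p k, σ (ν p k) = ν p k := fun p k => by simp only [hν, map_mul, S.conj.invol, mul_comm]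
  have hν0 : ∀ {p}, Ctr M p → 3 ≤ (supp e p).card → ∀ k, ν p k ≠ 0 := fun {p} hp hs k =>
    mul_ne_zero (fun h' => S.no_zero hbig h2 hL hp hs k (S.sigma_eq_zero h')) (S.no_zero hbig h2 hL hp hs k)
  -- moving keeps the support large
  have hlarge : ∀ {p p' : V} {γ : F} {c d : Fin n}, Ctr M p → 3 ≤ (supp e p).card → γ ≠ 0 →
      (∀ k, k ≠ c → k ≠ d → e.repr p' k = γ * e.repr p k) → 3 ≤ (supp e p').card := by
    intro p p' γ c d hp hs hγ hk
    refine le_trans ?_ (Finset.card_le_card (s := Finset.univ \ {c, d}) fun k hk' => ?_)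
    · rw [Finset.card_univ_sdiff, Fintype.card_fin]
      have := Finset.card_le_two (a := c) (b := d)
      omega
    · simp only [Finset.mem_sdiff, Finset.mem_insert, Finset.mem_singleton, not_or] at hk'
      rw [mem_supp, hk k hk'.2.1 hk'.2.2]
      exact mul_ne_zero hγ (S.no_zero hbig h2 hL hp hs k)
  -- no exact pair
  have hexact : ∀ {p : V}, Ctr M p → 3 ≤ (supp e p).card → ∀ a b : Fin n, a ≠ b →
      (1 + ν p a) * (1 + ν p a) ≠ ν p a * ν p b := by
    intro p hp hs a b hab heq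
    have hα := S.no_zero hbig h2 hL hp hs a
    have hβ := S.no_zero hbig h2 hL hp hs b
    set α := e.repr p a with hαd
    set β := e.repr p b with hβd
    have hσα : σ α ≠ 0 := fun h' => hα (S.sigma_eq_zero h')
    have hσβ : σ β ≠ 0 := fun h' => hβ (S.sigma_eq_zero h')
    set ζ := (1 / α + σ α) / σ β with hζdef
    simp only [hν] at heq
    rw [← hαd, ← hβd] at heq
    have hζ : ζ * σ ζ = 1 := by
      rw [hζdef, map_div₀, map_add, map_div₀, map_one, S.conj.invol, S.conj.invol]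
      field_simp
      linear_combination heq
    obtain ⟨t, ht⟩ := S.herm.exists_uTv S.sep hp.1 (S.one_trace h2)
    have hx := (S.ctr_pair h2 hab hζ).map (hp.2 t ht)
    have hγ : B p (e a + ζ • e b) = 1 / α := by
      rw [map_add, map_smul, ← S.herm.symm (e a) p, ← S.herm.symm (e b) p, S.coord, S.coord, smul_eq_mul, ← hαd,
        ← hβd, hζdef, div_mul_cancel₀ _ hσβ]
      linear_combination σ α * h2
    have hre : ∀ k, e.repr (t.1 (e a + ζ • e b)) k =
        (if k = a then 1 else 0) + ζ * (if k = b then 1 else 0) + 1 / α * e.repr p k := fun k => by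
      rw [ht.2.2, hγ, one_mul, map_add, map_smul, map_add, map_smul, Finsupp.add_apply, Finsupp.add_apply,
        Finsupp.smul_apply, Finsupp.smul_apply, ← one_smul F (e a), ← one_smul F (e b), repr_smul_basis,
        repr_smul_basis, smul_eq_mul, smul_eq_mul]
    refine S.no_zero hbig h2 hL hx (hlarge hp hs (one_div_ne_zero hα) (c := a) (d := b) fun k h1 h3 => by
      rw [hre, if_neg h1, if_neg h3]; ring) a ?_
    rw [hre, if_pos rfl, if_neg hab, ← hαd, one_div, inv_mul_cancel₀ hα]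
    linear_combination h2
  have hq3 : 3 ≤ (fixS σ).card := by
    obtain ⟨t, ht, ht0, ht1⟩ := hbig
    refine le_trans (Finset.card_eq_three.2 ⟨0, 1, t, zero_ne_one, Ne.symm ht0, Ne.symm ht1, rfl⟩).ge
      (Finset.card_le_card ?_)
    simp [Finset.insert_subset_iff, ht]
  -- two different lengths
  obtain ⟨p, hp, hs, a, b, hab⟩ : ∃ p, Ctr M p ∧ 3 ≤ (supp e p).card ∧ ∃ a b, ν p a ≠ ν p b := by
    by_cases hex : ∃ a b, ν (g.1 (e a₀ + ζ₀ • e b₀)) a ≠ ν (g.1 (e a₀ + ζ₀ • e b₀)) b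
    · exact ⟨_, hp₀, h3, hex⟩
    push Not at hex
    set p := g.1 (e a₀ + ζ₀ • e b₀)
    obtain ⟨c, hc⟩ := S.exists_fresh ∅ (by simp; omega)
    obtain ⟨d, hd⟩ := S.exists_fresh {c} (by simp; omega)
    obtain ⟨k, hk⟩ := S.exists_fresh {c, d} (lt_of_le_of_lt Finset.card_le_two (by omega))
    simp only [Finset.mem_insert, Finset.mem_singleton, not_or] at hd hk
    set v := ν p c with hv
    obtain ⟨τ, hτ, hτ'⟩ := Finset.exists_mem_notMem_of_card_lt_card (s := ({0, 1 / v} : Finset F)) (t := trS σ)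
      (lt_of_le_of_lt Finset.card_le_two (by have := card_trS S.conj; omega))
    simp only [Finset.mem_insert, Finset.mem_singleton, not_or] at hτ'
    obtain ⟨l, hl, rfl⟩ := mem_trS.1 hτ
    obtain ⟨p', γ, hp', hk', hN, hc', hpc⟩ := S.scale hbig h2 hL hp₀ h3 (Ne.symm hd) (hνf p c)
      (show v * v = ν p c * ν p d by rw [hex d c]) hl
    have hv0 : v ≠ 0 := hν0 hp₀ h3 c
    have hN' : γ * σ γ = v * (l + σ l) := by
      change γ * σ γ = ν p c + ν p d + v * (l + σ l) at hN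
      rw [hex d c] at hN
      linear_combination hN + v * h2
    have hγ0 : γ ≠ 0 := fun h' => by
      rw [h', zero_mul] at hN'
      exact mul_ne_zero hv0 hτ'.1 hN'.symm
    refine ⟨p', hp', hlarge hp₀ h3 hγ0 hk', c, k, fun heq => hτ'.2 ?_⟩
    simp only [hν] at heq
    rw [hpc, hk' k hk.1 hk.2, map_add, map_one, map_mul, map_mul] at heq
    change γ * e.repr p c = v + v * l at hc'
    have hvf : σ v = v := hνf p c
    have hc'' : σ γ * σ (e.repr p c) = v + v * σ l := by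
      have := congrArg σ hc'
      rwa [map_mul σ γ, map_add, map_mul σ v l, hvf] at this
    have hvk : σ (e.repr p k) * e.repr p k = v := hex k c
    have hvc : σ (e.repr p c) * e.repr p c = v := rfl
    field_simp
    linear_combination heq - hc' - hc'' - (γ * σ γ) * hvc + (γ * σ γ) * hvk - v * h2 - h2
  have hab' : a ≠ b := fun h' => hab (by rw [h'])
  obtain ⟨c, hc⟩ := S.exists_fresh {a, b} (lt_of_le_of_lt Finset.card_le_two (by omega))
  obtain ⟨d, hd⟩ := S.exists_fresh {a, b, c} (lt_of_le_of_lt Finset.card_le_three (by omega))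
  obtain ⟨c₂, hc₂⟩ := S.exists_fresh {a, b, c, d} (lt_of_le_of_lt Finset.card_le_four (by omega))
  obtain ⟨d₂, hd₂⟩ := S.exists_fresh {a, b, c, d, c₂} (lt_of_le_of_lt Finset.card_le_five (by omega))
  simp only [Finset.mem_insert, Finset.mem_singleton, not_or] at hc hd hc₂ hd₂
  obtain ⟨w, hw, hw2⟩ := S.exists_sqrt h2 (a := ν p a * ν p b) (by rw [map_mul, hνf, hνf])
  obtain ⟨r₁, hr₁, hr₁2⟩ := S.exists_sqrt h2 (a := ν p c * ν p d) (by rw [map_mul, hνf, hνf])
  obtain ⟨r₂, hr₂, hr₂2⟩ := S.exists_sqrt h2 (a := ν p c₂ * ν p d₂) (by rw [map_mul, hνf, hνf])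
  have hr0 : ∀ {r : F} {i j : Fin n}, r * r = ν p i * ν p j → r ≠ 0 := fun {r i j} h' e' => by
    rw [e', zero_mul] at h'
    exact mul_ne_zero (hν0 hp hs i) (hν0 hp hs j) h'.symm
  set K := ν p a + w with hK
  have hK0 : K ≠ 0 := fun h' => hab (mul_left_cancel₀ (hν0 hp hs a) (by
    linear_combination hw2 + (ν p a - w) * h'))
  set A₀ := (((trS σ).image fun τ => (ν p c + ν p d) + r₁ * τ).erase 0) with hA₀
  set A := A₀.image fun s => s * s * K with hA
  set A₀' := (((trS σ).image fun τ => (ν p c₂ + ν p d₂) + r₂ * τ).erase 0) with hA₀'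
  set A' := A₀'.image fun s => 1 / s with hA'
  have hf₀ : ∀ {s : F} {i j : Fin n} {r : F}, σ r = r →
      s ∈ (((trS σ).image fun τ => (ν p i + ν p j) + r * τ).erase 0) → σ s = s ∧ s ≠ 0 := by
    intro s i j r hr hs'
    obtain ⟨h0, hs'⟩ := Finset.mem_erase.1 hs'
    obtain ⟨τ, hτ, rfl⟩ := Finset.mem_image.1 hs'
    exact ⟨by simp [hr, hνf, mem_fixS.1 (trS_subset S.conj hτ)], h0⟩
  obtain ⟨x, hx, hx'⟩ := one_common (σ := σ) (A := A) (A' := A') (fun x hx => by
      obtain ⟨s, hs', rfl⟩ := Finset.mem_image.1 hx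
      obtain ⟨h1, h3⟩ := hf₀ hr₁ hs'
      exact Finset.mem_erase.2 ⟨mul_ne_zero (mul_ne_zero h3 h3) hK0,
        mem_fixS.2 (by simp [hK, h1, hw, hνf])⟩)
    (fun x hx => by
      obtain ⟨s, hs', rfl⟩ := Finset.mem_image.1 hx
      obtain ⟨h1, h3⟩ := hf₀ hr₂ hs'
      exact Finset.mem_erase.2 ⟨one_div_ne_zero h3, mem_fixS.2 (by simp [h1])⟩) (by
    rw [hA, hA', Finset.card_image_of_injective _ (fun s s' e' => by
        have h1 : (s - s') * (s - s') = 0 := by
          linear_combination mul_right_cancel₀ hK0 e' + (s' * s' - s * s') * h2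
        exact sub_eq_zero.1 (mul_self_eq_zero.1 h1)),
      Finset.card_image_of_injective _ (fun s s' e' => by simpa [one_div] using e')]
    have := card_shift S.conj (a := ν p c + ν p d) (hr0 hr₁2)
    have := card_shift S.conj (a := ν p c₂ + ν p d₂) (hr0 hr₂2)
    rw [← hA₀] at *
    rw [← hA₀'] at *
    omega)
  obtain ⟨s₁, hs₁, rfl⟩ := Finset.mem_image.1 hx
  obtain ⟨s₂, hs₂, hs₁₂⟩ := Finset.mem_image.1 hx'
  obtain ⟨hs₁f, hs₁0⟩ := hf₀ hr₁ hs₁
  obtain ⟨hs₂f, hs₂0⟩ := hf₀ hr₂ hs₂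
  obtain ⟨_, hl₁, e₁⟩ := Finset.mem_image.1 (Finset.mem_erase.1 hs₁).2
  obtain ⟨_, hl₂, e₂⟩ := Finset.mem_image.1 (Finset.mem_erase.1 hs₂).2
  obtain ⟨l₁, hl₁', rfl⟩ := mem_trS.1 hl₁
  obtain ⟨l₂, hl₂', rfl⟩ := mem_trS.1 hl₂
  -- first move
  obtain ⟨p₁, γ₁, hp₁, hk₁, hN₁, -, -⟩ := S.scale hbig h2 hL hp hs (Ne.symm hd.2.2) hr₁ hr₁2 hl₁'
  have hN₁' : γ₁ * σ γ₁ = s₁ := hN₁.trans e₁
  have hγ₁ : γ₁ ≠ 0 := fun h' => hs₁0 (by rw [← hN₁', h', zero_mul])
  have hs1 := hlarge hp hs hγ₁ hk₁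
  have hν₁ : ∀ k, k ≠ c → k ≠ d → ν p₁ k = s₁ * ν p k := fun k h1 h3 => by
    rw [← hN₁']; exact S.sum_split h2 (hk₁ k h1 h3)
  have hcc := hν₁ c₂ hc₂.2.2.1 hc₂.2.2.2
  have hdd := hν₁ d₂ hd₂.2.2.1 hd₂.2.2.2.1
  -- second move
  obtain ⟨p₂, γ₂, hp₂, hk₂, hN₂, -, -⟩ := S.scale hbig h2 hL hp₁ hs1 (Ne.symm hd₂.2.2.2.2) (r := s₁ * r₂)
    (by rw [map_mul, hs₁f, hr₂])
    (by
      change _ = ν p₁ c₂ * ν p₁ d₂
      rw [hcc, hdd]; linear_combination (s₁ * s₁) * hr₂2) hl₂'
  have hN₂' : γ₂ * σ γ₂ = s₁ * s₂ := by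
    change γ₂ * σ γ₂ = ν p₁ c₂ + ν p₁ d₂ + s₁ * r₂ * (l₂ + σ l₂) at hN₂
    rw [hcc, hdd] at hN₂
    linear_combination hN₂ + s₁ * e₂
  have hγ₂ : γ₂ ≠ 0 := fun h' => mul_ne_zero hs₁0 hs₂0 (by rw [← hN₂', h', zero_mul])
  have hs2 := hlarge hp₁ hs1 hγ₂ hk₂
  have hν₂ : ∀ k, k ≠ c → k ≠ d → k ≠ c₂ → k ≠ d₂ → ν p₂ k = s₁ * s₁ * s₂ * ν p k := fun k h1 h3 h4 h5 => by
    rw [show ν p₂ k = γ₂ * σ γ₂ * ν p₁ k from S.sum_split h2 (hk₂ k h4 h5), hν₁ k h1 h3, hN₂']
    ring
  refine hexact hp₂ hs2 a b hab' ?_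
  rw [hν₂ a (Ne.symm hc.1) (Ne.symm hd.1) (Ne.symm hc₂.1) (Ne.symm hd₂.1),
    hν₂ b (Ne.symm hc.2) (Ne.symm hd.2.1) (Ne.symm hc₂.2.1) (Ne.symm hd₂.2.1)]
  have hprod : s₁ * s₁ * s₂ * K = 1 := by
    rw [show s₁ * s₁ * s₂ * K = s₁ * s₁ * K * s₂ by ring, ← hs₁₂, one_div, inv_mul_cancel₀ hs₂0]
  set s := s₁ * s₁ * s₂
  have h5 : 1 + s * ν p a = s * w := by linear_combination -hprod + s * ν p a * h2
  rw [h5]
  linear_combination (s * s) * hw2

end FSetting

end CfsgLib.Classical.UFrameMax
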