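import Cfsg.Agent.Lib.Classical.UFrameMax.Basic
import Cfsg.Agent.Lib.Classical.UFrameMax.Circle

/-!
# Orthonormal frames: supports and monomial isometries
-/

set_option autoImplicit false
set_option linter.unusedSectionVars false

open Module

namespace CfsgLib.Classical.UFrameMax

variable {F : Type*} [Field F] [DecidableEq F] {V : Type*} [AddCommGroup V] [Module F V] {σ : F →+* F}
  {B : V →ₛₗ[σ] V →ₗ[F] F} {n : ℕ}

/-- The support of a vector in a frame. -/
noncomputable def supp (e : Basis (Fin n) F V) (x : V) : Finset (Fin n) :=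
  Finset.univ.filter fun i => e.repr x i ≠ 0

/-- `g` is monomial in the frame. -/
def Mono (e : Basis (Fin n) F V) (g : isomGroup B) : Prop := ∀ i, ∃ j, ∃ l : F, g.1 (e i) = l • e j

/-- An overgroup of the monomial group of a frame, inside the special group. -/
structure FSetting (B : V →ₛₗ[σ] V →ₗ[F] F) (e : Basis (Fin n) F V) (M : Subgroup (isomGroup B)) : Prop where
  herm : IsHermitian B
  sep : B.SeparatingRight
  on : ∀ i j, B (e i) (e j) = if i = j then 1 else 0
  big : 4 ≤ n
  le : M ≤ sIsom B
  mem : ∀ g, idet B g = 1 → Mono e g → g ∈ M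

variable {e : Basis (Fin n) F V}

theorem mem_supp {x : V} {i : Fin n} : i ∈ supp e x ↔ e.repr x i ≠ 0 := by simp [supp]

theorem notMem_supp {x : V} {i : Fin n} : i ∉ supp e x ↔ e.repr x i = 0 := by simp [supp]

theorem repr_smul_basis (a : F) (i j : Fin n) : e.repr (a • e i) j = if j = i then a else 0 := by
  rcases eq_or_ne j i with rfl | h
  · simp
  · simp [h, Ne.symm h]

theorem supp_smul {a : F} (ha : a ≠ 0) (x : V) : supp e (a • x) = supp e x := by
  ext i; simp [mem_supp, ha]

theorem supp_basis (i : Fin n) : supp e (e i) = {i} := by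
  ext j
  rw [mem_supp, ← one_smul F (e i), repr_smul_basis]
  simp

theorem supp_subset_iff {x : V} {S : Finset (Fin n)} : supp e x ⊆ S ↔ ∀ i, i ∉ S → e.repr x i = 0 :=
  ⟨fun h i hi => notMem_supp.1 fun h' => hi (h h'), fun h i hi => by_contra fun h' => mem_supp.1 hi (h i h')⟩

theorem supp_add_subset (x y : V) : supp e (x + y) ⊆ supp e x ∪ supp e y :=
  supp_subset_iff.2 fun i hi => by
    simp only [Finset.mem_union, not_or, notMem_supp] at hi
    simp [hi.1, hi.2]

theorem eq_zero_iff_supp {x : V} : supp e x = ∅ ↔ x = 0 := by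
  refine ⟨fun h => e.repr.injective (Finsupp.ext fun i => ?_), fun h => by ext i; simp [h, mem_supp]⟩
  have : i ∉ supp e x := by simp [h]
  simpa using notMem_supp.1 this

theorem supp_single {x : V} {j : Fin n} (h : supp e x ⊆ {j}) : x = e.repr x j • e j := by
  refine e.repr.injective (Finsupp.ext fun i => ?_)
  rw [repr_smul_basis]
  split_ifs with hij
  · rw [hij]
  · exact (supp_subset_iff.1 h) i (by simpa using hij)

theorem Mono.of_card {g : isomGroup B} (h : ∀ i, (supp e (g.1 (e i))).card ≤ 1) : Mono e g := fun i => by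
  have : Nonempty (Fin n) := ⟨i⟩
  rcases Finset.card_le_one_iff_subset_singleton.1 (h i) with ⟨j, hj⟩
  exact ⟨j, _, supp_single hj⟩

theorem Mono.card_le {g : isomGroup B} (h : Mono e g) (i : Fin n) : (supp e (g.1 (e i))).card ≤ 1 := by
  obtain ⟨j, l, hl⟩ := h i
  refine le_trans (Finset.card_le_card (t := {j}) (supp_subset_iff.2 fun k hk => ?_)) (Finset.card_singleton j).le
  rw [hl, repr_smul_basis, if_neg (by simpa using hk)]

/-- The part of `x` on `S`. -/
noncomputable def part (e : Basis (Fin n) F V) (S : Finset (Fin n)) (x : V) : V := ∑ i ∈ S, e.repr x i • e i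

theorem repr_part (S : Finset (Fin n)) (x : V) (i : Fin n) :
    e.repr (part e S x) i = if i ∈ S then e.repr x i else 0 := by
  rw [part, map_sum, Finset.sum_apply']
  simp_rw [repr_smul_basis]
  simp

theorem supp_part_subset (S : Finset (Fin n)) (x : V) : supp e (part e S x) ⊆ S :=
  supp_subset_iff.2 fun i hi => by rw [repr_part, if_neg hi]

/-- The span of some frame vectors. -/
def cspan (e : Basis (Fin n) F V) (S : Finset (Fin n)) : Submodule F V := Submodule.span F (e '' S)

theorem basis_mem_cspan {S : Finset (Fin n)} {i : Fin n} (hi : i ∈ S) : e i ∈ cspan e S :=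
  Submodule.subset_span ⟨i, hi, rfl⟩

theorem mem_cspan {S : Finset (Fin n)} {x : V} : x ∈ cspan e S ↔ supp e x ⊆ S := by
  refine ⟨fun h => ?_, fun h => ?_⟩
  · rw [supp_subset_iff]
    intro i hi
    refine Submodule.span_induction (p := fun x _ => e.repr x i = 0) ?_ (by simp) ?_ ?_ h
    · rintro _ ⟨j, hj, rfl⟩
      rw [← one_smul F (e j), repr_smul_basis, if_neg fun e' : i = j => hi (by rw [e']; exact hj)]
    · intro a b _ _ ha hb; simp [ha, hb]
    · intro c a _ ha; simp [ha]
  · rw [← e.sum_repr x]
    refine Submodule.sum_mem _ fun i _ => ?_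
    by_cases hi : i ∈ S
    · exact Submodule.smul_mem _ _ (basis_mem_cspan hi)
    · rw [supp_subset_iff.1 h i hi, zero_smul]; exact Submodule.zero_mem _

theorem finrank_cspan (S : Finset (Fin n)) : finrank F (cspan e S) = S.card := by
  have h1 := finrank_span_eq_card (R := F) (e.linearIndependent.comp (fun i : {i // i ∈ S} => (i : Fin n))
    Subtype.val_injective)
  rw [Fintype.card_coe] at h1
  rw [← h1, cspan, show (e '' (S : Set (Fin n))) = Set.range (e ∘ fun i : {i // i ∈ S} => (i : Fin n)) by
    ext x; simp]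

namespace FSetting

variable [Fintype F] [FiniteDimensional F V] {M : Subgroup (isomGroup B)} (S : FSetting B e M)
include S

theorem conj : IsConjugation σ := S.herm.conj

theorem coord (i : Fin n) (x : V) : B (e i) x = e.repr x i := by
  conv_lhs => rw [← e.sum_repr x]
  rw [map_sum, Finset.sum_eq_single i (fun j _ hj => by simp [S.on, Ne.symm hj]) (by simp)]
  simp [S.on]

theorem form (x y : V) : B x y = ∑ i, σ (e.repr x i) * e.repr y i := by
  conv_lhs => rw [← e.sum_repr x]
  simp only [map_sum, LinearMap.sum_apply, map_smulₛₗ, LinearMap.smul_apply, smul_eq_mul, S.coord]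

theorem form_supp {x y : V} {T : Finset (Fin n)} (h : supp e x ∩ supp e y ⊆ T) :
    B x y = ∑ i ∈ T, σ (e.repr x i) * e.repr y i := by
  rw [S.form]
  refine (Finset.sum_subset (Finset.subset_univ T) fun i _ hi => ?_).symm
  by_cases hx : e.repr x i = 0
  · simp [hx]
  · rw [notMem_supp.1 fun hy => hi (h (Finset.mem_inter.2 ⟨mem_supp.2 hx, hy⟩)), mul_zero]

theorem self_supp {x : V} {T : Finset (Fin n)} (h : supp e x ⊆ T) :
    B x x = ∑ i ∈ T, σ (e.repr x i) * e.repr x i :=
  S.form_supp (Finset.inter_subset_left.trans h)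

theorem norm_one {g : isomGroup B} {i j : Fin n} {l : F} (hl : g.1 (e i) = l • e j) : l * σ l = 1 := by
  have h := isomGroup_apply g (e i) (e i)
  rw [hl, S.herm.smul_self, S.on, S.on, if_pos rfl, if_pos rfl, mul_one] at h
  exact h

theorem exists_diag (d : Fin n → F) (hd : ∀ i, d i * σ (d i) = 1) :
    ∃ g : isomGroup B, (∀ i, g.1 (e i) = d i • e i) ∧ idet B g = ∏ i, d i := by
  suffices H : ∀ T : Finset (Fin n), ∃ g : isomGroup B,
      (∀ i, g.1 (e i) = (if i ∈ T then d i else 1) • e i) ∧ idet B g = ∏ i ∈ T, d i by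
    obtain ⟨g, hg, hgd⟩ := H Finset.univ
    exact ⟨g, fun i => by simpa using hg i, hgd⟩
  intro T
  induction T using Finset.induction_on with
  | empty => exact ⟨1, fun i => by simp, by simp⟩
  | @insert j T hj ih =>
    obtain ⟨g, hg, hgd⟩ := ih
    obtain ⟨r, hr, hrd⟩ := S.herm.exists_qr S.sep (z := e j) (by simp [S.on]) (hd j)
    refine ⟨r * g, fun i => ?_, by rw [map_mul, hrd, hgd, Finset.prod_insert hj]⟩
    change r.1 (g.1 (e i)) = _
    rw [hg, map_smul, hr, S.on]
    rcases eq_or_ne i j with rfl | hij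
    · simp [hj, S.on]; module
    · simp [hij, S.on, Ne.symm hij]

omit S in
theorem repr_mono {g : isomGroup B} (π : Equiv.Perm (Fin n)) (d : Fin n → F) (hg : ∀ i, g.1 (e i) = d i • e (π i))
    (x : V) (i : Fin n) : e.repr (g.1 x) (π i) = d i * e.repr x i := by
  conv_lhs => rw [← e.sum_repr x]
  simp only [map_sum, map_smul, hg, smul_smul, Finset.sum_apply']
  rw [Finset.sum_eq_single i (fun j _ hj => by simp [Finsupp.single_eq_of_ne (π.injective.ne hj.symm)]) (by simp)]
  simp [mul_comm]

/-- Monomial elements of determinant one, with one free phase. -/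
theorem exists_mono (π : Equiv.Perm (Fin n)) (d : Fin n → F) (hd : ∀ i, d i * σ (d i) = 1) (j₀ : Fin n) :
    ∃ g ∈ M, ∃ d' : Fin n → F, (∀ i, i ≠ j₀ → d' i = d i) ∧ ∀ i, g.1 (e i) = d' i • e (π i) := by
  classical
  obtain ⟨p, hp⟩ := S.herm.witt_family S.sep (a := fun i => e i) (b := fun i => e (π i)) e.linearIndependent
    (e.linearIndependent.comp _ π.injective) fun i j => by simp [S.on, π.injective.eq_iff]
  let δ := idet B p * ∏ i ∈ Finset.univ.erase j₀, d i
  have hδ : δ * σ δ = 1 := by
    have : (∏ i ∈ Finset.univ.erase j₀, d i) * σ (∏ i ∈ Finset.univ.erase j₀, d i) = 1 := by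
      rw [map_prod, ← Finset.prod_mul_distrib]
      exact Finset.prod_eq_one fun i _ => hd i
    simp only [δ, map_mul]
    linear_combination (idet B p * σ (idet B p)) * this + S.herm.idet_norm S.sep p
  have hδ0 : δ ≠ 0 := norm_ne_zero_of hδ
  let d' := Function.update d j₀ δ⁻¹
  obtain ⟨g, hg, hgd⟩ := S.exists_diag d' fun i => by
    rcases eq_or_ne i j₀ with rfl | hi
    · simp only [d', Function.update_self, map_inv₀, ← mul_inv, hδ, inv_one]
    · simp only [d', Function.update_of_ne hi]; exact hd i
  have hpg : ∀ i, (p * g).1 (e i) = d' i • e (π i) := fun i => by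
    change p.1 (g.1 (e i)) = _
    rw [hg, map_smul, hp]
  refine ⟨p * g, S.mem _ ?_ fun i => ⟨π i, d' i, hpg i⟩, d', fun i hi => Function.update_of_ne hi _ _, hpg⟩
  rw [map_mul, hgd, ← Finset.mul_prod_erase _ _ (Finset.mem_univ j₀),
    Finset.prod_congr rfl fun i hi => Function.update_of_ne (Finset.mem_erase.1 hi).1 δ⁻¹ d]
  simp only [d', Function.update_self]
  have : idet B p ≠ 0 := idet_ne_zero S.herm S.sep p
  calc idet B p * (δ⁻¹ * ∏ i ∈ Finset.univ.erase j₀, d i) = δ * δ⁻¹ := by ring
    _ = 1 := mul_inv_cancel₀ hδ0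

/-- Diagonal elements of determinant one, with one free phase. -/
theorem exists_diag' (d : Fin n → F) (hd : ∀ i, d i * σ (d i) = 1) (j₀ : Fin n) :
    ∃ g ∈ M, ∃ d' : Fin n → F, (∀ i, i ≠ j₀ → d' i = d i) ∧ (∀ i, g.1 (e i) = d' i • e i) ∧
      ∀ x, e.repr x j₀ = 0 → ∀ i, e.repr (g.1 x) i = d i * e.repr x i := by
  obtain ⟨g, hg, d', hd', hge⟩ := S.exists_mono 1 d hd j₀
  refine ⟨g, hg, d', hd', hge, fun x hx i => ?_⟩
  rw [show e.repr (g.1 x) i = d' i * e.repr x i from repr_mono 1 d' hge x i]
  rcases eq_or_ne i j₀ with rfl | hi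
  · rw [hx, mul_zero, mul_zero]
  · rw [hd' i hi]

/-- Transporting an axis by a monomial element. -/
theorem axis_mono {u v : V} (hu : IsTAxis M u) (π : Equiv.Perm (Fin n))
    (h : ∀ i, e.repr v (π i) * σ (e.repr v (π i)) = e.repr u i * σ (e.repr u i))
    {j₀ : Fin n} (hj : e.repr u j₀ = 0) : IsTAxis M v := by
  have hz : ∀ {a : F}, a * σ a = 0 → a = 0 := fun {a} ha => by
    rcases mul_eq_zero.1 ha with h0 | h0
    · exact h0
    · rw [← S.conj.invol a, h0, map_zero]
  let d : Fin n → F := fun i => if e.repr u i = 0 then 1 else e.repr v (π i) / e.repr u i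
  obtain ⟨g, hg, d', hd', hge⟩ := S.exists_mono π d (fun i => by
    simp only [d]
    split_ifs with h0
    · simp
    · rw [map_div₀, div_mul_div_comm, h, div_self fun e' => h0 (hz e')]) j₀
  have e' : g.1 u = v := by
    refine e.repr.injective (Finsupp.ext fun k => ?_)
    obtain ⟨i, rfl⟩ := π.surjective k
    rw [repr_mono π d' hge]
    by_cases h0 : e.repr u i = 0
    · rw [h0, mul_zero]
      exact (hz (by rw [h, h0, zero_mul])).symm
    · rw [hd' i fun e' => h0 (e' ▸ hj)]
      simp [d, h0]
  exact e' ▸ hu.map hg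

theorem nondeg_cspan (T : Finset (Fin n)) : NondegOn B (cspan e T) := nondegOn_iff.2 fun x hx hx' => by
  refine e.repr.injective (Finsupp.ext fun i => ?_)
  by_cases hi : i ∈ T
  · rw [← S.coord, hx' _ (basis_mem_cspan hi)]; simp
  · rw [supp_subset_iff.1 (mem_cspan.1 hx) i hi]; simp

theorem mem_perp_cspan {T : Finset (Fin n)} {x : V} (h : ∀ i ∈ T, e.repr x i = 0) : x ∈ perp B (cspan e T) :=
  mem_perp.2 fun w hw => by
    rw [S.form]
    refine Finset.sum_eq_zero fun i _ => ?_
    by_cases hi : i ∈ T
    · rw [h i hi, mul_zero]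
    · rw [supp_subset_iff.1 (mem_cspan.1 hw) i hi, map_zero, zero_mul]

/-- Orthonormal images supported in a set. -/
theorem card_le_of_supp (g : isomGroup B) {T U : Finset (Fin n)} (h : ∀ i ∈ T, supp e (g.1 (e i)) ⊆ U) :
    T.card ≤ U.card := by
  have hli : LinearIndependent F (fun i : {i // i ∈ T} => g.1 (e i)) :=
    (e.linearIndependent.comp _ Subtype.val_injective).map' (g.1 : V →ₗ[F] V) g.1.ker
  have h1 := finrank_span_eq_card hli
  have h2 : Submodule.span F (Set.range fun i : {i // i ∈ T} => g.1 (e i)) ≤ cspan e U :=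
    Submodule.span_le.2 (by rintro _ ⟨i, rfl⟩; exact mem_cspan.2 (h i i.2))
  have h3 := Submodule.finrank_mono h2
  rw [h1, Fintype.card_coe, finrank_cspan] at h3
  exact h3

/-- The two supports of orthogonal vectors whose combinations are small. -/
theorem pair_supp {u v : V} (huv : B u v = 0) (hu : (supp e u).Nonempty) (hv : (supp e v).Nonempty)
    (h : ∀ l : F, l * σ l = 1 → (supp e (u + l • v)).card ≤ 2) :
    ((supp e u).card = 1 ∧ (supp e v).card = 1) ∨ (supp e u = supp e v ∧ (supp e u).card ≤ 3) := by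
  classical
  set C := supp e u ∩ supp e v with hC
  set W := supp e u ∪ supp e v with hW
  have hterm : ∀ i ∈ C, σ (e.repr u i) * e.repr v i ≠ 0 := fun i hi => mul_ne_zero
    (fun e' => mem_supp.1 (Finset.mem_inter.1 hi).1 (by rw [← S.conj.invol (e.repr u i), e', map_zero]))
    (mem_supp.1 (Finset.mem_inter.1 hi).2)
  have hC1 : C.card ≠ 1 := fun h1 => by
    obtain ⟨i, hi⟩ := Finset.card_eq_one.1 h1
    rw [S.form_supp (T := C) subset_rfl, hi, Finset.sum_singleton] at huv
    exact hterm i (by rw [hi]; exact Finset.mem_singleton_self i) huv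
  have h3 := three_le_circ S.conj
  obtain ⟨L, hLc, hL⟩ := Finset.exists_subset_card_eq h3
  have hsum : ∑ l ∈ L, (W.card - 2) ≤ ∑ l ∈ L, (C.filter fun i => e.repr u i + l * e.repr v i = 0).card := by
    refine Finset.sum_le_sum fun l hl => ?_
    have h2 := h l (mem_circ.1 (hLc hl))
    have hsub : W ⊆ supp e (u + l • v) ∪ C.filter fun i => e.repr u i + l * e.repr v i = 0 := by
      intro i hi
      by_cases h0 : e.repr u i + l * e.repr v i = 0
      · refine Finset.mem_union_right _ (Finset.mem_filter.2 ⟨Finset.mem_inter.2 ⟨?_, ?_⟩, h0⟩)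
        · refine mem_supp.2 fun hu0 => ?_
          rcases Finset.mem_union.1 hi with h' | h'
          · exact mem_supp.1 h' hu0
          · rw [hu0, zero_add] at h0
            exact mem_supp.1 h' ((mul_eq_zero.1 h0).resolve_left (norm_ne_zero_of (mem_circ.1 (hLc hl))))
        · refine mem_supp.2 fun hv0 => ?_
          rw [hv0, mul_zero, add_zero] at h0
          rcases Finset.mem_union.1 hi with h' | h'
          · exact mem_supp.1 h' h0
          · exact mem_supp.1 h' hv0
      · exact Finset.mem_union_left _ (mem_supp.2 (by simpa using h0))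
    have := (Finset.card_le_card hsub).trans (Finset.card_union_le _ _)
    omega
  have hdisj : (L : Set F).PairwiseDisjoint fun l => C.filter fun i => e.repr u i + l * e.repr v i = 0 := by
    intro l _ l' _ hll'
    refine Finset.disjoint_left.2 fun i hi hi' => hll' ?_
    simp only [Finset.mem_filter] at hi hi'
    exact mul_right_cancel₀ (mem_supp.1 (Finset.mem_inter.1 hi.1).2) (add_left_cancel (hi.2.trans hi'.2.symm))
  rw [← Finset.card_biUnion hdisj, Finset.sum_const, hL, smul_eq_mul] at hsum
  have hle : (L.biUnion fun l => C.filter fun i => e.repr u i + l * e.repr v i = 0).card ≤ C.card :=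
    Finset.card_le_card fun i hi => by
      obtain ⟨l, -, hl⟩ := Finset.mem_biUnion.1 hi
      exact Finset.mem_of_mem_filter i hl
  have hcard := Finset.card_union_add_card_inter (supp e u) (supp e v)
  rw [← hC, ← hW] at hcard
  have hu1 := Finset.card_pos.2 hu
  have hv1 := Finset.card_pos.2 hv
  have hCu : C.card ≤ (supp e u).card := Finset.card_le_card Finset.inter_subset_left
  have hCv : C.card ≤ (supp e v).card := Finset.card_le_card Finset.inter_subset_right
  rcases Nat.lt_or_ge C.card 2 with hlt | hge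
  · exact Or.inl ⟨by omega, by omega⟩
  · refine Or.inr ⟨?_, by omega⟩
    rw [← Finset.eq_of_subset_of_card_le (s := C) Finset.inter_subset_left (by omega)]
    exact Finset.eq_of_subset_of_card_le (s := C) Finset.inter_subset_right (by omega)

/-- A non-monomial isometry spreads some vector `e a + l e b`. -/
theorem exists_spread {g : isomGroup B} (hg : ¬ Mono e g) :
    ∃ a b l, a ≠ b ∧ l * σ l = 1 ∧ 3 ≤ (supp e (g.1 (e a + l • e b))).card := by
  by_contra! hall
  refine hg (Mono.of_card fun a => ?_)
  by_contra! ha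
  have hpair : ∀ b, supp e (g.1 (e b)) ⊆ supp e (g.1 (e a)) ∧ (supp e (g.1 (e a))).card ≤ 3 ∨ b = a := fun b => by
    refine or_iff_not_imp_right.2 fun hba => ?_
    have hne : ∀ c, (supp e (g.1 (e c))).Nonempty := fun c => Finset.nonempty_iff_ne_empty.2 fun e' =>
      e.ne_zero c (g.1.map_eq_zero_iff.1 (eq_zero_iff_supp.1 e'))
    rcases S.pair_supp (u := g.1 (e a)) (v := g.1 (e b)) (by rw [isomGroup_apply, S.on, if_neg (Ne.symm hba)])
      (hne a) (hne b) (fun l hl => by
        rw [← map_smul, ← map_add]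
        exact Nat.le_of_lt_succ (hall a b l (Ne.symm hba) hl)) with ⟨h1, -⟩ | ⟨h1, h2⟩
    · omega
    · exact ⟨h1.ge, h2⟩
  have h3 : (supp e (g.1 (e a))).card ≤ 3 := by
    obtain ⟨b, hb⟩ : ∃ b, b ≠ a := Fintype.exists_ne_of_one_lt_card (by simp; have := S.big; omega) a
    exact ((hpair b).resolve_right hb).2
  have := S.card_le_of_supp g (T := Finset.univ) (U := supp e (g.1 (e a))) fun b _ => by
    rcases hpair b with h1 | rfl
    · exact h1.1
    · exact subset_rfl
  simp at this
  have := S.big
  omega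

/-- All axes from those of small support. -/
theorem axes_of_small {m : ℕ} (hm : m = 3 ∧ BigFixed σ ∨ m = 4)
    (hbase : ∀ v, B v v = 0 → (supp e v).card ≤ m → IsTAxis M v) {v : V} (hv : B v v = 0) : IsTAxis M v := by
  classical
  induction hc : (supp e v).card using Nat.strong_induction_on generalizing v with
  | _ k ih =>
  by_cases hk : k ≤ m
  · exact hbase v hv (hc.le.trans hk)
  obtain ⟨U, hU, hUc⟩ := Finset.exists_subset_card_eq (show m - 1 ≤ (supp e v).card by omega)
  obtain ⟨j, hj, hjU⟩ := Finset.exists_mem_notMem_of_card_lt_card (s := U) (t := supp e v) (by omega)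
  set u := part e U v with hu
  set w := part e {j} v with hw
  set o := v - u - w with ho
  have hor : ∀ i, e.repr o i = if i ∈ U ∨ i = j then 0 else e.repr v i := fun i => by
    simp only [ho, hu, hw, map_sub, Finsupp.sub_apply, repr_part, Finset.mem_singleton]
    by_cases h1 : i ∈ U
    · have : i ≠ j := fun e' => hjU (e' ▸ h1)
      simp [h1, this]
    · by_cases h2 : i = j
      · simp [h1, h2, hjU]
      · simp [h1, h2]
  have hu0 : u ≠ 0 := fun e0 => by
    obtain ⟨i, hi⟩ := Finset.card_pos.1 (show 0 < U.card by omega)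
    have h1 := repr_part (e := e) U v i
    rw [← hu, e0, if_pos hi, map_zero] at h1
    exact mem_supp.1 (hU hi) h1.symm
  have he : v = u + w + o := by rw [ho]; abel
  have hwo : B w o = 0 := by
    rw [S.form]
    refine Finset.sum_eq_zero fun i _ => ?_
    rw [hor, hw, repr_part]
    by_cases h2 : i = j <;> simp [h2]
  rw [he] at hv ⊢
  refine axis_reduce S.herm S.sep (S.nondeg_cspan U) (by rw [finrank_cspan]; omega)
    (by rw [finrank_cspan]; rcases hm with ⟨-, hb⟩ | hb
        · exact Or.inr hb
        · exact Or.inl (by omega))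
    (mem_cspan.2 (supp_part_subset U v)) hu0
    (S.mem_perp_cspan fun i hi => by rw [hw, repr_part, if_neg (by simp; exact fun e' => hjU (e' ▸ hi))])
    (S.mem_perp_cspan fun i hi => by rw [hor, if_pos (Or.inl hi)]) hwo hv
    (fun a ha ea => hbase _ ea ?_) fun a ha ea => ih _ ?_ ea rfl
  · refine le_trans (Finset.card_le_card ((supp_add_subset a w).trans
      (Finset.union_subset_union (mem_cspan.1 ha) (supp_part_subset {j} v)))) ?_
    refine le_trans (Finset.card_union_le _ _) ?_
    rw [Finset.card_singleton]; omega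
  · rw [← hc]
    refine Finset.card_lt_card ((Finset.ssubset_iff_of_subset fun i hi => ?_).2 ⟨j, hj, fun hi => ?_⟩)
    · rcases Finset.mem_union.1 (supp_add_subset a o hi) with h1 | h1
      · exact hU (mem_cspan.1 ha h1)
      · rw [mem_supp, hor] at h1
        split_ifs at h1 with h2
        · exact absurd rfl h1
        · exact mem_supp.2 h1
    · rw [mem_supp, map_add, Finsupp.add_apply, hor, if_pos (Or.inr rfl), add_zero] at hi
      exact hi (supp_subset_iff.1 (mem_cspan.1 ha) j hjU)

end FSetting

end CfsgLib.Classical.UFrameMax
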