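import Cfsg.Agent.Lib.Classical.UFrameMax.Root

/-!
# From an element fixing a frame line to all axes
-/

set_option autoImplicit false
set_option linter.unusedSectionVars false

open Module

namespace CfsgLib.Classical.UFrameMax

variable {F : Type*} [Field F] [DecidableEq F] [Fintype F] {V : Type*} [AddCommGroup V] [Module F V]
  [FiniteDimensional F V] {σ : F →+* F} {B : V →ₛₗ[σ] V →ₗ[F] F} {n : ℕ} {e : Basis (Fin n) F V}
  {M : Subgroup (isomGroup B)}

namespace FSetting

variable (S : FSetting B e M)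
include S

theorem exists_fresh (T : Finset (Fin n)) (hT : T.card < n) : ∃ c, c ∉ T := by
  obtain ⟨c, -, hc⟩ := Finset.exists_mem_notMem_of_card_lt_card (s := T) (t := Finset.univ) (by simpa using hT)
  exact ⟨c, hc⟩

theorem norm_sigma {a : F} (ha : a * σ a = 1) : σ a * σ (σ a) = 1 := by rw [S.conj.invol, mul_comm]; exact ha

theorem sigma_eq_zero {a : F} (ha : σ a = 0) : a = 0 := by rw [← S.conj.invol a, ha, map_zero]

/-- A unit vector with small support is replaced by one with support three. -/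
theorem rel_three {i : Fin n} {x : V} (hx : B x x = 1) (hxi : e.repr x i = 0) (hR : Rel M (e i) x)
    (hs : (supp e x).card = 2) (hbig : BigFixed σ) :
    ∃ y, B y y = 1 ∧ e.repr y i = 0 ∧ Rel M (e i) y ∧ 3 ≤ (supp e y).card := by
  classical
  obtain ⟨a, b, hab, hsx⟩ := Finset.card_eq_two.1 hs
  have hia : a ≠ i := fun h => mem_supp.1 (show a ∈ supp e x by simp [hsx]) (h ▸ hxi)
  have hib : b ≠ i := fun h => mem_supp.1 (show b ∈ supp e x by simp [hsx]) (h ▸ hxi)
  obtain ⟨c, hc⟩ := S.exists_fresh {i, a, b} (lt_of_le_of_lt Finset.card_le_three (by have := S.big; omega))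
  simp only [Finset.mem_insert, Finset.mem_singleton, not_or] at hc
  obtain ⟨m, hm, d', hd', hme⟩ := S.exists_mono (Equiv.swap b c) (fun _ => 1) (fun _ => by simp) i
  have hz : ∀ k, k ≠ a → k ≠ b → e.repr x k = 0 := fun k h1 h2 => notMem_supp.1 (by simp [hsx, h1, h2])
  have hmx : ∀ k, e.repr (m.1 x) (Equiv.swap b c k) = e.repr x k := fun k => by
    rw [repr_mono _ d' hme]
    rcases eq_or_ne k i with rfl | hk
    · rw [hxi, mul_zero]
    · rw [hd' k hk, one_mul]
  have hmi : m.1 (e i) = d' i • e i := by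
    rw [hme, Equiv.swap_apply_of_ne_of_ne hib.symm (Ne.symm hc.1)]
  have hR' : Rel M (e i) (m.1 x) := by
    have h1 := hR.map hm
    rw [hmi] at h1
    have h2 := h1.smul_left (S.norm_sigma (S.norm_one hmi))
    rwa [smul_smul, mul_comm, S.norm_one hmi, one_smul] at h2
  set x' := m.1 x with hx'
  have hxa : e.repr x' a = e.repr x a := by
    have := hmx a
    rwa [Equiv.swap_apply_of_ne_of_ne hab (Ne.symm hc.2.1)] at this
  have hxb : e.repr x' b = 0 := by
    have := hmx c
    rwa [Equiv.swap_apply_right, hz c hc.2.1 hc.2.2] at this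
  have hxc : e.repr x' c = e.repr x b := by
    have := hmx b
    rwa [Equiv.swap_apply_left] at this
  have hxi' : e.repr x' i = 0 := by
    have := hmx i
    rwa [Equiv.swap_apply_of_ne_of_ne hib.symm (Ne.symm hc.1), hxi] at this
  have hxa0 : e.repr x a ≠ 0 := mem_supp.1 (by simp [hsx])
  have hxb0 : e.repr x b ≠ 0 := mem_supp.1 (by simp [hsx])
  set na := σ (e.repr x a) * e.repr x a with hna
  have hBxx' : B x x' = na := by
    rw [S.form_supp (T := {a}) (fun k hk => ?_), Finset.sum_singleton, hxa]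
    obtain ⟨h1, h2⟩ := Finset.mem_inter.1 hk
    rw [hsx, Finset.mem_insert, Finset.mem_singleton] at h1
    rcases h1 with rfl | rfl
    · simp
    · exact absurd hxb (mem_supp.1 h2)
  obtain ⟨l, hl, hl1, hl2⟩ := exists_circ_ne S.conj 1 (1 - 1 / na)
  have hna0 : na ≠ 0 := mul_ne_zero (fun h => hxa0 (S.sigma_eq_zero h)) hxa0
  obtain ⟨q, hq, -⟩ := exists_qr1 S.herm S.sep hx hl
  obtain ⟨q', hq', -⟩ := exists_qr1 S.herm S.sep (x := e i) (by simp [S.on]) hl
  have hg : q * q'⁻¹ ∈ M := hR.symm l hl q q' hq hq'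
  have hBxi : B x (e i) = 0 := S.herm.isRefl _ _ (by rw [S.coord, hxi])
  have hgi : (q * q'⁻¹).1 (e i) = σ l • e i := by
    change q.1 (q'.1.symm (e i)) = _
    have hinv : q'.1.symm (e i) = σ l • e i := by
      rw [LinearEquiv.symm_apply_eq, map_smul, hq', S.on, if_pos rfl, smul_add, smul_smul]
      match_scalars
      linear_combination -hl
    rw [hinv, map_smul, hq, hBxi, mul_zero, zero_smul, add_zero]
  have hgx : (q * q'⁻¹).1 x' = x' + ((l - 1) * na) • x := by
    change q.1 (q'.1.symm x') = _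
    rw [show q'.1.symm x' = x' by rw [LinearEquiv.symm_apply_eq, hq', S.coord, hxi', mul_zero, zero_smul, add_zero],
      hq, hBxx']
  refine ⟨(q * q'⁻¹).1 x', (isomGroup_apply _ _ _).trans ((isomGroup_apply m x x).trans hx), by
    rw [hgx]; simp [hxi, hxi'], ?_, ?_⟩
  · have := (hR'.map hg).smul_left hl
    rwa [hgi, smul_smul, hl, one_smul] at this
  · refine le_trans (Finset.card_eq_three.2 ⟨a, b, c, hab, Ne.symm hc.2.1, Ne.symm hc.2.2, rfl⟩).ge
      (Finset.card_le_card fun k hk => ?_)
    simp only [Finset.mem_insert, Finset.mem_singleton] at hk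
    rw [mem_supp, hgx, map_add, map_smul, Finsupp.add_apply, Finsupp.smul_apply, smul_eq_mul]
    rcases hk with rfl | rfl | rfl
    · rw [hxa]
      refine fun h0 => hl2 ?_
      have h1 : e.repr x k * (1 + (l - 1) * na) = 0 := by linear_combination h0
      have h2 := (mul_eq_zero.1 h1).resolve_left hxa0
      field_simp
      linear_combination h2
    · rw [hxb, zero_add]
      exact mul_ne_zero (mul_ne_zero (sub_ne_zero.2 hl1) hna0) hxb0
    · rw [hxc, hz k hc.2.1 hc.2.2, mul_zero, add_zero]
      exact hxb0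

/-- An axis from a unit vector of support at least three related to a frame vector. -/
theorem axis_of_three {i : Fin n} {x : V} (hx : B x x = 1) (hxi : e.repr x i = 0) (hR : Rel M (e i) x)
    (hs : 3 ≤ (supp e x).card) : ∃ p, B p p = 0 ∧ IsTAxis M p ∧ p ≠ 0 ∧ ∃ j, e.repr p j = 0 := by
  classical
  set ν : Fin n → F := fun k => σ (e.repr x k) * e.repr x k with hν
  have hνf : ∀ k, σ (ν k) = ν k := fun k => by simp only [hν, map_mul, S.conj.invol, mul_comm]
  have hν0 : ∀ k ∈ supp e x, ν k ≠ 0 := fun k hk =>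
    mul_ne_zero (fun h => mem_supp.1 hk (S.sigma_eq_zero h)) (mem_supp.1 hk)
  obtain ⟨A, A', hA, hA', hdisj, h1, h2, hR0⟩ : ∃ A A' : Finset (Fin n), A ⊆ supp e x ∧ A' ⊆ supp e x ∧
      Disjoint A A' ∧ ∑ k ∈ A, ν k ≠ 0 ∧ ∑ k ∈ A', ν k ≠ 0 ∧ 1 - ∑ k ∈ A, ν k - ∑ k ∈ A', ν k ≠ 0 := by
    by_cases hp : ∃ a ∈ supp e x, ∃ b ∈ supp e x, a ≠ b ∧ ν a + ν b ≠ 1
    · obtain ⟨a, ha, b, hb, hab, hne⟩ := hp
      refine ⟨{a}, {b}, by simpa using ha, by simpa using hb, by simpa using hab, by simpa using hν0 a ha,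
        by simpa using hν0 b hb, ?_⟩
      simp only [Finset.sum_singleton]
      exact fun h0 => hne (by linear_combination -h0)
    · push Not at hp
      obtain ⟨T, hT, hT3⟩ := Finset.exists_subset_card_eq hs
      obtain ⟨a, b, c, hab, hac, hbc, rfl⟩ := Finset.card_eq_three.1 hT3
      have ha := hT (show a ∈ ({a, b, c} : Finset _) by simp)
      have hb := hT (show b ∈ ({a, b, c} : Finset _) by simp)
      have hc := hT (show c ∈ ({a, b, c} : Finset _) by simp)
      refine ⟨{a, b}, {c}, by simp [Finset.insert_subset_iff, ha, hb], by simpa using hc,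
        by simp [Ne.symm hac, Ne.symm hbc], ?_, by simpa using hν0 c hc, ?_⟩
      · rw [Finset.sum_pair hab, hp a ha b hb hab]; exact one_ne_zero
      · rw [Finset.sum_pair hab, Finset.sum_singleton, hp a ha b hb hab, sub_self, zero_sub, neg_ne_zero]
        exact hν0 c hc
  obtain ⟨la, mu, ζ, hla, hmu, hζ, hz, hne⟩ := exists_phases S.conj
    (c₁ := ∑ k ∈ A, ν k) (c₂ := ∑ k ∈ A', ν k) (R := 1 - ∑ k ∈ A, ν k - ∑ k ∈ A', ν k)
    (by rw [map_sum]; exact Finset.sum_congr rfl fun k _ => hνf k)
    (by rw [map_sum]; exact Finset.sum_congr rfl fun k _ => hνf k) h1 h2 hR0 (by ring)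
  let d : Fin n → F := fun k => if k ∈ A then la else if k ∈ A' then mu else 1
  obtain ⟨g, hg, d', hd', hge, hgx⟩ := S.exists_diag' d (fun k => by
    simp only [d]; split_ifs <;> first | assumption | simp) i
  have hgxk := hgx x hxi
  have hRd : Rel M x (g.1 x) := by
    have h1 := (hR.map hg)
    rw [hge] at h1
    have hd1 : d' i * σ (d' i) = 1 := S.norm_one (hge i)
    have h2 := h1.smul_left (S.norm_sigma hd1)
    rw [smul_smul, mul_comm, hd1, one_smul] at h2
    exact Rel.trans S.herm S.sep (by simp [S.on]) hR.symm h2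
  have hB : B x (g.1 x) = ζ := by
    have hsum := (S.form x x).symm.trans hx
    rw [S.form]
    have : ∀ k, σ (e.repr x k) * e.repr (g.1 x) k = ν k + (if k ∈ A then (la - 1) * ν k else 0) +
        (if k ∈ A' then (mu - 1) * ν k else 0) := fun k => by
      rw [hgxk]
      simp only [d, hν]
      split_ifs with ha ha'
      · exact absurd ha' (Finset.disjoint_left.1 hdisj ha)
      all_goals ring
    rw [Finset.sum_congr rfl fun k _ => this k, Finset.sum_add_distrib, Finset.sum_add_distrib,
      Finset.sum_ite_mem, Finset.sum_ite_mem, Finset.univ_inter, Finset.univ_inter, ← Finset.mul_sum,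
      ← Finset.mul_sum, hν, hsum]
    linear_combination hz
  set v := σ ζ • g.1 x with hv
  set p := v - x with hp
  have hvv : B v v = 1 := by
    rw [hv, S.herm.smul_self, isomGroup_apply, hx, S.conj.invol, mul_one, mul_comm]; exact hζ
  have hxv : B x v = 1 := by rw [hv, map_smul, hB, smul_eq_mul, mul_comm]; exact hζ
  have hvx : B v x = 1 := by rw [← S.herm.symm, hxv, map_one]
  have hpp : B p p = 0 := by simp [hp, hvv, hxv, hvx, hx]
  have hxp : B x p = 0 := by simp [hp, hxv, hx]
  refine ⟨p, hpp, axis_of_rel S.herm S.sep hx hpp hxp ?_, fun h0 => hne ?_, i, ?_⟩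
  · rw [hp, add_sub_cancel]
    exact hRd.smul_right (S.norm_sigma hζ)
  · have hcoord : ∀ k, σ ζ * d k * e.repr x k = e.repr x k := fun k => by
      have := congrArg (fun w => e.repr w k) h0
      simp only [hp, hv, map_sub, map_smul, map_zero, Finsupp.sub_apply, Finsupp.smul_apply, Finsupp.zero_apply,
        smul_eq_mul, hgxk] at this
      linear_combination this
    obtain ⟨k, hk, hkA, hkA'⟩ : ∃ k ∈ supp e x, k ∉ A ∧ k ∉ A' := by
      by_contra! hall
      apply hR0
      have hsum := (S.self_supp (T := A ∪ A') fun k hk => Finset.mem_union.2 (or_iff_not_imp_left.2 (hall k hk))).symm.trans hx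
      rw [Finset.sum_union hdisj] at hsum
      rw [hν]
      linear_combination -hsum
    have hζ1 : σ ζ = 1 := by
      have := hcoord k
      simp only [d, if_neg hkA, if_neg hkA', mul_one] at this
      exact mul_right_cancel₀ (mem_supp.1 hk) (this.trans (one_mul _).symm)
    obtain ⟨a, ha, -⟩ := Finset.exists_ne_zero_of_sum_ne_zero h1
    obtain ⟨b, hb, -⟩ := Finset.exists_ne_zero_of_sum_ne_zero h2
    have h3 := hcoord a
    have h4 := hcoord b
    simp only [d, if_pos ha, if_pos hb, if_neg (Finset.disjoint_right.1 hdisj hb), hζ1, one_mul] at h3 h4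
    exact ⟨mul_right_cancel₀ (mem_supp.1 (hA ha)) (h3.trans (one_mul _).symm),
      mul_right_cancel₀ (mem_supp.1 (hA' hb)) (h4.trans (one_mul _).symm)⟩
  · simp [hp, hv, hgxk, hxi]

/-- An element fixing a frame line gives an axis. -/
theorem axis_of_fix (hbig : BigFixed σ) {h₀ : isomGroup B} (hM : h₀ ∈ M) {i : Fin n} {l : F}
    (hi : h₀.1 (e i) = l • e i) (hh : ¬ Mono e h₀) :
    ∃ p, B p p = 0 ∧ IsTAxis M p ∧ p ≠ 0 ∧ ∃ j, e.repr p j = 0 := by
  obtain ⟨a, ha⟩ : ∃ a, 2 ≤ (supp e (h₀.1 (e a))).card := by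
    by_contra! hall
    exact hh (Mono.of_card fun a => Nat.le_of_lt_succ (hall a))
  have hai : a ≠ i := fun h => by
    rw [h, hi, supp_smul (norm_ne_zero_of (S.norm_one hi)), supp_basis, Finset.card_singleton] at ha
    omega
  set x := h₀.1 (e a) with hxdef
  have hxi : e.repr x i = 0 := by
    have h1 := isomGroup_apply h₀ (e i) (e a)
    rw [hi, S.on, if_neg (Ne.symm hai), map_smulₛₗ, LinearMap.smul_apply, smul_eq_mul, S.coord] at h1
    exact (mul_eq_zero.1 h1).resolve_left fun h0 => norm_ne_zero_of (S.norm_one hi) (S.sigma_eq_zero h0)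
  have hx : B x x = 1 := by rw [hxdef, isomGroup_apply]; simp [S.on]
  have hcoordRel : Rel M (e i) (e a) := fun m hm g g' hg hg' => by
    refine S.mem _ ?_ fun k => ⟨k, ?_⟩
    · obtain ⟨q, hq, hqd⟩ := exists_qr1 S.herm S.sep (x := e i) (by simp [S.on]) hm
      obtain ⟨q', hq', hqd'⟩ := exists_qr1 S.herm S.sep (x := e a) (by simp [S.on]) hm
      rw [hg.eq hq, hg'.eq hq', map_mul, map_inv, hqd, hqd', mul_inv_cancel₀
        (norm_ne_zero_of hm)]
    · have hfix : ∀ {q : isomGroup B} {j : Fin n}, IsQr q (e j) m → ∀ k, ∃ c : F, q.1 (e k) = c • e k :=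
        fun {q j} hq k => by
          rcases eq_or_ne j k with rfl | hjk
          · exact ⟨1 + (m - 1), by rw [hq, S.on, if_pos rfl]; module⟩
          · exact ⟨1, by rw [hq, S.on, if_neg hjk]; simp⟩
      obtain ⟨c, hc⟩ := hfix hg' k
      obtain ⟨c', hc'⟩ := hfix hg k
      have hc0 : c ≠ 0 := norm_ne_zero_of (S.norm_one hc)
      refine ⟨c⁻¹ * c', ?_⟩
      change g.1 (g'.1.symm (e k)) = _
      rw [show g'.1.symm (e k) = c⁻¹ • e k by
        rw [LinearEquiv.symm_apply_eq, map_smul, hc, smul_smul, inv_mul_cancel₀ hc0, one_smul], map_smul, hc', smul_smul]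
  have hR : Rel M (e i) x := by
    have h1 := hcoordRel.map hM
    rw [hi] at h1
    have h2 := h1.smul_left (S.norm_sigma (S.norm_one hi))
    rwa [smul_smul, mul_comm, S.norm_one hi, one_smul] at h2
  rcases Nat.lt_or_ge (supp e x).card 3 with h3 | h3
  · obtain ⟨y, hy, hyi, hyR, hy3⟩ := S.rel_three hx hxi hR (by omega) hbig
    exact S.axis_of_three hy hyi hyR hy3
  · exact S.axis_of_three hx hxi hR h3

/-- Axes of support two. -/
theorem axes_two {p : V} (hpp : B p p = 0) (hp : IsTAxis M p) (hp0 : p ≠ 0) {j₀ : Fin n} (hj : e.repr p j₀ = 0)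
    {v : V} (hv : B v v = 0) (hs : (supp e v).card ≤ 2) : IsTAxis M v := by
  classical
  have hone : ∀ {u : V}, B u u = 0 → (supp e u).card ≠ 1 := fun {u} hu h1 => by
    obtain ⟨i, hi⟩ := Finset.card_eq_one.1 h1
    rw [S.self_supp (T := {i}) hi.subset, Finset.sum_singleton] at hu
    have : e.repr u i ≠ 0 := mem_supp.1 (by simp [hi])
    exact mul_ne_zero (fun h => this (S.sigma_eq_zero h)) this hu
  by_cases hv0 : v = 0
  · rw [hv0]; exact S.herm.isTAxis_zero M
  have hv2 : (supp e v).card = 2 := by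
    have := hone hv
    have : (supp e v).card ≠ 0 := fun h => hv0 (eq_zero_iff_supp.1 (Finset.card_eq_zero.1 h))
    omega
  obtain ⟨a, ha, b, hb, hab⟩ := Finset.one_lt_card.1 (show 1 < (supp e p).card by
    have := hone hpp
    have : (supp e p).card ≠ 0 := fun h => hp0 (eq_zero_iff_supp.1 (Finset.card_eq_zero.1 h))
    omega)
  set ν : Fin n → F := fun k => σ (e.repr p k) * e.repr p k with hν
  have hνf : ∀ k, σ (ν k) = ν k := fun k => by simp only [hν, map_mul, S.conj.invol, mul_comm]
  have hν0 : ∀ {k}, k ∈ supp e p → ν k ≠ 0 := fun {k} hk =>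
    mul_ne_zero (fun h => mem_supp.1 hk (S.sigma_eq_zero h)) (mem_supp.1 hk)
  obtain ⟨la, lb, hla, hlb, hla1, hlb1, hbal, hne⟩ :=
    exists_two_phases S.conj (hνf a) (hνf b) (hν0 ha) (hν0 hb)
  let d : Fin n → F := fun k => if k = a then la else if k = b then lb else 1
  obtain ⟨g, hg, d', -, -, hgp'⟩ := S.exists_diag' d (fun k => by
    simp only [d]; split_ifs <;> first | assumption | simp) j₀
  have hgp := hgp' p hj
  set z := p - g.1 p with hz
  have hzr : ∀ k, e.repr z k = (if k = a then (1 - la) * e.repr p a else 0) +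
      (if k = b then (1 - lb) * e.repr p b else 0) := fun k => by
    simp only [hz, map_sub, Finsupp.sub_apply, hgp, d]
    rcases eq_or_ne k a with rfl | hka
    · simp [hab]; ring
    rcases eq_or_ne k b with rfl | hkb
    · simp [hka]; ring
    simp [hka, hkb]
  have hzsupp : supp e z ⊆ {a, b} := supp_subset_iff.2 fun k hk => by
    simp only [Finset.mem_insert, Finset.mem_singleton, not_or] at hk
    rw [hzr, if_neg hk.1, if_neg hk.2, add_zero]
  have hza : e.repr z a = (1 - la) * e.repr p a := by rw [hzr, if_pos rfl, if_neg hab, add_zero]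
  have hzb : e.repr z b = (1 - lb) * e.repr p b := by rw [hzr, if_pos rfl, if_neg (Ne.symm hab), zero_add]
  have hzz : B z z = 0 := by
    rw [S.self_supp hzsupp, Finset.sum_pair hab, hza, hzb]
    simp only [map_mul, map_sub, map_one, hν] at hbal ⊢
    linear_combination hbal + (σ (e.repr p a) * e.repr p a) * hla + (σ (e.repr p b) * e.repr p b) * hlb
  have hgp1 : B (g.1 p) p = (σ la - 1) * ν a + (σ lb - 1) * ν b := by
    have h1 : B (g.1 p) p - B p p = -B z p := by rw [hz]; simp
    have h2 : B z p = -((σ la - 1) * ν a + (σ lb - 1) * ν b) := by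
      rw [S.form_supp (T := {a, b}) (Finset.inter_subset_left.trans hzsupp), Finset.sum_pair hab, hza, hzb]
      simp only [map_mul, map_sub, map_one, hν]
      ring
    rw [hpp, h2, sub_zero, neg_neg] at h1
    exact h1
  have hB : B (-g.1 p) z = -B (g.1 p) p := by simp [hz, hpp]
  have hzax : IsTAxis M z := axis_split S.herm S.sep (a := -g.1 p) (by simp [hpp])
    (isTAxis_neg S.herm (hp.map hg)) (by rw [hz, sub_neg_eq_add, sub_add_cancel]; exact hp)
    (by rw [hB, hgp1, neg_ne_zero]; exact hne) (by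
      rw [hB, hgp1]
      simp only [map_neg, map_add, map_mul, map_sub, map_one, S.conj.invol, hνf]
      linear_combination hbal)
  obtain ⟨i, j, hij, hsv⟩ := Finset.card_eq_two.1 hv2
  have hza0 : e.repr z a ≠ 0 := by
    rw [hza]; exact mul_ne_zero (sub_ne_zero.2 (Ne.symm hla1)) (mem_supp.1 ha)
  set A := e.repr z a * σ (e.repr z a) with hA
  have hA0 : A ≠ 0 := mul_ne_zero hza0 fun h => hza0 (S.sigma_eq_zero h)
  obtain ⟨s, hs'⟩ := S.conj.exists_norm_eq (a := e.repr v i * σ (e.repr v i) / A)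
    (by simp only [hA, map_div₀, map_mul, S.conj.invol]; rw [mul_comm (σ _), mul_comm (σ _)])
  have hs0 : s ≠ 0 := fun h0 => by
    have hi : e.repr v i ≠ 0 := mem_supp.1 (by simp [hsv])
    rw [h0, zero_mul] at hs'
    exact div_ne_zero (mul_ne_zero hi fun h => hi (S.sigma_eq_zero h)) hA0 hs'.symm
  obtain ⟨c, hc⟩ := S.exists_fresh {a, b} (lt_of_le_of_lt Finset.card_le_two (by have := S.big; omega))
  simp only [Finset.mem_insert, Finset.mem_singleton, not_or] at hc
  let t := Equiv.swap a i
  have htb : t b ≠ i := fun h' => hab (t.injective ((Equiv.swap_apply_left a i).trans h'.symm))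
  let π : Equiv.Perm (Fin n) := t.trans (Equiv.swap (t b) j)
  have hπa : π a = i := by
    change Equiv.swap (t b) j (t a) = i
    rw [show t a = i from Equiv.swap_apply_left a i, Equiv.swap_apply_of_ne_of_ne (Ne.symm htb) hij]
  have hπb : π b = j := Equiv.swap_apply_left (t b) j
  have hNa : e.repr v i * σ (e.repr v i) = s * σ s * A := by rw [hs', div_mul_cancel₀ _ hA0]
  refine S.axis_mono (hzax.smul S.conj.invol hs0) π (fun k => ?_) (j₀ := c) (by
    rw [map_smul, Finsupp.smul_apply, supp_subset_iff.1 hzsupp c (by simp [hc]), smul_zero])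
  simp only [map_smul, Finsupp.smul_apply, smul_eq_mul, map_mul]
  rcases eq_or_ne k a with rfl | hka
  · rw [hπa, hNa, hA]; ring
  rcases eq_or_ne k b with rfl | hkb
  · rw [hπb]
    rw [S.self_supp hsv.subset, Finset.sum_pair hij] at hv
    rw [S.self_supp hzsupp, Finset.sum_pair hab, mul_comm (σ _), ← hA] at hzz
    linear_combination hv - hNa - (s * σ s) * hzz
  · have h1 : π k ∉ supp e v := by
      rw [hsv]
      simp only [Finset.mem_insert, Finset.mem_singleton, not_or]
      exact ⟨fun h' => hka (π.injective (h'.trans hπa.symm)), fun h' => hkb (π.injective (h'.trans hπb.symm))⟩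
    rw [notMem_supp.1 h1, supp_subset_iff.1 hzsupp k (by simp [hka, hkb])]
    simp

/-- Axes of support three, from those of support two. -/
theorem axes_three (h2 : ∀ v, B v v = 0 → (supp e v).card ≤ 2 → IsTAxis M v) {v : V} (hv : B v v = 0)
    (hs : (supp e v).card ≤ 3) : IsTAxis M v := by
  classical
  rcases Nat.lt_or_ge (supp e v).card 3 with h3 | h3
  · exact h2 v hv (by omega)
  obtain ⟨a, b, c, hab, hac, hbc, hsv⟩ := Finset.card_eq_three.1 (show (supp e v).card = 3 by omega)
  set P := cspan e {a, b} with hP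
  have hPn : NondegOn B P := S.nondeg_cspan _
  set u := part e {a, b} v with hu
  set w := e.repr v c • e c with hw
  have hvuw : v = u + w := by
    refine e.repr.injective (Finsupp.ext fun k => ?_)
    rw [map_add, Finsupp.add_apply, hu, hw, repr_part, repr_smul_basis]
    by_cases hk : k ∈ supp e v
    · rw [hsv] at hk
      simp only [Finset.mem_insert, Finset.mem_singleton] at hk
      rcases hk with rfl | rfl | rfl <;> simp [hac, hbc, Ne.symm hac, Ne.symm hbc]
    · rw [notMem_supp.1 hk]
      rcases eq_or_ne k c with rfl | hkc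
      · simp [notMem_supp.1 hk]
      · simp [hkc]
  have huP : u ∈ P := mem_cspan.2 (supp_part_subset _ _)
  have hwP : w ∈ perp B P := S.mem_perp_cspan fun k hk => by
    rw [hw, repr_smul_basis, if_neg]
    rintro rfl
    simp at hk
    rcases hk with h | h
    · exact hac h.symm
    · exact hbc h.symm
  have hc0 : e.repr v c ≠ 0 := mem_supp.1 (by simp [hsv])
  have huu : B u u = -(e.repr v c * σ (e.repr v c)) := by
    have h1 := hv
    rw [hvuw, S.herm.add_self, mem_perp.1 hwP u huP, hw, S.herm.smul_self, S.on] at h1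
    simp at h1
    linear_combination h1
  have huu0 : B u u ≠ 0 := by
    rw [huu, neg_ne_zero]; exact mul_ne_zero hc0 fun h => hc0 (S.sigma_eq_zero h)
  obtain ⟨ξ, hξ⟩ := S.conj.exists_norm_eq (a := B u u) (S.herm.self_fixed u)
  have hξP : ξ • e a ∈ P := P.smul_mem _ (basis_mem_cspan (by simp))
  have hfr : finrank F P = 2 := by rw [hP, finrank_cspan, Finset.card_pair hab]
  obtain ⟨t, ⟨ht, -⟩, htx⟩ := (S.herm.restrict P).trans_plane (restrictForm_separatingRight hPn) (P := ⊤)
    (nondegOn_iff.2 fun x _ hx => restrictForm_separatingRight hPn x fun y => hx y trivial)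
    (by rw [finrank_top, hfr]) (x := ⟨u, huP⟩) (y := ⟨ξ • e a, hξP⟩) trivial trivial
    (by simp [map_smulₛₗ, S.on, ← hξ, mul_comm]) huu0
  let φ : isomGroup (restrictForm B P) →* isomGroup B :=
    (isomSum hPn.isCompl (fun _ hw' _ hu' => mem_perp.1 hu' _ hw')
      (fun _ hw' _ hu' => orth_symm S.herm.isRefl hw' hu')).comp (MonoidHom.inl _ _)
  have hφ : ∀ g, g ∈ tGroup (restrictForm B P) → φ g ∈ M := by
    intro g hg
    refine (Subgroup.closure_le (K := M.comap φ)).2 ?_ hg
    rintro r ⟨y, k, hr⟩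
    refine h2 (y : V) hr.1 (le_trans (Finset.card_le_card (mem_cspan.1 y.2)) Finset.card_le_two) _ k
      ⟨hr.1, hr.2.1, fun x => ?_⟩
    obtain ⟨a', b', rfl⟩ := exists_add_eq hPn.isCompl x
    change sumEquiv hPn.isCompl r.1 _ _ = _
    rw [sumEquiv_apply, hr.2.2, map_add, mem_perp.1 b'.2 _ y.2, add_zero]
    simp only [Submodule.coe_add, Submodule.coe_smul, restrictForm_apply]
    change _ + (b' : V) = _
    abel
  have himg : (φ t).1 v = ξ • e a + w := by
    rw [hvuw]
    change sumEquiv hPn.isCompl t.1 _ (((⟨u, huP⟩ : P) : V) + ((⟨w, hwP⟩ : perp B P) : V)) = _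
    rw [sumEquiv_apply]
    exact congrArg₂ (· + ·) (congrArg Subtype.val htx) rfl
  have hax := h2 ((φ t).1 v) ((isomGroup_apply _ v v).trans hv) (by
    rw [himg]
    refine le_trans (Finset.card_le_card (t := {a, c}) (supp_subset_iff.2 fun k hk => ?_)) Finset.card_le_two
    simp only [Finset.mem_insert, Finset.mem_singleton, not_or] at hk
    rw [hw, map_add, Finsupp.add_apply, repr_smul_basis, repr_smul_basis, if_neg hk.1, if_neg hk.2, add_zero])
  have := hax.map (M.inv_mem (hφ t ht))
  rwa [show ((φ t)⁻¹ : isomGroup B).1 ((φ t).1 v) = v from (φ t).1.symm_apply_apply v] at this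

theorem sIsom_le_of_axis (hbig : BigFixed σ) {p : V} (hpp : B p p = 0) (hp : IsTAxis M p) (hp0 : p ≠ 0)
    {j : Fin n} (hj : e.repr p j = 0) : sIsom B ≤ M := by
  refine S.herm.sIsom_le_of_axes S.sep ?_ fun v hv => S.axes_of_small (Or.inl ⟨rfl, hbig⟩) (fun w hw hs =>
    S.axes_three (fun u hu hu2 => S.axes_two hpp hp hp0 hj hu hu2) hw hs) hv
  rw [Module.finrank_eq_card_basis e, Fintype.card_fin]
  have := S.big
  omega

end FSetting

end CfsgLib.Classical.UFrameMax
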