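import Cfsg.Agent.Lib.Classical.UFrameMax.Frame

/-!
# Pairs of quasi-reflections and root groups
-/

set_option autoImplicit false
set_option linter.unusedSectionVars false

open Module

namespace CfsgLib.Classical.UFrameMax

variable {F : Type*} [Field F] [DecidableEq F] [Fintype F] {V : Type*} [AddCommGroup V] [Module F V]
  [FiniteDimensional F V] {σ : F →+* F} {B : V →ₛₗ[σ] V →ₗ[F] F}

/-- The quasi-reflection at a unit vector `x`. -/
def IsQr (g : isomGroup B) (x : V) (l : F) : Prop := ∀ u, g.1 u = u + ((l - 1) * B x u) • x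

theorem IsQr.eq {g g' : isomGroup B} {x : V} {l : F} (h : IsQr g x l) (h' : IsQr g' x l) : g = g' :=
  Subtype.ext (LinearEquiv.ext fun u => by rw [h u, h' u])

/-- The quasi-reflections at `x` and `y` agree modulo `M`. -/
def Rel (M : Subgroup (isomGroup B)) (x y : V) : Prop :=
  ∀ l : F, l * σ l = 1 → ∀ g g' : isomGroup B, IsQr g x l → IsQr g' y l → g * g'⁻¹ ∈ M

theorem Rel.symm {M : Subgroup (isomGroup B)} {x y : V} (h : Rel M x y) : Rel M y x := fun l hl g g' hg hg' => by
  simpa using M.inv_mem (h l hl g' g hg' hg)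

theorem IsQr.conj {g : isomGroup B} {x : V} {l : F} (hg : IsQr g x l) (k : isomGroup B) :
    IsQr (k * g * k⁻¹) (k.1 x) l := fun u => by
  change k.1 (g.1 ((k⁻¹ : isomGroup B).1 u)) = _
  have hu : k.1 ((k⁻¹ : isomGroup B).1 u) = u := k.1.apply_symm_apply u
  rw [hg, map_add, map_smul, hu, ← isomGroup_apply k x, hu]

theorem Rel.map {M : Subgroup (isomGroup B)} {x y : V} (h : Rel M x y) {k : isomGroup B} (hk : k ∈ M) :
    Rel M (k.1 x) (k.1 y) := fun l hl g g' hg hg' => by
  have h1 : IsQr (k⁻¹ * g * k⁻¹⁻¹) x l := by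
    have := hg.conj k⁻¹
    rwa [show (k⁻¹ : isomGroup B).1 (k.1 x) = x from k.1.symm_apply_apply x] at this
  have h2 : IsQr (k⁻¹ * g' * k⁻¹⁻¹) y l := by
    have := hg'.conj k⁻¹
    rwa [show (k⁻¹ : isomGroup B).1 (k.1 y) = y from k.1.symm_apply_apply y] at this
  have h3 := M.mul_mem (M.mul_mem hk (h l hl _ _ h1 h2)) (M.inv_mem hk)
  simpa [mul_assoc] using h3

theorem IsQr.smul_iff {g : isomGroup B} {x : V} {a l : F} (ha : a * σ a = 1) :
    IsQr g (a • x) l ↔ IsQr g x l := by
  refine forall_congr' fun u => ?_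
  rw [map_smulₛₗ, LinearMap.smul_apply, smul_eq_mul, smul_smul,
    show (l - 1) * (σ a * B x u) * a = (l - 1) * B x u by linear_combination ((l - 1) * B x u) * ha]

theorem Rel.smul_left {M : Subgroup (isomGroup B)} {x y : V} (h : Rel M x y) {a : F} (ha : a * σ a = 1) :
    Rel M (a • x) y := fun l hl g g' hg hg' => h l hl g g' ((IsQr.smul_iff ha).1 hg) hg'

theorem Rel.smul_right {M : Subgroup (isomGroup B)} {x y : V} (h : Rel M x y) {a : F} (ha : a * σ a = 1) :
    Rel M x (a • y) := fun l hl g g' hg hg' => h l hl g g' hg ((IsQr.smul_iff ha).1 hg')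

variable (h : IsHermitian B) (hN : B.SeparatingRight)
include h hN

theorem exists_qr1 {x : V} (hx : B x x = 1) {l : F} (hl : l * σ l = 1) :
    ∃ g : isomGroup B, IsQr g x l ∧ idet B g = l := by
  obtain ⟨g, hg, hgd⟩ := h.exists_qr hN (z := x) (by rw [hx]; exact one_ne_zero) hl
  exact ⟨g, fun u => by rw [hg, hx, div_one], hgd⟩

theorem Rel.trans {M : Subgroup (isomGroup B)} {x y z : V} (hy : B y y = 1) (h₁ : Rel M x y)
    (h₂ : Rel M y z) : Rel M x z := fun l hl g g' hg hg' => by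
  obtain ⟨k, hk, -⟩ := exists_qr1 h hN hy hl
  simpa [mul_assoc] using M.mul_mem (h₁ l hl g k hg hk) (h₂ l hl k g' hk hg')

omit h hN in
/-- Elements of the root group at `p` inside the group fixing `⟨w, p⟩^⊥`. -/
def IsRoot (g : isomGroup B) (w p : V) (b z : F) : Prop :=
  ∀ u, g.1 u = u + (-(σ b) * B p u) • w + (b * B w u + z * B p u) • p

theorem axis_of_rel {M : Subgroup (isomGroup B)} {w p : V} (hw : B w w = 1) (hp : B p p = 0)
    (hwp : B w p = 0) (hR : Rel M w (w + p)) : IsTAxis M p := by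
  have hpw : B p w = 0 := h.isRefl _ _ hwp
  have hc := h.conj
  let S : AddSubgroup F :=
    { carrier := {b | ∃ z, ∃ g ∈ M, IsRoot g w p b z}
      add_mem' := by
        rintro a b ⟨z, g, hg, hgr⟩ ⟨z', g', hg', hgr'⟩
        refine ⟨z + z' - a * σ b, g * g', M.mul_mem hg hg', fun u => ?_⟩
        change g.1 (g'.1 u) = _
        rw [hgr, hgr']
        simp only [map_add, map_smul, hw, hp, hwp, hpw, smul_eq_mul]
        match_scalars <;> ring
      zero_mem' := ⟨0, 1, M.one_mem, fun u => by simp⟩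
      neg_mem' := by
        rintro a ⟨z, g, hg, hgr⟩
        refine ⟨-z - a * σ a, g⁻¹, M.inv_mem hg, fun u => ?_⟩
        change g.1.symm u = _
        rw [LinearEquiv.symm_apply_eq, hgr]
        simp only [map_add, map_smul, map_neg, hw, hp, hwp, hpw, smul_eq_mul]
        match_scalars <;> ring }
  have hmem : ∀ l : F, l * σ l = 1 → 1 - σ l ∈ S := fun l hl => by
    have hv : B (w + p) (w + p) = 1 := by rw [h.add_self, hw, hp, hwp]; simp
    obtain ⟨g₁, hg₁, -⟩ := exists_qr1 h hN hw hl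
    obtain ⟨g₂, hg₂, -⟩ := exists_qr1 h hN hv hl
    refine ⟨l - 1, g₂ * g₁⁻¹, hR.symm l hl g₂ g₁ hg₂ hg₁, fun u => ?_⟩
    obtain ⟨u₁, rfl⟩ := g₁.1.surjective u
    change g₂.1 (g₁.1.symm (g₁.1 u₁)) = _
    rw [LinearEquiv.symm_apply_apply, hg₂, hg₁]
    simp only [map_add, map_smul, map_sub, map_one, hc.invol, LinearMap.add_apply, hw, hpw, smul_eq_mul]
    match_scalars
    · ring
    · ring
    · linear_combination (B w u₁) * hl
  have htop : S = ⊤ := closure_circ_eq_top hc fun l m hl hm => by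
    have hl' : σ l * σ (σ l) = 1 := by rw [hc.invol, mul_comm]; exact hl
    have hm' : σ m * σ (σ m) = 1 := by rw [hc.invol, mul_comm]; exact hm
    have h1 := S.sub_mem (hmem (σ m) hm') (hmem (σ l) hl')
    rw [hc.invol, hc.invol, sub_sub_sub_cancel_left] at h1
    exact h1
  intro t c ht
  obtain ⟨r, hr⟩ := hc.exists_trace_eq (map_one σ)
  obtain ⟨z, g, hg, hgr⟩ : (1 : F) ∈ S := by rw [htop]; trivial
  obtain ⟨z', g', hg', hgr'⟩ : c * r ∈ S := by rw [htop]; trivial
  have e : t * (g' * g) = g * g' := Subtype.ext (LinearEquiv.ext fun u => by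
    change t.1 (g'.1 (g.1 u)) = g.1 (g'.1 u)
    rw [ht.2.2, hgr, hgr' (_ : V), hgr (g'.1 u), hgr']
    simp only [map_add, map_smul, map_one, map_mul, hw, hp, hwp, hpw, smul_eq_mul]
    match_scalars
    · ring
    · ring
    · linear_combination (σ r * B p u) * ht.2.1 - (c * B p u) * hr)
  have := M.mul_mem (M.mul_mem hg hg') (M.inv_mem (M.mul_mem hg' hg))
  rwa [← e, mul_inv_cancel_right] at this

end CfsgLib.Classical.UFrameMax
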